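import Cfsg.Agent.OddOrder.BG16.Basic
import Cfsg.Agent.OddOrder.BG13.Basic
import Cfsg.Agent.Coprime.Action

/-!
# The results of BG 12-14 used in BG 15, and their first consequences

`BG14Facts G` collects the conclusions of S1421, S1429-S1432, S1366, S1369 and the cyclicity of a Hall
`κ(M)`-subgroup (S1351, second part).  From it: standard factorisations exist, `C_U(k) = 1`, `K* ≠ 1`
and `M' = U M_σ`.
-/

set_option autoImplicit false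
set_option linter.unusedVariables false
set_option linter.style.haveILetI false

namespace CfsgLib.OddOrder.BG15

open Cfsg Subgroup
open scoped commutatorElement

/-- The results of BG 12-14 used in BG 15. -/
structure BG14Facts (G : Type*) [Group G] : Prop where
  /-- BG 14.2: a Hall `κ(M)`-subgroup of `M` is cyclic. -/
  kappaCyclic : ∀ M : Subgroup G, IsCoatom M → ∀ K : Subgroup G,
    Cfsg.IsPiHallOf (Cfsg.kappa M) K M → IsCyclic K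
  /-- BG 14.3 (S1429). -/
  nonP1 : ∀ (M : Subgroup G) (hM : IsCoatom M) (hP1 : ¬ (∀ q : ℕ, q.Prime → q ∣ Nat.card M → q ∉ Cfsg.sigma M → q ∈ Cfsg.kappa M)) (p : ℕ) [Fact p.Prime] (hpM : p ∣ Nat.card M) (hp : p ∉ Cfsg.sigma M ∪ Cfsg.kappa M) (S : Sylow p M),
    Nat.card ↥(Subgroup.closure {x : G | x ∈ (S : Subgroup M).map M.subtype ∧ x ^ p = 1}) ≤ p ^ 2 ∧ Cfsg.sigmaCore M ⊓ Subgroup.centralizer ((Subgroup.closure {x : G | x ∈ (S : Subgroup M).map M.subtype ∧ x ^ p = 1} : Subgroup G) : Set G) = ⊥ ∧ Group.IsNilpotent (Cfsg.sigmaCore M)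
  /-- BG 14.2 (S1430). -/
  kappaStructure : ∀ (M : Subgroup G) (hM : IsCoatom M) (K : Subgroup G) (hK : Cfsg.IsPiHallOf (Cfsg.kappa M) K M) (hK1 : K ≠ ⊥),
    (∀ k ∈ K, k ≠ 1 → Cfsg.sigmaCore M ⊓ Subgroup.centralizer ({k} : Set G) = (Cfsg.sigmaCore M ⊓ Subgroup.centralizer (K : Set G))) ∧ (∃ U : Subgroup G, IsMulCommutative U ∧ Cfsg.IsPiHallOf {q | q.Prime ∧ q ∉ Cfsg.kappa M ∧ q ∉ Cfsg.sigma M} U M ∧ K ≤ Subgroup.normalizer (U : Set G) ∧ ∀ k ∈ K, k ≠ 1 → U ⊓ Subgroup.centralizer ({k} : Set G) = ⊥) ∧ ∀ X : Subgroup G, X ≤ K → (Nat.card X).Prime → M ⊓ Subgroup.normalizer (X : Set G) = K ⊔ (Cfsg.sigmaCore M ⊓ Subgroup.centralizer (K : Set G)) ∧ M ⊓ Subgroup.normalizer (K : Set G) = K ⊔ (Cfsg.sigmaCore M ⊓ Subgroup.centralizer (K : Set G)) ∧ ∀ Mstar : Subgroup G, IsCoatom Mstar → Subgroup.normalizer (X : Set G) ≤ Mstar → X ≤ Cfsg.sigmaCore Mstar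
  /-- BG 14.2 (S1431). -/
  kappaUnique : ∀ (M : Subgroup G) (hM : IsCoatom M) (K : Subgroup G) (hK : Cfsg.IsPiHallOf (Cfsg.kappa M) K M) (hK1 : K ≠ ⊥),
    (∀ g : G, g ∉ M → (Cfsg.sigmaCore M ⊓ Subgroup.centralizer (K : Set G)) ⊓ M.map (MulAut.conj g).toMonoidHom = ⊥) ∧ (∀ g ∈ M, g ∉ K ⊔ (Cfsg.sigmaCore M ⊓ Subgroup.centralizer (K : Set G)) → K ⊓ K.map (MulAut.conj g).toMonoidHom = ⊥) ∧ (∀ (p : ℕ), p.Prime → p ∣ Nat.card ↥(Cfsg.sigmaCore M ⊓ Subgroup.centralizer (K : Set G)) → ∀ S : Sylow p ↥(Cfsg.sigmaCore M), Cfsg.InUniqueMaximal ((S : Subgroup ↥(Cfsg.sigmaCore M)).map (Cfsg.sigmaCore M).subtype) ∧ (S : Subgroup ↥(Cfsg.sigmaCore M)).map (Cfsg.sigmaCore M).subtype ≤ M ∧ ¬ (S : Subgroup ↥(Cfsg.sigmaCore M)).map (Cfsg.sigmaCore M).subtype ≤ (Cfsg.sigmaCore M ⊓ Subgroup.centralizer (K : Set G))) ∧ ∀ Y : Subgroup G, (∀ p : ℕ, p.Prime → p ∣ Nat.card Y → p ∈ Cfsg.sigma M)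 → Y ⊓ (Cfsg.sigmaCore M ⊓ Subgroup.centralizer (K : Set G)) ≠ ⊥ → Y ≤ Cfsg.sigmaCore M
  /-- BG 14.4 (S1432). -/
  sigmaPrimeCentralizer : ∀ (M : Subgroup G) (hM : IsCoatom M) (x : G) (hx : x ∈ Cfsg.sigmaCore M) (hx1 : x ≠ 1) (x' : G) (hx' : x' ∈ M ⊓ Subgroup.centralizer ({x} : Set G)) (hx'1 : x' ≠ 1) (hσ : ∀ p : ℕ, p.Prime → p ∣ orderOf x' → p ∉ Cfsg.sigma M),
    ((∀ p : ℕ, p.Prime → p ∣ orderOf x' → p ∈ Cfsg.kappa M) ∧ Subgroup.centralizer ({x} : Set G) ≤ M) ∨ ((∀ p : ℕ, p.Prime → p ∣ orderOf x' → p ∈ Cfsg.tau2 M) ∧ (∃ L : Subgroup G, IsCoatom L ∧ ∀ p : ℕ, p.Prime → p ∣ orderOf x' → p ∈ Cfsg.sigma L) ∧ (Subgroup.centralizer ({x'} : Set G) ≤ M ∧ ∀ L : Subgroup G, IsCoatom L → Subgroup.centralizer ({x'} : Set G) ≤ L → L = M))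
  /-- BG 12.13 (S1421). -/
  regularExponent : ∀ (M : Subgroup G) (hM : IsCoatom M) (E : Subgroup G) (hE : Cfsg.IsComplIn E (Cfsg.sigmaCore M) M) (h : ∀ e ∈ E, e ≠ 1 → (∀ p : ℕ, p.Prime → p ∣ orderOf e → p ∈ Cfsg.tau1 M ∪ Cfsg.tau3 M) → Cfsg.sigmaCore M ⊓ Subgroup.centralizer ({e} : Set G) = ⊥),
    (∃ A₀ : Subgroup G, A₀ ≤ E ∧ E ≤ Subgroup.normalizer (A₀ : Set G) ∧ IsMulCommutative A₀ ∧ ∀ x ∈ Cfsg.sigmaCore M, x ≠ 1 → E ⊓ Subgroup.centralizer ({x} : Set G) ≤ A₀) ∧ ∃ E₀ : Subgroup G, E₀ ≤ E ∧ Monoid.exponent E₀ = Monoid.exponent E ∧ ∀ e ∈ E₀, e ≠ 1 → Cfsg.sigmaCore M ⊓ Subgroup.centralizer ({e} : Set G) = ⊥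
  /-- BG 14.7 (S1366). -/
  starExists : ∀ (M : Subgroup G) (hM : IsCoatom M) (K U : Subgroup G) (hKU : Cfsg.IsSigmaDecomposition M K U) (hK1 : K ≠ ⊥),
    ∃! Mstar : Subgroup G, IsCoatom Mstar ∧ K = Cfsg.sigmaCore Mstar ⊓ Subgroup.centralizer ((Cfsg.sigmaCore M ⊓ Subgroup.centralizer (K : Set G)) : Set G) ∧ Cfsg.IsPiHallOf (Cfsg.kappa Mstar) (Cfsg.sigmaCore M ⊓ Subgroup.centralizer (K : Set G)) Mstar
  /-- BG 14.7 (S1369). -/
  starClasses : ∀ (M : Subgroup G) (hM : IsCoatom M) (K U : Subgroup G) (hKU : Cfsg.IsSigmaDecomposition M K U) (hK1 : K ≠ ⊥) (Mstar : Subgroup G) (hMstar : IsCoatom Mstar) (hKst : K = Cfsg.sigmaCore Mstar ⊓ Subgroup.centralizer ((Cfsg.sigmaCore M ⊓ Subgroup.centralizer (K : Set G)) : Set G)) (hKstH : Cfsg.IsPiHallOf (Cfsg.kappa Mstar) (Cfsg.sigmaCore M ⊓ Subgroup.centralizer (K : Set G)) Mstar),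
    (U ≠ ⊥ ∨ ∀ Ustar : Subgroup G, Cfsg.IsSigmaDecomposition Mstar (Cfsg.sigmaCore M ⊓ Subgroup.centralizer (K : Set G)) Ustar → Ustar ≠ ⊥) ∧ ∀ H : Subgroup G, IsCoatom H → (Cfsg.kappa H).Nonempty → ∃ g : G, H = M.map (MulAut.conj g).toMonoidHom ∨ H = Mstar.map (MulAut.conj g).toMonoidHom

variable {G : Type*} [Group G] [Finite G] {M K U : Subgroup G}

/-- A Hall `κ(M)`-subgroup belongs to a standard factorisation. -/
theorem exists_sigmaDecomposition_of_hall (F : BG14Facts G) (hG : Cfsg.IsMinSimpleOddOrder G)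
    (hM : IsCoatom M) (hK : Cfsg.IsPiHallOf (Cfsg.kappa M) K M) :
    ∃ U : Subgroup G, Cfsg.IsSigmaDecomposition M K U := by
  set π : Set ℕ := {q | q.Prime ∧ q ∉ Cfsg.kappa M ∧ q ∉ Cfsg.sigma M} with hπ
  obtain ⟨U, hU, hn⟩ : ∃ U, Cfsg.IsPiHallOf π U M ∧ K ≤ normalizer (U : Set G) := by
    by_cases hK1 : K = ⊥
    · exact (exists_isPiHallOf π (minSimple_coatom_solvable hG hM)).imp
        fun U h => ⟨h, hK1 ▸ bot_le⟩
    · obtain ⟨U, -, h, hn, -⟩ := (F.kappaStructure M hM K hK hK1).2.1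
      exact ⟨U, h, hn⟩
  have hS := (sigmaCore_isHall hG hM).1
  refine ⟨U, F.kappaCyclic M hM K hK, hK,
    BG16.isComplIn_of_card hU.1 (sup_le hK.1 (sigmaCore_le M)) ?_ ?_, hn⟩
  · refine Coprime.inf_eq_bot_of_coprime (Nat.coprime_of_dvd fun r hr h1 h2 => ?_)
    rw [BG16.card_sup_sigmaCore hK] at h2
    exact (hr.dvd_mul.1 h2).elim (fun h => (hU.2.1 r hr h1).2.1 (hK.2.1 r hr h))
      fun h => (hU.2.1 r hr h1).2.2 (isPiSubgroup_sigmaCore M r hr h)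
  · rw [BG16.card_sup_sigmaCore hK]
    have hUK : (Nat.card U).Coprime (Nat.card K) := Nat.coprime_of_dvd fun r hr h1 h2 =>
      (hU.2.1 r hr h1).2.1 (hK.2.1 r hr h2)
    have hUS : (Nat.card U).Coprime (Nat.card (Cfsg.sigmaCore M)) :=
      Nat.coprime_of_dvd fun r hr h1 h2 =>
        (hU.2.1 r hr h1).2.2 (isPiSubgroup_sigmaCore M r hr h2)
    have hKS : (Nat.card K).Coprime (Nat.card (Cfsg.sigmaCore M)) :=
      Nat.coprime_of_dvd fun r hr h1 h2 =>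
        (hK.2.1 r hr h1).2.2.1 (isPiSubgroup_sigmaCore M r hr h2)
    obtain ⟨t, ht⟩ := (hUK.mul_right hUS).mul_dvd_of_dvd_of_dvd (card_dvd_of_le hU.1)
      (hKS.mul_dvd_of_dvd_of_dvd (card_dvd_of_le hK.1) (card_dvd_of_le hS.1))
    suffices t = 1 by rw [ht, this, mul_one]
    refine Nat.eq_one_iff_not_exists_prime_dvd.2 fun r hr hd => ?_
    have key : ∀ {A : Subgroup G} {n : ℕ}, A ≤ M → Nat.card M = Nat.card A * (n * t) →
        r ∣ A.relIndex M := fun {A n} hA h =>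
      (Nat.eq_of_mul_eq_mul_left (Nat.card_pos (α := A)) ((card_mul_relIndex hA).trans h)) ▸
        hd.mul_left _
    exact hU.2.2 r hr ⟨hr,
      fun h => hK.2.2 r hr h (key (n := Nat.card U * Nat.card (Cfsg.sigmaCore M)) hK.1
        (by rw [ht]; ring)),
      fun h => hS.2.2 r hr h (key (n := Nat.card U * Nat.card K) hS.1 (by rw [ht]; ring))⟩
      (key (n := Nat.card K * Nat.card (Cfsg.sigmaCore M)) hU.1 (by rw [ht]; ring))

/-- `M` has a standard factorisation. -/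
theorem exists_sigmaDecomposition (F : BG14Facts G) (hG : Cfsg.IsMinSimpleOddOrder G)
    (hM : IsCoatom M) : ∃ K U : Subgroup G, Cfsg.IsSigmaDecomposition M K U :=
  let ⟨K, hK⟩ := exists_isPiHallOf (Cfsg.kappa M) (minSimple_coatom_solvable hG hM)
  ⟨K, exists_sigmaDecomposition_of_hall F hG hM hK⟩

/-- `C_U(k) = 1` for every `k ∈ K`, `k ≠ 1`. -/
theorem U_inf_centralizer_eq_bot (F : BG14Facts G) (hM : IsCoatom M)
    (h : Cfsg.IsSigmaDecomposition M K U) {k : G} (hk : k ∈ K) (hk1 : k ≠ 1) :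
    U ⊓ centralizer ({k} : Set G) = ⊥ := by
  have hK1 : K ≠ ⊥ := fun e => hk1 (by rwa [e, mem_bot] at hk)
  obtain ⟨p, y, hp, hy, hyp⟩ := BG16.exists_zpow_prime_order hk1
  have hX := ((F.kappaStructure M hM K h.hall hK1).2.2 (zpowers y)
    (zpowers_le.2 (zpowers_le.2 hk hy)) (by rw [Nat.card_zpowers, hyp]; exact hp)).1
  rw [← le_bot_iff, ← h.compl.2.2.1]
  refine le_inf inf_le_left ((inf_le_inf_right _ h.compl.1).trans ?_)
  refine (inf_le_inf_left M ((BG16.centralizer_le_of_mem_zpowers hy).trans ?_)).trans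
    (hX.le.trans (sup_le_sup_left inf_le_left _))
  rw [← centralizer_closure, ← zpowers_eq_closure]
  exact centralizer_le_normalizer _

/-- `K* ≠ 1`. -/
theorem kappaStar_ne_bot (F : BG14Facts G) (hM : IsCoatom M)
    (hK : Cfsg.IsPiHallOf (Cfsg.kappa M) K M) (hK1 : K ≠ ⊥) :
    Cfsg.sigmaCore M ⊓ centralizer (K : Set G) ≠ ⊥ := by
  obtain ⟨q, hq⟩ := (BG16.K_ne_bot_iff hK).1 hK1
  haveI := Fact.mk hq.1
  obtain ⟨T, hT⟩ := exists_isSylowIn q K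
  have hTM : CfsgLib.ConjFunctor.IsSylowIn q T M := by
    refine ⟨hT.le.trans hK.1, hT.isPGroup, fun hd => ?_⟩
    rw [← relIndex_mul_relIndex T K M hT.le hK.1] at hd
    exact (hq.1.dvd_mul.1 hd).elim hT.not_dvd (hK.2.2 q hq.1 hq)
  obtain ⟨-, x, hxP, hx1, y, hy, hy1, hc⟩ := hq.2.2.2 ((hT.isPGroup.comap_subtype (K := M)).toSylow
    (show ¬ q ∣ (T.subgroupOf M).index from hTM.not_dvd))
  rw [← (F.kappaStructure M hM K hK hK1).1 x (hT.le hxP) fun e => hx1 (Subtype.ext e)]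
  exact ne_bot_iff_exists_ne_one.2 ⟨⟨y, hy, mem_centralizer_singleton_iff.2 hc.symm⟩,
    fun e => hy1 (congrArg Subtype.val e)⟩

/-- For `K ≠ 1`: `M' = U M_σ`. -/
theorem commutator_eq_sup (F : BG14Facts G) (hG : Cfsg.IsMinSimpleOddOrder G) (hM : IsCoatom M)
    (h : Cfsg.IsSigmaDecomposition M K U) (hK : K ≠ ⊥) :
    ⁅M, M⁆ = U ⊔ Cfsg.sigmaCore M := by
  refine le_antisymm ?_ (sup_le ?_ (sigmaCore_le_commutator hG hM))
  · have hsup : M = (U ⊔ Cfsg.sigmaCore M) ⊔ K := by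
      conv_lhs => rw [← BG16.sup_eq_of_isComplIn h.compl]
      ac_rfl
    have hKK : ⁅K, K⁆ = ⊥ := by
      haveI := h.cyclic
      exact commutator_eq_bot_iff_le_centralizer.2
        (le_centralizer_iff_isMulCommutative.2 inferInstance)
    simpa [hKK] using BG13.commutator_le_sup_commutator (BG16.le_normalizer_U_sup h) hsup
  · obtain ⟨⟨k, hk⟩, hk1⟩ := ne_bot_iff_exists_ne_one.1 hK
    have hcop : (Nat.card K).Coprime (Nat.card U) := Nat.coprime_of_dvd fun r hr h1 h2 =>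
      (BG16.not_sigma_of_dvd_U hG hM h hr h2).2 (h.hall.2.1 r hr h1)
    have hfix : U ⊓ centralizer (K : Set G) = ⊥ :=
      le_bot_iff.1 ((inf_le_inf_left U (centralizer_le (Set.singleton_subset_iff.2 hk))).trans
        (U_inf_centralizer_eq_bot F hM h hk fun e => hk1 (Subtype.ext e)).le)
    have hU : U ≠ ⊤ := fun e => hM.1 (top_le_iff.1 (e ▸ h.compl.1))
    calc U = ⁅U, K⁆ ⊔ (U ⊓ centralizer (K : Set G)) := (Coprime.commutator_sup_centralizer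
          h.normal hcop (Or.inr (minSimple_solvable hG hU))).symm
      _ ≤ ⁅M, M⁆ := by
          rw [hfix, sup_bot_eq]; exact commutator_mono h.compl.1 h.hall.1

end CfsgLib.OddOrder.BG15
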