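import Cfsg.Agent.OddOrder.BG15.FittingHall

/-!
# Hall subgroups of a subgroup of the ambient group; fusion in a group nilpotent over a normal Hall
subgroup
-/

set_option autoImplicit false
set_option linter.style.haveILetI false

namespace CfsgLib.OddOrder

open Cfsg Subgroup CfsgLib
open scoped Pointwise

variable {G : Type*} [Group G] [Finite G] {π : Set ℕ}

theorem isPiHall_subgroupOf_iff {H M : Subgroup G} (hHM : H ≤ M) :
    Cfsg.IsPiHall π (H.subgroupOf M) ↔ Cfsg.IsPiHallOf π H M := by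
  unfold Cfsg.IsPiHall Cfsg.IsPiHallOf
  rw [Nat.card_congr (subgroupOfEquivOfLe hHM).toEquiv]
  exact ⟨fun h => ⟨hHM, h⟩, fun h => h.2⟩

theorem isPiHallOf_map_subtype {M : Subgroup G} {H : Subgroup M} (hH : Cfsg.IsPiHall π H) :
    Cfsg.IsPiHallOf π (H.map M.subtype) M := by
  refine (isPiHall_subgroupOf_iff (map_subtype_le _)).1 ?_
  rwa [show (H.map M.subtype).subgroupOf M = H from
    comap_map_eq_self_of_injective M.subtype_injective _]

/-- In a solvable subgroup every π-subgroup lies in a Hall π-subgroup. -/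
theorem exists_isPiHallOf_ge {M U : Subgroup G} (hM : Group.IsSolvable M) (hUM : U ≤ M)
    (hU : IsPiSubgroup π U) : ∃ H : Subgroup G, Cfsg.IsPiHallOf π H M ∧ U ≤ H := by
  haveI := hM
  obtain ⟨H, hH, hle⟩ := Solvable.exists_isPiHall_ge (U := U.subgroupOf M) (π := π)
    (isPiSubgroup_subgroupOf hU)
  exact ⟨_, isPiHallOf_map_subtype hH, fun u hu => ⟨⟨u, hUM hu⟩, hle (mem_subgroupOf.2 hu), rfl⟩⟩

theorem exists_isPiHallOf (π : Set ℕ) {M : Subgroup G} (hM : Group.IsSolvable M) :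
    ∃ H : Subgroup G, Cfsg.IsPiHallOf π H M :=
  (exists_isPiHallOf_ge (U := ⊥) hM bot_le (isPiSubgroup_bot π)).imp fun _ h => h.1

/-- In a solvable subgroup every π-subgroup is conjugate into a given Hall π-subgroup. -/
theorem exists_conj_le_isPiHallOf {M U H : Subgroup G} (hM : Group.IsSolvable M) (hUM : U ≤ M)
    (hU : IsPiSubgroup π U) (hH : Cfsg.IsPiHallOf π H M) :
    ∃ m ∈ M, U.map (MulAut.conj m).toMonoidHom ≤ H := by
  haveI := hM
  obtain ⟨m, hm⟩ := Solvable.exists_conj_le_isPiHall (π := π) ((isPiHall_subgroupOf_iff hH.1).2 hH)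
    (U := U.subgroupOf M) (isPiSubgroup_subgroupOf hU)
  refine ⟨m, m.2, ?_⟩
  rintro _ ⟨u, hu, rfl⟩
  have h := hm (Solvable.conj_mem_conj_smul (g := m) (x := ⟨u, hUM hu⟩) (mem_subgroupOf.2 hu))
  exact mem_subgroupOf.1 h

theorem isPiHallOf_map_conj {M H : Subgroup G} (hH : Cfsg.IsPiHallOf π H M) (g : G) :
    Cfsg.IsPiHallOf π (H.map (MulAut.conj g).toMonoidHom) (M.map (MulAut.conj g).toMonoidHom) := by
  refine ⟨map_mono hH.1, isPiSubgroup_map _ hH.2.1, fun r hr hrπ hd => hH.2.2 r hr hrπ ?_⟩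
  rwa [Subgroup.relIndex_map_map_of_injective _ _ (MulAut.conj g).injective] at hd

/-- A Hall π-subgroup contains any larger π-subgroup. -/
theorem le_of_isPiHallOf_le {M H K : Subgroup G} (hH : Cfsg.IsPiHallOf π H M) (hHK : H ≤ K)
    (hKM : K ≤ M) (hK : IsPiSubgroup π K) : K ≤ H :=
  relIndex_eq_one.1 <| Nat.eq_one_iff_not_exists_prime_dvd.2 fun r hr hd =>
    hH.2.2 r hr (hK r hr (hd.trans (relIndex_dvd_card _ _)))
      (hd.trans ⟨K.relIndex M, (Subgroup.relIndex_mul_relIndex H K M hHK hKM).symm⟩)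

theorem coprime_relIndex_of_isPiHallOf {M H : Subgroup G} (hH : Cfsg.IsPiHallOf π H M) :
    (Nat.card H).Coprime (H.relIndex M) :=
  Nat.coprime_of_dvd fun r hr h1 h2 => hH.2.2 r hr (hH.2.1 r hr h1) h2

/-- A normal Hall π-subgroup and a Hall π'-subgroup are complements. -/
theorem isComplIn_of_isPiHallOf {ρ : Set ℕ} {M N E : Subgroup G} (hn : M ≤ normalizer (N : Set G))
    (hN : Cfsg.IsPiHallOf π N M) (hE : Cfsg.IsPiHallOf ρ E M)
    (hρ : ∀ r : ℕ, r.Prime → (r ∈ ρ ↔ r ∉ π)) : Cfsg.IsComplIn E N M := by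
  have hsup : N ⊔ E = M := by
    refine le_antisymm (sup_le hN.1 hE.1) (relIndex_eq_one.1 ?_)
    refine Nat.eq_one_iff_not_exists_prime_dvd.2 fun r hr hd => ?_
    by_cases hrπ : r ∈ π
    · exact hN.2.2 r hr hrπ (hd.trans (relIndex_dvd_of_le_left _ le_sup_left))
    · exact hE.2.2 r hr ((hρ r hr).2 hrπ) (hd.trans (relIndex_dvd_of_le_left _ le_sup_right))
  refine ⟨hE.1, hN.1, inf_eq_bot_of_coprime (Nat.coprime_of_dvd fun r hr h1 h2 =>
    (hρ r hr).1 (hE.2.1 r hr h1) (hN.2.1 r hr h2)), fun m hm => ?_⟩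
  have hm' : m ∈ E ⊔ N := by rw [sup_comm, hsup]; exact hm
  rw [← SetLike.mem_coe, Subgroup.coe_mul_of_left_le_normalizer_right _ _ (hE.1.trans hn)] at hm'
  obtain ⟨a, ha, b, hb, rfl⟩ := hm'
  exact ⟨a, ha, b, hb, rfl⟩

/-- If `A` and `B` normalize each other's conjugates, `g` normalizes their join. -/
theorem mem_normalizer_sup {A B : Subgroup G} {g : G} (hA : g ∈ normalizer (A : Set G))
    (hB : g ∈ normalizer (B : Set G)) : g ∈ normalizer ((A ⊔ B : Subgroup G) : Set G) := by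
  rw [mem_normalizer_iff_map_conj_eq] at hA hB ⊢
  rw [Subgroup.map_sup, hA, hB]

/-- In a nilpotent group every Hall subgroup is normal. -/
theorem le_normalizer_of_nilpotent_hall {D H : Subgroup G} (hDn : Group.IsNilpotent D) (hHD : H ≤ D)
    (hH : (Nat.card H).Coprime (H.relIndex D)) :
    D ≤ normalizer (H : Set G) := by
  set ρ : Set ℕ := {r | r ∣ Nat.card H} with hρ
  have h1 : H ≤ Cfsg.piCoreOf ρ D := nilpotent_le_piCoreOf hDn hHD fun r _ hd => hd
  have hHall : Cfsg.IsPiHallOf ρ H D := ⟨hHD, fun r _ hd => hd,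
    fun r hr hrρ hd => hr.not_dvd_one (hH ▸ Nat.dvd_gcd hrρ hd)⟩
  rw [le_antisymm h1 (le_of_isPiHallOf_le hHall h1 (piCoreOf_le _ _) (isPiSubgroup_piCoreOf _ _))]
  exact le_normalizer_piCoreOf _ _

/-- Fusion in a Hall subgroup `H` of a solvable group `S` with a normal subgroup `Q` and a nilpotent
complement `D` of coprime order, when `Q ≤ H` or `#Q` is prime to `#H`: conjugacy in `S` is controlled
by `N_S(H)`. -/
theorem hall_fusion {S Q D H : Subgroup G} (hS : Group.IsSolvable S)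
    (hn : S ≤ normalizer (Q : Set G)) (hD : Cfsg.IsComplIn Q D S) (hDn : Group.IsNilpotent D)
    (hcop : (Nat.card Q).Coprime (Nat.card D)) (hHS : H ≤ S)
    (hHall : (Nat.card H).Coprime (H.relIndex S))
    (hQH : Q ≤ H ∨ (Nat.card Q).Coprime (Nat.card H)) {x s : G} (hx : x ∈ H) (hs : s ∈ S)
    (hy : s * x * s⁻¹ ∈ H) :
    ∃ n ∈ S ⊓ normalizer (H : Set G), n * x * n⁻¹ = s * x * s⁻¹ := by
  obtain ⟨hQS, hDS, hQD, hprod⟩ := hD
  set ρ : Set ℕ := {r | r ∣ Nat.card H} with hρ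
  have hHallρ : Cfsg.IsPiHallOf ρ H S := ⟨hHS, fun r _ hd => hd,
    fun r hr hrρ hd => hr.not_dvd_one (hHall ▸ Nat.dvd_gcd hrρ hd)⟩
  rcases hQH with hQH | hQH
  · -- `H` is normal in `S`
    set R := Cfsg.piCoreOf ρ D with hR
    have hle : H ≤ Q ⊔ R := by
      intro h hh
      obtain ⟨a, ha, d, hd, rfl⟩ := hprod h (hHS hh)
      have hdH : d ∈ H := by simpa using mul_mem (inv_mem (hQH ha)) hh
      exact mul_mem_sup ha (nilpotent_le_piCoreOf hDn (inf_le_right : H ⊓ D ≤ D)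
        (isPiSubgroup_mono inf_le_left fun r _ hd => hd) ⟨hdH, hd⟩)
    have hπ : IsPiSubgroup ρ (Q ⊔ R) := by
      rw [sup_comm]
      exact isPiSubgroup_sup (((piCoreOf_le _ _).trans hDS).trans hn) (isPiSubgroup_piCoreOf _ _)
        (isPiSubgroup_mono hQH fun r _ hd => hd)
    have heq : H = Q ⊔ R := le_antisymm hle
      (le_of_isPiHallOf_le hHallρ hle (sup_le hQS ((piCoreOf_le _ _).trans hDS)) hπ)
    refine ⟨s, ⟨hs, ?_⟩, rfl⟩
    obtain ⟨a, ha, d, hd, rfl⟩ := hprod s hs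
    exact mul_mem (le_normalizer (hQH ha))
      (heq ▸ mem_normalizer_sup (hn (hDS hd)) (le_normalizer_piCoreOf ρ D hd))
  · -- `H` lies in a conjugate of `D`
    have hDhall : Cfsg.IsPiHallOf {r | r ∣ Nat.card D} D S := by
      refine ⟨hDS, fun r _ hd => hd, fun r hr hrD hd => ?_⟩
      have h1 : Nat.card D * D.relIndex S = Nat.card Q * Nat.card D := by
        rw [card_mul_relIndex hDS, compl_card ⟨hQS, hDS, hQD, hprod⟩]
      rw [mul_comm (Nat.card Q)] at h1
      rw [Nat.eq_of_mul_eq_mul_left Nat.card_pos h1] at hd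
      exact hr.not_dvd_one (hcop ▸ Nat.dvd_gcd hd hrD)
    have hHπ : IsPiSubgroup {r | r ∣ Nat.card D} H := by
      intro r hr hd
      have h1 : r ∣ Nat.card Q * Nat.card D := by
        rw [compl_card ⟨hQS, hDS, hQD, hprod⟩]; exact hd.trans (card_dvd_of_le hHS)
      exact (hr.dvd_mul.1 h1).resolve_left fun h => hr.not_dvd_one (hQH ▸ Nat.dvd_gcd h hd)
    obtain ⟨t, ht, htH⟩ := exists_conj_le_isPiHallOf hS hHS hHπ hDhall
    set D' := D.map (MulAut.conj t⁻¹).toMonoidHom with hD'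
    have hHD' : H ≤ D' := fun h hh => by
      rw [hD', mem_map_conj_iff, inv_inv]
      exact htH ⟨h, hh, rfl⟩
    have hD'n : Group.IsNilpotent D' := by
      haveI := hDn
      exact Group.nilpotent_of_mulEquiv (D.equivMapOfInjective _ (MulAut.conj t⁻¹).injective)
    have hD'S : D' ≤ S := by
      rintro _ ⟨d, hd, rfl⟩
      exact mul_mem (mul_mem (inv_mem ht) (hDS hd)) (inv_mem (inv_mem ht))
    have hQD' : Q ⊓ D' = ⊥ := inf_eq_bot_of_coprime (by rw [hD', card_map_conj]; exact hcop)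
    have hHN : D' ≤ normalizer (H : Set G) := le_normalizer_of_nilpotent_hall hD'n hHD'
      (hHall.coprime_dvd_right
        ⟨D'.relIndex S, (Subgroup.relIndex_mul_relIndex H D' S hHD' hD'S).symm⟩)
    obtain ⟨a, ha, d, hd, hs'⟩ := hprod (t * s * t⁻¹) (mul_mem (mul_mem ht hs) (inv_mem ht))
    set a' := t⁻¹ * a * t with ha'
    set d' := t⁻¹ * d * t with hd'
    have hs'' : s = a' * d' := by
      rw [ha', hd']
      calc s = t⁻¹ * (t * s * t⁻¹) * t := by group
        _ = t⁻¹ * (a * d) * t := by rw [hs']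
        _ = _ := by group
    have ha'Q : a' ∈ Q := by
      have := (mem_normalizer_iff.1 (hn (inv_mem ht)) a).1 ha
      simpa [ha', mul_assoc] using this
    have hd'D : d' ∈ D' := ⟨d, hd, by simp [hd', mul_assoc]⟩
    set z := d' * x * d'⁻¹ with hz
    have hzH : z ∈ H := (mem_normalizer_iff.1 (hHN hd'D) x).1 hx
    refine ⟨d', ⟨hD'S hd'D, hHN hd'D⟩, ?_⟩
    have hyz : s * x * s⁻¹ = a' * z * a'⁻¹ := by rw [hs'', hz]; group
    have hmem : a' * z * a'⁻¹ * z⁻¹ ∈ Q ⊓ D' := by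
      refine ⟨?_, ?_⟩
      · have h1 : z * a'⁻¹ * z⁻¹ ∈ Q :=
          (mem_normalizer_iff.1 (hn (hHS hzH)) _).1 (Q.inv_mem ha'Q)
        simpa [mul_assoc] using mul_mem ha'Q h1
      · exact D'.mul_mem (hyz ▸ hHD' hy) (D'.inv_mem (hHD' hzH))
    rw [hQD', mem_bot, mul_inv_eq_one] at hmem
    rw [hyz, hmem]

end CfsgLib.OddOrder
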