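import Cfsg.Agent.OddOrder.BG15.Kappa
import Cfsg.Agent.OddOrder.BG14.Pair
import Cfsg.Agent.OddOrder.BG14.Assemble
import Cfsg.Agent.S1366
import Cfsg.Agent.S1369
import Cfsg.Agent.S1421
import Cfsg.Agent.S1429
import Cfsg.Agent.S1430
import Cfsg.Agent.S1431
import Cfsg.Agent.S1432

/-! # `BG14Facts` holds -/

set_option autoImplicit false

namespace CfsgLib.OddOrder.BG15

open Cfsg.Agent

variable {G : Type*} [Group G] [Finite G]

theorem bg14Facts (hG : Cfsg.IsMinSimpleOddOrder G) : BG14Facts G where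
  kappaCyclic M hM K hK := BG14.kappa_hall_isCyclic (BG14.bg13Facts hG) hG hM hK
  nonP1 M hM hP1 p _ hpM hp S := S1429.result hG M hM hP1 p hpM hp S
  kappaStructure M hM K hK hK1 := S1430.result hG M hM K hK hK1
  kappaUnique M hM K hK hK1 := S1431.result hG M hM K hK hK1
  sigmaPrimeCentralizer M hM x hx hx1 x' hx' hx'1 hσ :=
    S1432.result hG M hM x hx hx1 x' hx' hx'1 hσ
  regularExponent M hM E hE h := S1421.result hG M hM E hE h
  starExists M hM K U hKU hK1 := S1366.result hG M hM K U hKU hK1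
  starClasses M hM K U hKU hK1 Mstar hMstar hKst hKstH :=
    S1369.result hG M hM K U hKU hK1 Mstar hMstar hKst hKstH

end CfsgLib.OddOrder.BG15
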