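import Cfsg.Agent.OddOrder.BG8.Bender
import Cfsg.Agent.OddOrder.BG5.Basic
import Cfsg.Agent.OddOrder.BG7.Rank
import Cfsg.Agent.NilpotentCover.Basic
import Cfsg.Agent.Solvable.FrobeniusBasic
import Mathlib.GroupTheory.SpecificGroups.ZGroup

/-!
# Nilpotent subgroups through their Sylow subgroups, and small tools for BG 15.7
-/

set_option autoImplicit false
set_option linter.style.haveILetI false

namespace CfsgLib.OddOrder.BG15

open Cfsg Subgroup

variable {G : Type*} [Group G] [Finite G]

/-- An element of a nilpotent group centralizes its subgroups of coprime order. -/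
theorem mem_centralizer_of_coprime {A Q : Subgroup G} (hA : Group.IsNilpotent A) (hQ : Q ≤ A)
    {x : G} (hx : x ∈ A) (h : (orderOf x).Coprime (Nat.card Q)) :
    x ∈ centralizer (Q : Set G) := by
  refine mem_centralizer_iff.2 fun y hy => ?_
  exact (NilpotentCover.commute_of_coprime_mem hA hx (hQ hy)
    (h.coprime_dvd_right (by simpa using orderOf_dvd_natCard (⟨y, hy⟩ : Q)))).symm.eq

/-- Subgroups of coprime order in a nilpotent group centralize each other. -/
theorem le_centralizer_of_coprime {A P Q : Subgroup G} (hA : Group.IsNilpotent A) (hP : P ≤ A)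
    (hQ : Q ≤ A) (h : (Nat.card P).Coprime (Nat.card Q)) : P ≤ centralizer (Q : Set G) :=
  fun x hx => mem_centralizer_of_coprime hA hQ (hP hx)
    (h.coprime_dvd_left (by simpa using orderOf_dvd_natCard (⟨x, hx⟩ : P)))

/-- A nilpotent group centralizes `A` when each of its primary components does. -/
theorem le_centralizer_of_forall_piCoreOf {H A : Subgroup G} (hH : Group.IsNilpotent H)
    (h : ∀ r : ℕ, r.Prime → r ∣ Nat.card H →
      Cfsg.piCoreOf ({r} : Set ℕ) H ≤ centralizer (A : Set G)) :
    H ≤ centralizer (A : Set G) := by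
  suffices hidx : ((centralizer (A : Set G)).subgroupOf H).index = 1 from
    subgroupOf_eq_top.1 (index_eq_one.1 hidx)
  by_contra hne
  obtain ⟨r, hr, hd⟩ := Nat.exists_prime_and_dvd hne
  haveI := Fact.mk hr
  obtain ⟨P⟩ : Nonempty (Sylow r H) := Sylow.nonempty
  refine P.not_dvd_index (hd.trans (index_dvd_of_le fun x hx => mem_subgroupOf.2 ?_))
  refine h r hr (hd.trans (index_dvd_card _)) (nilpotent_le_piCoreOf hH (map_subtype_le _) ?_
    ⟨x, hx, rfl⟩)
  exact isPiSubgroup_of_isPGroup (P.isPGroup'.map _) (Set.mem_singleton r)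

/-- A nilpotent group with commutative primary components is commutative. -/
theorem isMulCommutative_of_forall_piCoreOf {H : Subgroup G} (hH : Group.IsNilpotent H)
    (h : ∀ r : ℕ, r.Prime → r ∣ Nat.card H → IsMulCommutative (Cfsg.piCoreOf ({r} : Set ℕ) H)) :
    IsMulCommutative H := by
  refine le_centralizer_iff_isMulCommutative.1 (le_centralizer_of_forall_piCoreOf hH fun r hr hd => ?_)
  refine le_centralizer_iff.1 (le_centralizer_of_forall_piCoreOf hH fun s hs hds => ?_)
  by_cases hrs : s = r
  · subst hrs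
    exact le_centralizer_iff_isMulCommutative.2 (h s hr hd)
  · exact le_centralizer_of_coprime hH (piCoreOf_le _ _) (piCoreOf_le _ _)
      (coprime_card_of_isPiSubgroup (isPiSubgroup_piCoreOf _ _) (isPiSubgroup_piCoreOf _ _)
        (Set.disjoint_singleton.2 hrs))

/-- A nilpotent group whose prime-power subgroups are cyclic is cyclic. -/
theorem isCyclic_of_primary {K : Type*} [Group K] [Finite K] [Group.IsNilpotent K]
    (h : ∀ (r : ℕ) [Fact r.Prime] (T : Sylow r K), IsCyclic T) : IsCyclic K := by
  haveI : IsZGroup K := ⟨fun r hr T => @h r ⟨hr⟩ T⟩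
  infer_instance

/-- In a commutative subgroup of `p`-rank one, two elements of order `p` generate the same group. -/
theorem mem_zpowers_of_rank_one {p : ℕ} [Fact p.Prime] {A : Subgroup G}
    (hA : IsMulCommutative A) (hr : Cfsg.PRankLE p 1 A) {x y : G} (hx : x ∈ A) (hy : y ∈ A)
    (hxo : orderOf x = p) (hyp : y ^ p = 1) : y ∈ zpowers x := by
  have hxe := BG5.isElementaryAbelian_zpowers (p := p) (hxo ▸ pow_orderOf_eq_one x)
  have hAC : A ≤ centralizer (A : Set G) := le_centralizer_iff_isMulCommutative.2 hA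
  set E := zpowers x ⊔ zpowers y with hE
  have hEA : E ≤ A := sup_le (zpowers_le.2 hx) (zpowers_le.2 hy)
  have hEe : Cfsg.IsElementaryAbelian p E :=
    BG5.isElementaryAbelian_sup hxe (BG5.isElementaryAbelian_zpowers hyp)
      ((zpowers_le.2 hx).trans (hAC.trans (centralizer_le (zpowers_le.2 hy))))
  by_contra hne
  refine not_pRankLE_of_le (k := 1) hEA hEe ?_ hr
  obtain ⟨n, hn⟩ := IsPGroup.iff_card.1 (isPGroup_of_isElementaryAbelian hEe)
  rw [hn]
  have hlt : zpowers x < E :=
    lt_of_le_of_ne le_sup_left fun h => hne (h ▸ mem_sup_right (mem_zpowers y))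
  have h1 := BG5.card_lt_of_lt hlt
  rw [Nat.card_zpowers, hxo, hn] at h1
  exact Nat.pow_le_pow_right (Fact.out : p.Prime).pos
    ((Nat.pow_lt_pow_iff_right (Fact.out : p.Prime).one_lt).1 ((pow_one p).trans_lt h1))

/-- A group acting without fixed points on a subgroup of prime order `q` has order dividing
`q - 1`. -/
theorem card_dvd_sub_one_of_fpf {A L : Subgroup G} {q : ℕ} (hLq : Nat.card L = q)
    (hn : A ≤ normalizer (L : Set G))
    (hfpf : ∀ a ∈ A, a ≠ 1 → L ⊓ centralizer ({a} : Set G) = ⊥) : Nat.card A ∣ q - 1 := by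
  letI : MulAction A L := MulAction.compHom L ((normalizerMonoidHom L).comp (inclusion hn))
  have hsmul : ∀ (a : A) (l : L), ((a • l : L) : G) = (a : G) * l * (a : G)⁻¹ := fun a l => rfl
  rw [← hLq]
  refine Solvable.card_dvd_card_sub_one (1 : L) (fun a => Subtype.ext ?_) fun l hl a ha => ?_
  · rw [hsmul]; simp
  · by_contra ha1
    refine hl (Subtype.ext ?_)
    rw [OneMemClass.coe_one, ← mem_bot, ← hfpf a a.2 fun h => ha1 (Subtype.ext h)]
    refine ⟨l.2, mem_centralizer_singleton_iff.2 ?_⟩
    have h := congrArg (Subtype.val) ha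
    rw [hsmul] at h
    exact (mul_inv_eq_iff_eq_mul.1 h).symm

/-- The exponent of a quotient divides that of any subgroup covering it. -/
theorem exponent_quotient_dvd {M E : Subgroup G} (N : Subgroup M) [N.Normal] (hEM : E ≤ M)
    (h : ∀ m : M, ∃ e ∈ E, ∃ n ∈ N, (m : G) = e * n) :
    Monoid.exponent (M ⧸ N) ∣ Monoid.exponent E := by
  refine MonoidHom.exponent_dvd (f := (QuotientGroup.mk' N).comp (inclusion hEM)) fun v => ?_
  obtain ⟨m, rfl⟩ := QuotientGroup.mk_surjective v
  obtain ⟨e, he, n, hn, hm⟩ := h m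
  refine ⟨⟨e, he⟩, ?_⟩
  rw [MonoidHom.comp_apply, QuotientGroup.mk'_apply, QuotientGroup.eq]
  convert hn
  exact Subtype.ext (by simp [hm])

end CfsgLib.OddOrder.BG15
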