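import Mathlib.Algebra.Module.ZMod
import Mathlib.FieldTheory.Finite.Basic
import Mathlib.GroupTheory.PGroup
import Mathlib.GroupTheory.QuotientGroup.Basic
import Mathlib.RingTheory.Polynomial.Basic

/-!
# Automorphisms of a nonabelian group of order `p³` fixing the centre

If no nontrivial power of such an automorphism `a` fixes a nontrivial element of `R/Z(R)`, then
the order of `a` divides `p - 1` or `p + 1` (the last step of BG 15.7).
-/

set_option autoImplicit false
set_option linter.style.haveILetI false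

namespace CfsgLib.OddOrder.BG15

open Polynomial Subgroup
open scoped commutatorElement

variable {p : ℕ}

/-- An endomorphism `f` of an `𝔽_p`-space with `f² - t f + 1 = 0` satisfies `f^(p-1) = 1`, or
`f^(p+1)` fixes a nonzero vector. -/
theorem pow_sub_one_eq_or_exists_fixed [hp : Fact p.Prime] {V : Type*} [AddCommGroup V]
    [Module (ZMod p) V] (f : Module.End (ZMod p) V) (t : ZMod p)
    (h : ∀ v, f (f v) = t • f v - v) :
    f ^ (p - 1) = 1 ∨ ∃ v : V, v ≠ 0 ∧ (f ^ (p + 1)) v = v := by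
  set g : (ZMod p)[X] := X ^ 2 - C t * X + 1 with hg
  have hfg : aeval f g = 0 := by
    refine LinearMap.ext fun v => ?_
    simp [hg, pow_two, h, Module.End.mul_apply]
  obtain ⟨m, hm⟩ : ∃ m, p = m + 1 := ⟨p - 1, by have := hp.out.one_lt; omega⟩
  have hkey : aeval f ((X ^ (p + 1) - 1) * (X ^ (p - 1) - 1) : (ZMod p)[X]) = 0 := by
    have h1 : (X ^ (p + 1) - 1) * (X ^ (p - 1) - 1) = expand (ZMod p) p g - X ^ (p - 1) * g := by
      simp only [hg, map_add, map_sub, map_mul, map_pow, map_one, expand_X, expand_C]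
      have h2 : ∀ n : ℕ, (X ^ (n + 2) - 1) * (X ^ n - 1) = (X ^ (n + 1)) ^ 2 - C t * X ^ (n + 1)
          + 1 - X ^ n * (X ^ 2 - C t * X + 1 : (ZMod p)[X]) := fun n => by ring
      have h3 := h2 m
      rwa [show p - 1 = m by omega, show p + 1 = m + 2 by omega,
        show X ^ p = (X : (ZMod p)[X]) ^ (m + 1) by rw [← hm]]
    rw [h1, map_sub, map_mul, hfg, mul_zero, sub_zero, ZMod.expand_card, map_pow, hfg,
      zero_pow hp.out.ne_zero]
  by_cases hall : f ^ (p - 1) = 1
  · exact Or.inl hall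
  obtain ⟨v, hv⟩ : ∃ v, (f ^ (p - 1)) v ≠ v := by
    by_contra hne
    exact hall (LinearMap.ext fun v => not_not.1 fun hv => hne ⟨v, hv⟩)
  refine Or.inr ⟨(f ^ (p - 1)) v - v, sub_ne_zero.2 hv, sub_eq_zero.1 ?_⟩
  have h2 := LinearMap.congr_fun hkey v
  simpa [Module.End.mul_apply, sub_eq_add_neg] using h2

/-- The same for an additive endomorphism. -/
theorem iterate_fixed_of_addMonoidHom [hp : Fact p.Prime] {V : Type*} [AddCommGroup V]
    [Module (ZMod p) V] (f : V →+ V) (δ : ℤ) (hrel : ∀ v, f (f v) = δ • f v - v) :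
    (∀ v, f^[p - 1] v = v) ∨ ∃ v : V, v ≠ 0 ∧ f^[p + 1] v = v := by
  let F : Module.End (ZMod p) V := AddMonoidHom.toZModLinearMap p f
  have hFi : ∀ (i : ℕ) (v : V), (F ^ i) v = f^[i] v := fun i v => by
    rw [Module.End.pow_apply]; rfl
  rcases pow_sub_one_eq_or_exists_fixed F (δ : ZMod p)
    (fun v => (hrel v).trans (by rw [Int.cast_smul_eq_zsmul]; rfl)) with h | ⟨v, hv, hfv⟩
  · exact Or.inl fun v => (hFi (p - 1) v).symm.trans (by rw [h]; rfl)
  · exact Or.inr ⟨v, hv, (hFi (p + 1) v).symm.trans hfv⟩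

/-- The same for an endomorphism of a commutative group of exponent `p`. -/
theorem iterate_sub_one_eq_or_exists_fixed [hp : Fact p.Prime] {V : Type*} [CommGroup V]
    (hexp : ∀ v : V, v ^ p = 1) (f : V →* V) (δ : ℤ) (hrel : ∀ v, f (f v) = f v ^ δ * v⁻¹) :
    (∀ v, f^[p - 1] v = v) ∨ ∃ v : V, v ≠ 1 ∧ f^[p + 1] v = v := by
  letI : Module (ZMod p) (Additive V) :=
    AddCommGroup.zmodModule (G := Additive V) fun v => hexp (Additive.toMul v)
  rcases iterate_fixed_of_addMonoidHom (p := p) (V := Additive V) (MonoidHom.toAdditive f) δ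
    (fun v => by rw [sub_eq_add_neg]; exact congrArg Additive.ofMul (hrel (Additive.toMul v)))
    with h | ⟨v, hv, hfv⟩
  · exact Or.inl fun v => h (Additive.ofMul v)
  · exact Or.inr ⟨Additive.toMul v, hv, hfv⟩

variable {R : Type*} [Group R] [Finite R]

/-- An automorphism of a nonabelian group of order `p³` and exponent `p` that fixes the centre and
whose nontrivial powers fix no noncentral coset of the centre has order dividing `p - 1` or
`p + 1`. -/
theorem orderOf_dvd_sub_one_or_add_one [hp : Fact p.Prime] (hcard : Nat.card R = p ^ 3)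
    (hexp : ∀ x : R, x ^ p = 1) (hnc : ¬ IsMulCommutative R) (a : MulAut R)
    (hfix : ∀ z ∈ center R, a z = z)
    (hfpf : ∀ i : ℕ, ∀ v : R, v⁻¹ * (a ^ i) v ∈ center R → v ∈ center R ∨ a ^ i = 1) :
    orderOf a ∣ p - 1 ∨ orderOf a ∣ p + 1 := by
  have hR : IsPGroup p R := IsPGroup.of_card hcard
  haveI : Nontrivial R := Finite.one_lt_card_iff_nontrivial.1 (by
    rw [hcard]; exact Nat.one_lt_pow three_ne_zero hp.out.one_lt)
  obtain ⟨x, hx⟩ : ∃ x : R, x ∉ center R := by
    by_contra h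
    exact hnc ⟨⟨fun u v => mem_center_iff.1 (not_not.1 fun hv => h ⟨v, hv⟩) u⟩⟩
  -- the quotient by the centre
  set Z := center R with hZ
  set π := QuotientGroup.mk' Z with hπ
  have hπ1 : ∀ v : R, π v = 1 ↔ v ∈ Z := fun v => QuotientGroup.eq_one_iff v
  have hZcard : Nat.card (R ⧸ Z) = p ^ 2 := by
    obtain ⟨i, hi⟩ := IsPGroup.iff_card.1 (hR.to_subgroup Z)
    obtain ⟨j, hj⟩ := IsPGroup.iff_card.1 (hR.to_quotient Z)
    have h3 := card_eq_card_quotient_mul_card_subgroup Z
    rw [hcard, hi, hj, ← pow_add] at h3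
    have h4 := Nat.pow_right_injective hp.out.two_le h3
    have hi0 : i ≠ 0 := fun h0 => by
      haveI := hR.center_nontrivial
      exact (Finite.one_lt_card (α := Z)).ne' (by rw [hi, h0, pow_zero])
    have hj2 : ¬ j ≤ 1 := fun h1 => by
      haveI : IsCyclic (R ⧸ Z) := by
        rcases Nat.le_one_iff_eq_zero_or_eq_one.1 h1 with rfl | rfl
        · haveI := Finite.card_le_one_iff_subsingleton.1 (by rw [hj, pow_zero] : Nat.card (R ⧸ Z) ≤ 1)
          infer_instance
        · exact isCyclic_of_prime_card (hj.trans (pow_one p))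
      exact hnc ⟨⟨commutative_of_cyclic_center_quotient π (by rw [hπ, QuotientGroup.ker_mk'])⟩⟩
    rw [hj, show j = 2 by omega]
  letI : CommGroup (R ⧸ Z) := IsPGroup.commGroupOfCardEqPrimeSq hZcard
  have hexp' : ∀ v : R ⧸ Z, v ^ p = 1 := fun v => by
    obtain ⟨v, rfl⟩ := QuotientGroup.mk_surjective v
    rw [← QuotientGroup.mk_pow, hexp]; rfl
  -- the induced automorphism
  have hZa : ∀ v : R, a v ∈ Z ↔ v ∈ Z := fun v => by
    refine ⟨fun h => ?_, fun h => (hfix v h).symm ▸ h⟩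
    rw [← a.injective (hfix _ h)]; exact h
  let f : (R ⧸ Z) →* (R ⧸ Z) := QuotientGroup.map Z Z a.toMonoidHom fun v hv => (hZa v).2 hv
  have hfπ : ∀ v, f (π v) = π (a v) := fun v => rfl
  -- powers fixing a noncentral coset are trivial
  have key : ∀ i : ℕ, ∀ v : R, v ∉ Z → π ((a ^ i) v) = π v → a ^ i = 1 := fun i v hv h =>
    (hfpf i v ((hπ1 _).1 (by rw [map_mul, map_inv, h, inv_mul_cancel]))).resolve_left hv
  have hpx : orderOf (π x) = p :=
    orderOf_eq_prime (hexp' _) fun h => hx ((hπ1 x).1 h)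
  by_cases hline : π (a x) ∈ zpowers (π x)
  · -- an invariant line
    left
    obtain ⟨j, hj⟩ := mem_zpowers_iff.1 hline
    refine orderOf_dvd_of_pow_eq_one (key (p - 1) x hx ?_)
    have hit : ∀ i : ℕ, π ((a ^ i) x) = π x ^ (j ^ i) := fun i => by
      induction i with
      | zero => simp
      | succ i ih =>
        rw [pow_succ', MulAut.mul_apply, ← hfπ, ih, map_zpow, hfπ, ← hj, ← zpow_mul, pow_succ']
    have hjp : ¬ (p : ℤ) ∣ j := fun h => hx ((hZa x).1 ((hπ1 _).1 (by
      rw [← hj]; exact orderOf_dvd_iff_zpow_eq_one.1 (hpx.symm ▸ h))))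
    rw [hit]
    conv_rhs => rw [← zpow_one (π x)]
    rw [zpow_eq_zpow_iff_modEq, hpx, ← ZMod.intCast_eq_intCast_iff]
    push_cast
    exact ZMod.pow_card_sub_one_eq_one fun h => hjp ((ZMod.intCast_zmod_eq_zero_iff_dvd j p).1 h)
  -- otherwise `π x` and `π (a x)` form a basis
  set y := a x with hy
  have hgen : ∀ v : R ⧸ Z, ∃ i j : ℤ, (π x) ^ i * (π y) ^ j = v := by
    intro v
    have htop : zpowers (π x) ⊔ zpowers (π y) = ⊤ := by
      have hlt : zpowers (π x) < zpowers (π x) ⊔ zpowers (π y) :=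
        lt_of_le_of_ne le_sup_left fun h => hline (h.symm ▸ mem_sup_right (mem_zpowers _))
      refine eq_top_of_card_eq _ ?_
      have h1 : Nat.card ↥(zpowers (π x) ⊔ zpowers (π y)) ∣ p ^ 2 :=
        hZcard ▸ card_subgroup_dvd_card _
      obtain ⟨i, hi2, hi⟩ := (Nat.dvd_prime_pow hp.out).1 h1
      have h2 : p ^ 1 < p ^ i := by
        rw [← hi, pow_one]
        refine lt_of_le_of_ne ?_ ?_
        · rw [← hpx, ← Nat.card_zpowers]; exact card_le_of_le hlt.le
        · rw [← hpx, ← Nat.card_zpowers]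
          exact fun h => hlt.ne (eq_of_le_of_card_ge hlt.le h.ge)
      rw [hi, hZcard, show i = 2 by
        have := (Nat.pow_lt_pow_iff_right hp.out.one_lt).1 h2; omega]
    obtain ⟨b, hb, c, hc, rfl⟩ := mem_sup.1 (htop ▸ mem_top v)
    obtain ⟨i, rfl⟩ := mem_zpowers_iff.1 hb
    obtain ⟨j, rfl⟩ := mem_zpowers_iff.1 hc
    exact ⟨i, j, rfl⟩
  -- commutators are central and bilinear
  have hcen : ∀ u v : R, ⁅u, v⁆ ∈ Z := fun u v => by
    rw [← hπ1, map_commutatorElement, commutatorElement_eq_one_iff_mul_comm]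
    exact mul_comm _ _
  let ψ : R → R →* R := fun u =>
    MonoidHom.mk' (fun v => ⁅u, v⁆) fun v w => by
      have h1 : ⁅u, v * w⁆ = ⁅u, v⁆ * (v * ⁅u, w⁆ * v⁻¹) := by simp [commutatorElement_def]; group
      rw [h1, mem_center_iff.1 (hcen u w) v, mul_inv_cancel_right]
  have hψZ : ∀ u z, z ∈ Z → ψ u z = 1 := fun u z hz =>
    commutatorElement_eq_one_iff_mul_comm.2 (mem_center_iff.1 hz u)
  set c := ⁅x, y⁆ with hc
  have hc1 : c ≠ 1 := fun h => hx <| mem_center_iff.2 fun w => by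
    obtain ⟨i, j, hij⟩ := hgen (π w)
    obtain ⟨z, hz, hw⟩ : ∃ z ∈ Z, w = x ^ i * y ^ j * z :=
      ⟨(x ^ i * y ^ j)⁻¹ * w, (hπ1 _).1 (by simp [← hij]), by group⟩
    have h2 : ψ x w = 1 := by
      rw [hw, map_mul, map_mul, map_zpow, map_zpow, show ψ x y = 1 from h,
        show ψ x x = 1 from commutatorElement_self x, hψZ x z hz]
      simp
    exact (commutatorElement_eq_one_iff_mul_comm.1 h2).symm
  obtain ⟨β, δ, hβδ⟩ := hgen (π (a y))
  have hβ : (p : ℤ) ∣ β + 1 := by
    obtain ⟨z, hz, hay⟩ : ∃ z ∈ Z, a y = x ^ β * y ^ δ * z :=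
      ⟨(x ^ β * y ^ δ)⁻¹ * a y, (hπ1 _).1 (by simp [← hβδ]), by group⟩
    have h1 : c = (c⁻¹) ^ β := by
      calc c = a c := (hfix c (hcen x y)).symm
        _ = ψ y (a y) := by rw [hc, map_commutatorElement]; rfl
        _ = (c⁻¹) ^ β := by
          rw [hay, map_mul, map_mul, map_zpow, map_zpow, hψZ y z hz,
            show ψ y y = 1 from commutatorElement_self y, one_zpow, mul_one, mul_one, hc,
            commutatorElement_inv]
          rfl
    rw [← orderOf_eq_prime (hexp c) hc1, orderOf_dvd_iff_zpow_eq_one, zpow_add_one]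
    rw [inv_zpow] at h1
    exact (congrArg (c ^ β * ·) h1).trans (mul_inv_cancel _)
  have hrel : ∀ v : R ⧸ Z, f (f v) = f v ^ δ * v⁻¹ := by
    have hx0 : f (f (π x)) = f (π x) ^ δ * (π x)⁻¹ := by
      rw [hfπ, hfπ, ← hy, ← hβδ, mul_comm]
      congr 1
      rw [← zpow_neg_one, zpow_eq_zpow_iff_modEq, hpx, Int.modEq_iff_dvd]
      have : (-1 : ℤ) - β = -(β + 1) := by ring
      rw [this]
      exact hβ.neg_right
    intro v
    obtain ⟨i, j, rfl⟩ := hgen v
    have hy0 : f (f (π y)) = f (π y) ^ δ * (π y)⁻¹ := by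
      have h1 := congrArg f hx0
      rwa [map_mul, map_zpow, map_inv, show f (π x) = π y from hfπ x] at h1
    simp only [map_mul, map_zpow, hx0, hy0, mul_zpow, mul_inv, ← zpow_mul, inv_zpow]
    rw [mul_comm δ i, mul_comm δ j]
    ac_rfl
  have hfi : ∀ (i : ℕ) (v : R), f^[i] (π v) = π ((a ^ i) v) := by
    intro i v
    induction i with
    | zero => rfl
    | succ i ih => rw [Function.iterate_succ_apply', ih, pow_succ', MulAut.mul_apply]; rfl
  rcases iterate_sub_one_eq_or_exists_fixed hexp' f δ hrel with h | ⟨v, hv, hfv⟩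
  · exact Or.inl (orderOf_dvd_of_pow_eq_one
      (key (p - 1) x hx ((hfi (p - 1) x).symm.trans (h (π x)))))
  · obtain ⟨v, rfl⟩ := QuotientGroup.mk'_surjective Z v
    exact Or.inr (orderOf_dvd_of_pow_eq_one (key (p + 1) v (fun h => hv ((hπ1 v).2 h))
      ((hfi (p + 1) v).symm.trans hfv)))

end CfsgLib.OddOrder.BG15
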