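import Cfsg.Agent.OddOrder.BG15.FittingHall
import Cfsg.Agent.OddOrder.BG10.Cores
import Cfsg.Agent.OddOrder.BG9.RankThree
import Cfsg.Agent.OddOrder.BG4.RankTwoSolvable

/-!
# BG 15: facts about `M_σ` and elementary abelian subgroups used throughout the section
-/

set_option autoImplicit false
set_option linter.style.haveILetI false

namespace CfsgLib.OddOrder

open Cfsg Subgroup
open CfsgLib.ConjFunctor (IsSylowIn)

variable {G : Type*} [Group G] [Finite G] {p : ℕ}

/-- Outside `σ(M)` the `p`-rank of `M` is at most two. -/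
theorem pRankLE_two_of_not_mem_sigma (hG : Cfsg.IsMinSimpleOddOrder G) {M : Subgroup G}
    (hM : IsCoatom M) (hp : p.Prime) (hs : p ∉ Cfsg.sigma M) : Cfsg.PRankLE p 2 M := by
  by_contra h
  exact hs (alpha_subset_sigma hG hM ⟨hp, h⟩)

/-- `M_σ ≠ 1`. -/
theorem minSimple_sigmaCore_ne_bot (hG : Cfsg.IsMinSimpleOddOrder G) {M : Subgroup G}
    (hM : IsCoatom M) : Cfsg.sigmaCore M ≠ ⊥ := by
  intro hbot
  have hs : ∀ r, r ∉ Cfsg.sigma M := by
    intro r hr
    haveI := Fact.mk hr.1
    obtain ⟨T, hT⟩ := exists_isSylowIn r M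
    exact sigma_sylow_ne_bot hr hT (le_bot_iff.1 (hbot ▸ sigma_sylow_le_sigmaCore hG hM hr hT))
  have hr2 : Cfsg.RankLE 2 M := fun r hr => pRankLE_two_of_not_mem_sigma hG hM hr (hs r)
  haveI := minSimple_coatom_solvable hG hM
  have hne : 1 < Nat.card M := M.one_lt_card_iff_ne_bot.2 (minSimple_coatom_ne_bot hG hM)
  set r := (Nat.card M).primeFactors.max' (Nat.nonempty_primeFactors.2 hne) with hr
  have hrm := Finset.max'_mem (Nat.card M).primeFactors (Nat.nonempty_primeFactors.2 hne)
  rw [← hr] at hrm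
  obtain ⟨hrp, hrd, -⟩ := Nat.mem_primeFactors.1 hrm
  haveI := Fact.mk hrp
  obtain ⟨N, hNc, hN⟩ := BG4.exists_char_hall_gt (minSimple_odd_subgroup hG M) (Or.inl hr2) (r - 1)
  have hNp : IsPGroup r N := by
    refine IsPGroup.iff_card.2 ⟨_, Nat.eq_prime_pow_of_unique_prime_dvd Nat.card_pos.ne'
      fun {s} hs' hsd => ?_⟩
    have h1 := (hN.1 s hs' hsd).2
    have h2 : s ≤ r := Finset.le_max' _ s
      (Nat.mem_primeFactors.2 ⟨hs', hsd.trans (card_subgroup_dvd_card N), Nat.card_pos.ne'⟩)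
    omega
  have hT : IsSylowIn r (N.map M.subtype) M := by
    refine ⟨map_subtype_le _, hNp.map _, ?_⟩
    rw [Subgroup.relIndex, show (N.map M.subtype).subgroupOf M = N from
      comap_map_eq_self_of_injective M.subtype_injective _]
    exact hN.2 r hrp ⟨hrp, Nat.sub_lt hrp.pos one_pos⟩
  refine hs r (mem_sigma_of_normalizer_le hT hrd ?_)
  refine (minSimple_normalizer_eq_coatom_of_le hG hM ?_ hT.le ?_).le
  · intro h
    rw [h] at hT
    have := card_mul_relIndex (bot_le : (⊥ : Subgroup G) ≤ M)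
    rw [Subgroup.card_bot, one_mul] at this
    exact hT.not_dvd (this ▸ hrd)
  · haveI := hNc
    rw [← normal_subgroupOf_iff_le_normalizer hT.le, show (N.map M.subtype).subgroupOf M = N from
      comap_map_eq_self_of_injective M.subtype_injective _]
    infer_instance

/-- A subgroup with `p`-rank at least two contains an elementary abelian subgroup of order `p²`. -/
theorem exists_elementary_card_sq [Fact p.Prime] {H : Subgroup G} (h : ¬ Cfsg.PRankLE p 1 H) :
    ∃ A : Subgroup G, A ≤ H ∧ Cfsg.IsElementaryAbelian p A ∧ Nat.card A = p ^ 2 := by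
  obtain ⟨B, hBH, hBe, hB⟩ := exists_elementary_of_not_pRankLE h
  obtain ⟨n, hn⟩ := IsPGroup.iff_card.1 (isPGroup_of_isElementaryAbelian hBe)
  have hd : p ^ 2 ∣ Nat.card B := by
    rw [hn] at hB ⊢
    exact Nat.pow_dvd_pow p ((Nat.pow_le_pow_iff_right (Fact.out : p.Prime).one_lt).1 hB)
  obtain ⟨A, hA⟩ := Sylow.exists_subgroup_card_pow_prime p hd
  refine ⟨A.map B.subtype, (map_subtype_le _).trans hBH,
    isElementaryAbelian_mono (map_subtype_le _) hBe, ?_⟩
  rw [card_map_of_injective B.subtype_injective, hA]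

/-- A noncyclic `p`-subgroup, `p` odd, contains an elementary abelian subgroup of order `p²`. -/
theorem exists_elementary_card_sq_of_not_isCyclic [Fact p.Prime] {B : Subgroup G}
    (hB : IsPGroup p B) (hp2 : p ≠ 2) (hnc : ¬ IsCyclic B) :
    ∃ A : Subgroup G, A ≤ B ∧ Cfsg.IsElementaryAbelian p A ∧ Nat.card A = p ^ 2 :=
  exists_elementary_card_sq (not_pRankLE_one_of_not_isCyclic hB hp2 hnc)

/-- A normal subgroup of a coatom `M` of order prime `p` has normalizer `M`. -/
theorem normalizer_eq_of_normal_prime_card (hG : Cfsg.IsMinSimpleOddOrder G) {M X : Subgroup G}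
    (hM : IsCoatom M) (hp : p.Prime) (hX : Nat.card X = p) (hXM : X ≤ M)
    (hn : M ≤ normalizer (X : Set G)) : normalizer (X : Set G) = M :=
  minSimple_normalizer_eq_coatom_of_le hG hM
    (fun h => hp.ne_one (by rw [← hX, h, Subgroup.card_bot])) hXM hn

/-- Conjugation of a subgroup's centralizer. -/
theorem mem_centralizer_conj {H : Subgroup G} {g x : G} (hx : x ∈ centralizer (H : Set G)) :
    g * x * g⁻¹ ∈ centralizer ((H.map (MulAut.conj g).toMonoidHom : Subgroup G) : Set G) := by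
  rw [mem_centralizer_iff]
  rintro _ ⟨h, hh, rfl⟩
  show g * h * g⁻¹ * (g * x * g⁻¹) = g * x * g⁻¹ * (g * h * g⁻¹)
  calc g * h * g⁻¹ * (g * x * g⁻¹) = g * (h * x) * g⁻¹ := by group
    _ = g * (x * h) * g⁻¹ := by rw [mem_centralizer_iff.1 hx h hh]
    _ = _ := by group

/-- An element centralizing a nontrivial subgroup of `M_σ` centralizes a nontrivial element of it. -/
theorem exists_commute_of_centralizes {H : Subgroup G} {x : G} (hH1 : H ≠ ⊥)
    (hx : x ∈ centralizer (H : Set G)) : ∃ y ∈ H, y ≠ 1 ∧ x * y = y * x := by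
  obtain ⟨y, hy, hy1⟩ := (bot_or_exists_ne_one H).resolve_left hH1
  exact ⟨y, hy, hy1, (mem_centralizer_iff.1 hx y hy).symm⟩

/-- In an odd order group a subgroup of a coatom has odd prime divisors. -/
theorem minSimple_prime_ne_two_of_le (hG : Cfsg.IsMinSimpleOddOrder G) {H : Subgroup G}
    (hd : p ∣ Nat.card H) : p ≠ 2 :=
  minSimple_prime_ne_two_subgroup hG hd

end CfsgLib.OddOrder
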