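import Cfsg.Agent.OddOrder.BG15.Derived
import Cfsg.Agent.OddOrder.BG15.NilpotentTools
import Cfsg.Agent.OddOrder.BG15.Pairing
import Cfsg.Agent.OddOrder.BG5.Aut
import Cfsg.Agent.OddOrder.BG5.Structure
import Cfsg.Agent.OddOrder.BG9.Uniqueness
import Cfsg.Agent.OddOrder.BG10.BetaCore
import Cfsg.Agent.S1412
import Cfsg.Agent.S1453
import Cfsg.Agent.S1374
import Cfsg.Agent.S1422
import Cfsg.Agent.S1426

/-!
# BG 15.7: maximal subgroups whose Fitting subgroup is not a TI-subset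

If `g ∉ M` and `X = F(M) ∩ gF(M)g⁻¹ ≠ 1` then `X ≤ M_F` is cyclic, `M_σ = M_F`, `M' ≤ F(M)`, and
`M_F` is either abelian of rank two, or has exactly one noncyclic Sylow subgroup, which is
nonabelian and has restricted automorphisms.
-/

set_option autoImplicit false
set_option linter.style.haveILetI false
set_option linter.unusedSectionVars false

namespace CfsgLib.OddOrder.BG15

open Cfsg Subgroup
open scoped commutatorElement
open CfsgLib.ConjFunctor (IsSylowIn)

variable {G : Type*} [Group G] [Finite G] {M : Subgroup G}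

/-- The centralizer of an element of `M_σ` lying in another conjugate of `M` is not inside `M`. -/
theorem not_centralizer_le_of_mem_conj (hG : Cfsg.IsMinSimpleOddOrder G) (hM : IsCoatom M)
    {g x : G} (hg : g ∉ M) (hx : x ∈ Cfsg.sigmaCore M) (hx1 : x ≠ 1) (hxg : g⁻¹ * x * g ∈ M) :
    ¬ centralizer ({x} : Set G) ≤ M := by
  intro hle
  obtain ⟨-, R, -, hR, huniq⟩ := Cfsg.Agent.S1374.result hG M hM x hx hx1
  obtain ⟨r, ⟨hrR, hr⟩, -⟩ := huniq g (mem_map_conj_iff.2 hxg)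
  have hr1 : r = 1 := by
    rw [← mem_bot, ← hR.2.2.1]
    exact ⟨⟨hle (hR.2.1 hrR), hR.2.1 hrR⟩, hrR⟩
  rw [hr1, map_conj_one] at hr
  apply hg
  rw [← minSimple_normalizer_coatom hG hM]
  exact map_conj_eq_self_iff.1 hr.symm

/-- No uniqueness subgroup of `M` centralizes such an element. -/
theorem not_inUniqueMaximal_of_centralizes (hG : Cfsg.IsMinSimpleOddOrder G) (hM : IsCoatom M)
    {g x : G} (hg : g ∉ M) (hx : x ∈ Cfsg.sigmaCore M) (hx1 : x ≠ 1) (hxg : g⁻¹ * x * g ∈ M)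
    {W : Subgroup G} (hWM : W ≤ M) (hxW : x ∈ centralizer (W : Set G)) :
    ¬ Cfsg.InUniqueMaximal W := by
  intro hW
  obtain ⟨L, hL, hCL⟩ := minSimple_exists_coatom hG (minSimple_centralizer_singleton_ne_top hG hx1)
  have hWC : W ≤ centralizer ({x} : Set G) := fun w hw =>
    mem_centralizer_singleton_iff.2 (mem_centralizer_iff.1 hxW w hw)
  exact not_centralizer_le_of_mem_conj hG hM hg hx hx1 hxg
    (inUniqueMaximal_eq hW hM hWM hL (hWC.trans hCL) ▸ hCL)

/-- An element of order `p` of an abelian normal subgroup of `p`-rank one of `M` determines `M`. -/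
theorem mem_of_rank_one (hG : Cfsg.IsMinSimpleOddOrder G) (hM : IsCoatom M) {p : ℕ}
    [Fact p.Prime] {A : Subgroup G} (hAM : A ≤ M) (hAn : M ≤ normalizer (A : Set G))
    (hA : IsMulCommutative A) (hr : Cfsg.PRankLE p 1 A) {x g : G} (hx : x ∈ A)
    (hxo : orderOf x = p) (hgx : g⁻¹ * x * g ∈ A) : g ∈ M := by
  have hpow : ∀ y : G, orderOf (y * x * y⁻¹) = p := fun y => by
    rw [← hxo]
    exact orderOf_injective (MulAut.conj y).toMonoidHom (MulAut.conj y).injective x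
  have key : ∀ y : G, y * x * y⁻¹ ∈ A → y ∈ normalizer ((zpowers x : Subgroup G) : Set G) := by
    intro y hy
    refine map_conj_eq_self_iff.1 (eq_of_le_of_card_ge ?_ (card_map_conj _ _).ge)
    rw [MonoidHom.map_zpowers, zpowers_le]
    exact mem_zpowers_of_rank_one hA hr hx hy hxo (hpow y ▸ pow_orderOf_eq_one _)
  have hn : M ≤ normalizer ((zpowers x : Subgroup G) : Set G) := fun m hm =>
    key m ((mem_normalizer_iff.1 (hAn hm) x).1 hx)
  rw [← normalizer_eq_of_normal_prime_card hG hM Fact.out ((Nat.card_zpowers x).trans hxo)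
    (zpowers_le.2 (hAM hx)) hn]
  simpa using inv_mem (key g⁻¹ (by simpa using hgx))

/-- Elements of prime order of `F(M) ∩ gF(M)g⁻¹` are `σ(M)`-elements. -/
theorem mem_sigma_of_fitting_inter (hG : Cfsg.IsMinSimpleOddOrder G) (hM : IsCoatom M) {g : G}
    (hg : g ∉ M) {p : ℕ} [Fact p.Prime] {x : G} (hxo : orderOf x = p)
    (hx : x ∈ Cfsg.fittingOf M) (hxg : g⁻¹ * x * g ∈ Cfsg.fittingOf M) : p ∈ Cfsg.sigma M := by
  by_contra hp
  obtain ⟨hYc, -, -⟩ := fittingOf_sigmaPrime_part hG hM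
  set Y := Cfsg.piCoreOf {q | q.Prime ∧ q ∉ Cfsg.sigma M} (Cfsg.fittingOf M)
  have hmem : ∀ y ∈ Cfsg.fittingOf M, orderOf y = p → y ∈ Y := fun y hy hyo =>
    nilpotent_le_piCoreOf (isNilpotent_fittingOf M) (zpowers_le.2 hy)
      (isPiSubgroup_of_isPGroup (p := p)
        (IsPGroup.of_card (n := 1) (by rw [Nat.card_zpowers, hyo, pow_one]))
        (⟨Fact.out, hp⟩ : p ∈ {q | q.Prime ∧ q ∉ Cfsg.sigma M})) (mem_zpowers y)
  haveI := hYc
  have hr : Cfsg.PRankLE p 1 Y := by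
    intro B hB hBp
    by_contra hlt
    refine not_isCyclic_of_elementary (p := p) (A := B) ⟨hB, hBp⟩ ?_ (isCyclic_of_le le_top)
    obtain ⟨n, hn⟩ := IsPGroup.iff_card.1 (isPGroup_of_isElementaryAbelian (p := p) ⟨hB, hBp⟩)
    rw [not_le, hn] at hlt
    rw [hn]
    exact Nat.pow_le_pow_right (Fact.out : p.Prime).pos
      ((Nat.pow_lt_pow_iff_right (Fact.out : p.Prime).one_lt).1 hlt)
  refine hg (mem_of_rank_one hG hM ((piCoreOf_le _ _).trans (fittingOf_le M))
    ((le_normalizer_fittingOf M).trans (normalizer_le_normalizer_piCoreOf _ _))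
    inferInstance hr (hmem x hx hxo) hxo (hmem _ hxg ?_))
  rw [← hxo]
  simpa using orderOf_injective (MulAut.conj g⁻¹).toMonoidHom (MulAut.conj g⁻¹).injective x

/-- `X = F(M) ∩ gF(M)g⁻¹` is a cyclic `σ(M) - β(M)`-subgroup of `M_σ ∩ gMg⁻¹`. -/
theorem fitting_inter_facts (hG : Cfsg.IsMinSimpleOddOrder G) (hM : IsCoatom M) {g : G}
    (hg : g ∉ M) :
    Cfsg.fittingOf M ⊓ (Cfsg.fittingOf M).map (MulAut.conj g).toMonoidHom ≤ Cfsg.sigmaCore M ∧
      IsCyclic ↥(Cfsg.fittingOf M ⊓ (Cfsg.fittingOf M).map (MulAut.conj g).toMonoidHom) ∧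
      ∀ p : ℕ, p.Prime →
        p ∣ Nat.card ↥(Cfsg.fittingOf M ⊓ (Cfsg.fittingOf M).map (MulAut.conj g).toMonoidHom) →
          p ∈ Cfsg.sigma M ∧ p ∉ Cfsg.beta M := by
  set X := Cfsg.fittingOf M ⊓ (Cfsg.fittingOf M).map (MulAut.conj g).toMonoidHom with hX
  have hσ : ∀ p : ℕ, p.Prime → p ∣ Nat.card X → p ∈ Cfsg.sigma M := fun p hp hd => by
    haveI := Fact.mk hp
    obtain ⟨x, hx⟩ := exists_prime_orderOf_dvd_card' p hd
    exact mem_sigma_of_fitting_inter hG hM hg (x := (x : G)) (by rw [Subgroup.orderOf_coe, hx])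
      x.2.1 (mem_map_conj_iff.1 x.2.2)
  have hXS : X ≤ Cfsg.sigmaCore M :=
    le_sigmaCore_of_primes hG hM (inf_le_left.trans (fittingOf_le M)) hσ
  obtain ⟨E, hE, -, -⟩ := exists_sigmaComplement_ge hG hM (U := ⊥) bot_le fun r hr hd => by
    rw [Subgroup.card_bot] at hd; exact absurd (Nat.dvd_one.1 hd) hr.ne_one
  obtain ⟨hcyc, hβ, -⟩ := (Cfsg.Agent.S1426.result hG M hM E hE).2.2 g hg
  have hle : X ≤ Cfsg.sigmaCore M ⊓ M.map (MulAut.conj g).toMonoidHom :=
    le_inf hXS (inf_le_right.trans (map_mono (fittingOf_le M)))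
  haveI := hcyc
  exact ⟨hXS, isCyclic_of_le hle,
    fun p hp hd => ⟨hσ p hp hd, hβ p hp (hd.trans (card_dvd_of_le hle))⟩⟩

/-- If `F(M) ∩ gF(M)g⁻¹ ≠ 1` then `M_σ` is nilpotent. -/
theorem isNilpotent_sigmaCore_of_inter (F : BG15.BG14Facts G) (hG : Cfsg.IsMinSimpleOddOrder G) (hM : IsCoatom M) {g : G}
    (hg : g ∉ M) {p : ℕ} [Fact p.Prime] {x : G} (hxo : orderOf x = p)
    (hpβ : p ∉ Cfsg.beta M) (hx : x ∈ Cfsg.fittingOf M) (hxS : x ∈ Cfsg.sigmaCore M)
    (hxg : g⁻¹ * x * g ∈ M) : Group.IsNilpotent (Cfsg.sigmaCore M) := by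
  by_contra hnil
  obtain ⟨K, U, hKU⟩ := BG15.exists_sigmaDecomposition F hG hM
  obtain ⟨-, -, -, -, hqp, hqβ, Q, -, hQF, -, hQS, -, hQq, hQnd, -⟩ :=
    sigmaCore_structure F hG hM hKU hnil
  set q := Nat.card ↥(Cfsg.sigmaCore M ⊓ centralizer (K : Set G))
  haveI := Fact.mk hqp
  have hne : p ≠ q := fun h => hpβ (h ▸ hqβ)
  obtain ⟨n, hn⟩ := IsPGroup.iff_card.1 hQq
  have hxC : x ∈ centralizer (Q : Set G) := by
    refine mem_centralizer_of_coprime (isNilpotent_fittingOf M)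
      (hQF.trans (fittingHallOf_le_fittingOf M)) hx ?_
    rw [hxo, hn]
    exact ((Nat.coprime_primes Fact.out hqp).2 hne).pow_right n
  have hQM : Q ≤ M := hQS.trans (sigmaCore_le M)
  refine not_inUniqueMaximal_of_centralizes hG hM hg hxS (fun h => ?_) hxg hQM hxC
    (inUniqueMaximal_of_pRank_three (p := q) hG (fun h => hM.1 (top_le_iff.1 (h ▸ hQM))) fun hr => hqβ.1.2 ?_)
  · rw [h, orderOf_one] at hxo; exact (Fact.out : p.Prime).one_lt.ne hxo
  have hQsyl : IsSylowIn q Q M := by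
    refine ⟨hQM, hQq, fun hd => ?_⟩
    rw [← relIndex_mul_relIndex _ _ _ hQS (sigmaCore_le M)] at hd
    rcases hqp.dvd_mul.1 hd with h | h
    · exact hQnd h
    · exact (sigmaCore_isHall hG hM).1.2.2 q hqp (alpha_subset_sigma hG hM hqβ.1) h
  have hQ' : IsPGroup q (Q.subgroupOf M) := hQq.comap_subtype
  refine BG5.pRankLE_of_sylow (hQ'.toSylow hQsyl.2.2) ?_
  exact BG4.pRankLE_of_injective ((subgroupOfEquivOfLe hQM).toMonoidHom)
    (subgroupOfEquivOfLe hQM).injective hr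

/-- If `F(M) ∩ gF(M)g⁻¹ ≠ 1`, the Sylow subgroups of `M_σ` are narrow, and the derived group of `M`
centralizes those elements of `M_σ` it cannot move. -/
theorem sylow_narrow_of_inter (hG : Cfsg.IsMinSimpleOddOrder G) (hM : IsCoatom M) {g : G}
    (hg : g ∉ M) {p : ℕ} [Fact p.Prime] {x : G} (hxo : orderOf x = p)
    (hpβ : p ∉ Cfsg.beta M) (hx : x ∈ Cfsg.fittingOf M) (hxS : x ∈ Cfsg.sigmaCore M)
    (hxg : g⁻¹ * x * g ∈ M) {r : ℕ} [Fact r.Prime] (hr : r ∣ Nat.card (Cfsg.fittingHallOf M))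
    (S : Sylow r M) : Cfsg.IsNarrow r ↥(S : Subgroup M) := by
  refine sylow_narrow_of_not_beta hG hM (hr.trans (card_dvd_of_le (fittingHallOf_le M)))
    (fun hrβ => ?_) S
  have hS := sylow_eq_piCoreOf_fittingHallOf hr S
  have hne : p ≠ r := fun h => hpβ (h ▸ hrβ)
  have hSM : (S : Subgroup M).map M.subtype ≤ M := map_subtype_le _
  have hxC : x ∈ centralizer (((S : Subgroup M).map M.subtype : Subgroup G) : Set G) := by
    obtain ⟨n, hn⟩ := IsPGroup.iff_card.1 (S.isPGroup'.map M.subtype)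
    refine mem_centralizer_of_coprime (isNilpotent_fittingOf M)
      (hS ▸ (piCoreOf_le _ _).trans (fittingHallOf_le_fittingOf M)) hx ?_
    rw [hxo, hn]
    exact ((Nat.coprime_primes Fact.out Fact.out).2 hne).pow_right n
  refine not_inUniqueMaximal_of_centralizes hG hM hg hxS (fun h => ?_) hxg hSM hxC
    (inUniqueMaximal_of_pRank_three (p := r) hG (fun h => hM.1 (top_le_iff.1 (h ▸ hSM))) fun hle =>
      hrβ.1.2 (BG5.pRankLE_of_sylow S ?_))
  · rw [h, orderOf_one] at hxo; exact (Fact.out : p.Prime).one_lt.ne hxo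
  exact BG4.pRankLE_of_injective
    ((S : Subgroup M).equivMapOfInjective M.subtype M.subtype_injective).toMonoidHom
    (MulEquiv.injective _) hle

/-- The automorphisms induced by `M` on a normal narrow Sylow subgroup of `M_F`: elements of `M'` of
order prime to `r` act trivially. -/
theorem mem_centralizer_of_mem_commutator (hG : Cfsg.IsMinSimpleOddOrder G) (hM : IsCoatom M)
    {r : ℕ} [Fact r.Prime] (hr : r ∣ Nat.card (Cfsg.fittingHallOf M)) (S : Sylow r M)
    (hn : Cfsg.IsNarrow r ↥(S : Subgroup M)) {e : G} (he : e ∈ ⁅M, M⁆)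
    (hco : (orderOf e).Coprime r) :
    e ∈ centralizer (((S : Subgroup M).map M.subtype : Subgroup G) : Set G) := by
  haveI := minSimple_coatom_solvable hG hM
  haveI : (S : Subgroup M).Normal := by
    have h := sylow_eq_piCoreOf_fittingHallOf hr S
    rw [← comap_map_eq_self_of_injective M.subtype_injective (S : Subgroup M), h]
    exact (normal_subgroupOf_iff_le_normalizer
      ((piCoreOf_le _ _).trans (fittingHallOf_le M))).2
      ((le_normalizer_fittingHallOf M).trans (normalizer_le_normalizer_piCoreOf _ _))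
  rw [← map_subtype_commutator] at he
  obtain ⟨e, he, rfl⟩ := he
  rw [show M.subtype e = (e : G) from rfl, Subgroup.orderOf_coe] at hco
  set φ : M →* MulAut (S : Subgroup M) := MulAut.conjNormal
  have h1 := BG5.isPGroup_map_commutator (minSimple_prime_ne_two_subgroup hG hr) S.isPGroup' hn
    (minSimple_odd_subgroup hG M) φ
  obtain ⟨k, hk⟩ := h1 ⟨φ e, mem_map_of_mem φ he⟩
  have h2 : orderOf (φ e) = 1 := Nat.eq_one_of_dvd_coprimes ((hco.symm.pow_left k))
    (orderOf_dvd_of_pow_eq_one (congrArg Subtype.val hk)) (orderOf_map_dvd φ e)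
  rw [orderOf_eq_one_iff] at h2
  refine mem_centralizer_iff.2 ?_
  rintro _ ⟨y, hy, rfl⟩
  have h3 : φ e ⟨y, hy⟩ = ⟨y, hy⟩ := by rw [h2]; rfl
  have h4 : e * y * e⁻¹ = y := by simpa [φ, MulAut.conjNormal_apply] using congrArg Subtype.val h3
  exact congrArg Subtype.val ((mul_inv_eq_iff_eq_mul.1 h4).symm)

/-- If `F(M) ∩ gF(M)g⁻¹ ≠ 1` then `M' ≤ F(M)`. -/
theorem commutator_le_fittingOf_of_inter (F : BG15.BG14Facts G) (hG : Cfsg.IsMinSimpleOddOrder G) (hM : IsCoatom M)
    {g : G} (hg : g ∉ M) {p : ℕ} [Fact p.Prime] {x : G} (hxo : orderOf x = p)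
    (hpβ : p ∉ Cfsg.beta M) (hx : x ∈ Cfsg.fittingOf M) (hxS : x ∈ Cfsg.sigmaCore M)
    (hxg : g⁻¹ * x * g ∈ M) : ⁅M, M⁆ ≤ Cfsg.fittingOf M := by
  have hnil := isNilpotent_sigmaCore_of_inter F hG hM hg hxo hpβ hx hxS hxg
  have hH := fittingHallOf_eq_sigmaCore hG hM (sigmaCore_isHall hG hM).1 hnil
  obtain ⟨E, hE, hEhall, -⟩ := exists_sigmaComplement_ge hG hM (U := ⊥) bot_le fun r hr hd => by
    rw [Subgroup.card_bot] at hd; exact absurd (Nat.dvd_one.1 hd) hr.ne_one
  have hEC : ⁅E, E⁆ ≤ centralizer (Cfsg.fittingHallOf M : Set G) := by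
    refine le_centralizer_iff.1 (le_centralizer_of_forall_piCoreOf (isNilpotent_fittingHallOf M)
      fun r hr hd => le_centralizer_iff.1 fun e he => ?_)
    haveI := Fact.mk hr
    obtain ⟨S⟩ : Nonempty (Sylow r M) := Sylow.nonempty
    rw [← sylow_eq_piCoreOf_fittingHallOf hd S]
    refine mem_centralizer_of_mem_commutator hG hM hd S
      (sylow_narrow_of_inter hG hM hg hxo hpβ hx hxS hxg hd S) (commutator_mono hE.1 hE.1 he)
      ((Nat.coprime_comm.1 ((Fact.out : r.Prime).coprime_iff_not_dvd.2 fun hre => ?_)))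
    exact (hEhall.2.1 r hr (hre.trans (by
      simpa using orderOf_dvd_natCard (⟨e, E.commutator_le_self he⟩ : E)))).2
      (mem_sigma_of_dvd_fittingHallOf hG hM hr hd)
  refine (commutator_le_sup_of_generation hE.1 (sigmaCore_le M) (le_normalizer_sigmaCore M)
    hE.2.2.2).trans (sup_le ?_ (hH ▸ fittingHallOf_le_fittingOf M))
  rw [(second_derived_le_fittingOf F hG hM).2.1]
  exact le_sup_of_le_left (le_inf (E.commutator_le_self.trans hE.1) hEC)

/-- If moreover `K ≠ 1`, then `U = 1`. -/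
theorem U_eq_bot_of_inter (F : BG15.BG14Facts G) (hG : Cfsg.IsMinSimpleOddOrder G) (hM : IsCoatom M)
    {K U : Subgroup G} (hKU : Cfsg.IsSigmaDecomposition M K U) (hK : K ≠ ⊥)
    (hnil : Group.IsNilpotent (Cfsg.sigmaCore M)) (hM' : ⁅M, M⁆ ≤ Cfsg.fittingOf M) : U = ⊥ := by
  by_contra hU
  obtain ⟨-, hC⟩ := sigmaCore_facts_of_U_ne_bot F hG hM hKU hU
  refine minSimple_sigmaCore_ne_bot hG hM (le_bot_iff.1 (le_trans (le_inf le_rfl ?_) hC.le))
  refine le_centralizer_of_coprime (isNilpotent_fittingOf M)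
    (le_fittingOf (sigmaCore_le M) (le_normalizer_sigmaCore M) hnil)
    ((le_sup_left.trans (BG15.commutator_eq_sup F hG hM hKU hK).ge).trans hM') ?_
  exact Nat.coprime_of_dvd fun r hr h1 h2 =>
    (sigmaDecomp_U_prime hG hM hKU hr h2).1 (isPiSubgroup_sigmaCore M r hr h1)

omit [Finite G] in
theorem pow_eq_one_of_exponent {p : ℕ} {A : Subgroup G} (h : Monoid.exponent A = p) {b : G}
    (hb : b ∈ A) : b ^ p = 1 := by
  subst h
  exact congrArg Subtype.val (Monoid.pow_exponent_eq_one (⟨b, hb⟩ : A))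

/-- A cyclic subgroup has `p`-rank at most one. -/
theorem pRankLE_one_of_cyclic {p : ℕ} [Fact p.Prime] {A : Subgroup G} (h : IsCyclic A) :
    Cfsg.PRankLE p 1 A := by
  intro B hB hBp
  haveI := h
  by_contra hlt
  refine not_isCyclic_of_elementary (p := p) (A := B) ⟨hB, hBp⟩ ?_ (isCyclic_of_le le_top)
  obtain ⟨n, hn⟩ := IsPGroup.iff_card.1 (isPGroup_of_isElementaryAbelian (p := p) ⟨hB, hBp⟩)
  rw [not_le, hn] at hlt
  rw [hn]
  exact Nat.pow_le_pow_right (Fact.out : p.Prime).pos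
    ((Nat.pow_lt_pow_iff_right (Fact.out : p.Prime).one_lt).1 hlt)

/-- Elementary abelian subgroups centralized by `x` are small. -/
theorem card_elementary_le_sq_of_centralized (hG : Cfsg.IsMinSimpleOddOrder G) (hM : IsCoatom M)
    {g x : G} (hg : g ∉ M) (hx : x ∈ Cfsg.sigmaCore M) (hx1 : x ≠ 1) (hxg : g⁻¹ * x * g ∈ M)
    {r : ℕ} [Fact r.Prime] {B : Subgroup G} (hB : Cfsg.IsElementaryAbelian r B) (hBM : B ≤ M)
    (hxB : x ∈ centralizer (B : Set G)) : Nat.card B ≤ r ^ 2 := by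
  obtain ⟨n, hn⟩ := IsPGroup.iff_card.1 (isPGroup_of_isElementaryAbelian hB)
  by_contra hlt
  rw [not_le, hn, Nat.pow_lt_pow_iff_right (Fact.out : r.Prime).one_lt] at hlt
  exact not_inUniqueMaximal_of_centralizes hG hM hg hx hx1 hxg hBM hxB
    (inUniqueMaximal_elementary hG hB (hn ▸ Nat.pow_le_pow_right (Fact.out : r.Prime).pos hlt))

/-- The central elements of order dividing `p` of a `p`-group with an element `x` of order `p`
outside its centre whose centralizer has rank at most two form a group of order `p`. -/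
theorem exists_central_line {p : ℕ} [Fact p.Prime] {P : Subgroup G} (hP : IsPGroup p P) {x : G}
    (hxP : x ∈ P) (hxo : orderOf x = p) (hxC : x ∉ centralizer (P : Set G))
    (hrk : ∀ B : Subgroup G, Cfsg.IsElementaryAbelian p B → B ≤ P →
      x ∈ centralizer (B : Set G) → Nat.card B ≤ p ^ 2) :
    ∃ Z : Subgroup G, Nat.card Z = p ∧ Z ≤ P ∧ Z ≤ centralizer (P : Set G) ∧
      normalizer (P : Set G) ≤ normalizer (Z : Set G) ∧
      ∀ w ∈ P, w ∈ centralizer (P : Set G) → w ^ p = 1 → w ∈ Z := by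
  let Z : Subgroup G :=
    { carrier := {w | w ∈ P ∧ w ∈ centralizer (P : Set G) ∧ w ^ p = 1}
      one_mem' := ⟨one_mem _, one_mem _, one_pow _⟩
      mul_mem' := fun {u v} hu hv => ⟨mul_mem hu.1 hv.1, mul_mem hu.2.1 hv.2.1, by
        rw [(show Commute u v from (mem_centralizer_iff.1 hv.2.1 u hu.1)).mul_pow, hu.2.2, hv.2.2,
          one_mul]⟩
      inv_mem' := fun {u} hu => ⟨inv_mem hu.1, inv_mem hu.2.1, by simp [hu.2.2]⟩ }
  have hZP : Z ≤ P := fun w hw => hw.1
  have hZC : Z ≤ centralizer (P : Set G) := fun w hw => hw.2.1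
  have hZe : Cfsg.IsElementaryAbelian p Z :=
    ⟨le_centralizer_iff_isMulCommutative.1 (hZC.trans (centralizer_le hZP)), fun w hw => hw.2.2⟩
  refine ⟨Z, ?_, hZP, hZC, fun m hm => ?_, fun w h1 h2 h3 => ⟨h1, h2, h3⟩⟩
  · obtain ⟨n, hn⟩ := IsPGroup.iff_card.1 (isPGroup_of_isElementaryAbelian hZe)
    have hEe : Cfsg.IsElementaryAbelian p (Z ⊔ zpowers x) :=
      BG5.isElementaryAbelian_sup hZe
        (BG5.isElementaryAbelian_zpowers (p := p) (hxo ▸ pow_orderOf_eq_one x))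
        (hZC.trans (centralizer_le (zpowers_le.2 hxP)))
    have hxE : x ∈ centralizer ((Z ⊔ zpowers x : Subgroup G) : Set G) := by
      haveI := hEe.1
      exact (Z ⊔ zpowers x).le_centralizer (mem_sup_right (mem_zpowers x))
    have hlt : Z < Z ⊔ zpowers x := lt_of_le_of_ne le_sup_left fun h =>
      hxC (hZC (h.symm ▸ mem_sup_right (mem_zpowers x)))
    have h1 : p ^ n < p ^ 2 := hn ▸ (BG5.card_lt_of_lt hlt).trans_le
      (hrk _ hEe (sup_le hZP (zpowers_le.2 hxP)) hxE)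
    have hn2 := (Nat.pow_lt_pow_iff_right (Fact.out : p.Prime).one_lt).1 h1
    have hn0 : n ≠ 0 := by
      rintro rfl
      haveI : Nontrivial P := ⟨⟨⟨x, hxP⟩, 1, fun h => (Fact.out : p.Prime).one_lt.ne (by
        rw [← hxo, show x = 1 from congrArg Subtype.val h, orderOf_one])⟩⟩
      obtain ⟨z, -, hzc, hzo⟩ := BG4.exists_central_orderOf_prime hP (N := ⊤) top_ne_bot
      have hz : (z : G) ∈ Z := ⟨z.2, mem_centralizer_iff.2 fun v hv =>
        congrArg Subtype.val (mem_center_iff.1 hzc ⟨v, hv⟩),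
        by rw [← hzo, ← Subgroup.orderOf_coe]; exact pow_orderOf_eq_one _⟩
      have hZb : Z = ⊥ := card_eq_one.1 (hn.trans (pow_zero p))
      rw [hZb, mem_bot] at hz
      rw [show z = 1 from Subtype.ext hz, orderOf_one] at hzo
      exact (Fact.out : p.Prime).one_lt.ne hzo
    rw [hn, show n = 1 by omega, pow_one]
  · refine map_conj_eq_self_iff.1 (eq_of_le_of_card_ge ?_ (card_map_conj _ _).ge)
    rintro _ ⟨w, hw, rfl⟩
    refine ⟨(mem_normalizer_iff.1 hm w).1 hw.1, ?_, ?_⟩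
    · have h := mem_centralizer_conj (g := m) hw.2.1
      rwa [map_conj_eq_self_iff.2 hm] at h
    · rw [← map_pow, hw.2.2, map_one]

/-- In a nonabelian Sylow subgroup no power `u ^ p` of order `p` has a small centralizer. -/
theorem false_of_pow_order_prime (hG : Cfsg.IsMinSimpleOddOrder G) {p : ℕ} [Fact p.Prime]
    (PG : Sylow p G) (hna : ¬ IsMulCommutative (PG : Subgroup G)) {u x : G}
    (hu : u ∈ (PG : Subgroup G)) (hux : u ^ p = x) (hxo : orderOf x = p)
    (hxC : x ∉ centralizer ((PG : Subgroup G) : Set G))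
    (hrk : ∀ B : Subgroup G, Cfsg.IsElementaryAbelian p B → B ≤ (PG : Subgroup G) →
      x ∈ centralizer (B : Set G) → Nat.card B ≤ p ^ 2) : False := by
  set P := (PG : Subgroup G) with hP
  by_cases hr : Cfsg.PRankLE p 2 P
  · rcases Cfsg.Agent.S1412.result hG p PG hr with h | ⟨P₁, P₂, hsup, hcomm, -, -, hexp, hcyc, -⟩
    · exact hna h
    change P₁ ⊔ P₂ = P at hsup
    have h12 : P₁ ≤ centralizer (P₂ : Set G) := fun a ha => mem_centralizer_iff.2 fun b hb =>
      (hcomm a ha b hb).symm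
    have hmem : u ∈ P₁ ⊔ P₂ := hsup.symm ▸ hu
    rw [← SetLike.mem_coe, coe_mul_of_left_le_normalizer_right _ _
      (h12.trans (centralizer_le_normalizer _))] at hmem
    obtain ⟨b, hb, c, hc, rfl⟩ := hmem
    apply hxC
    rw [← hux, (show Commute b c from hcomm b hb c hc).mul_pow,
      pow_eq_one_of_exponent hexp hb, one_mul]
    have hle : P₁ ⊔ P₂ ≤ centralizer ({c ^ p} : Set G) := by
      refine sup_le (h12.trans (centralizer_le ?_)) fun v hv => mem_centralizer_singleton_iff.2 ?_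
      · exact Set.singleton_subset_iff.2 (pow_mem hc p)
      · haveI := hcyc
        letI : CommGroup P₂ := IsCyclic.commGroup
        exact congrArg Subtype.val (mul_comm (⟨v, hv⟩ : P₂) ⟨c ^ p, pow_mem hc p⟩)
    exact mem_centralizer_iff.2 fun v hv =>
      mem_centralizer_singleton_iff.1 (hle (hsup.symm ▸ hv))
  · have hPp : IsPGroup p P := PG.isPGroup'
    set u' : P := ⟨u, hu⟩ with hu'
    set x' : P := u' ^ p with hx'
    have hx'v : (x' : G) = x := hux
    have hx'o : orderOf x' = p := by rw [← Subgroup.orderOf_coe, hx'v, hxo]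
    haveI : Nontrivial P := ⟨⟨x', 1, fun h => (Fact.out : p.Prime).one_lt.ne (by
      rw [← hx'o, h, orderOf_one])⟩⟩
    obtain ⟨z, -, hzc, hzo⟩ := BG4.exists_central_orderOf_prime hPp (N := ⊤) top_ne_bot
    set E : Subgroup P := zpowers x' ⊔ zpowers z with hE
    have hEe : Cfsg.IsElementaryAbelian p E :=
      BG5.isElementaryAbelian_sup (BG5.isElementaryAbelian_zpowers (hx'o ▸ pow_orderOf_eq_one x'))
        (BG5.isElementaryAbelian_zpowers (hzo ▸ pow_orderOf_eq_one z)) (by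
          rw [le_centralizer_iff]
          exact (zpowers_le.2 hzc).trans (center_le_centralizer _))
    have hbound : ∀ B : Subgroup P, Cfsg.IsElementaryAbelian p B → E ≤ B →
        Nat.card B ≤ p ^ 2 := by
      intro B hB hEB
      rw [← card_map_of_injective (f := P.subtype) P.subtype_injective]
      refine hrk _ (isElementaryAbelian_map P.subtype hB) (map_subtype_le _) (mem_centralizer_iff.2 ?_)
      rintro _ ⟨b, hb, rfl⟩
      haveI := hB.1
      rw [← hx'v]
      exact congrArg Subtype.val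
        (setLike_mul_comm (s := B) hb (hEB (mem_sup_left (mem_zpowers x'))))
    have hlt : zpowers z < E := lt_of_le_of_ne le_sup_right fun h => hxC (by
      have h1 : x' ∈ center P := zpowers_le.2 hzc (h.symm ▸ mem_sup_left (mem_zpowers x'))
      exact mem_centralizer_iff.2 fun v hv => by
        rw [← hx'v]; exact congrArg Subtype.val (mem_center_iff.1 h1 ⟨v, hv⟩))
    have hE2 : Nat.card E = p ^ 2 := by
      refine le_antisymm (hbound E hEe le_rfl) ?_
      obtain ⟨n, hn⟩ := IsPGroup.iff_card.1 (hPp.to_subgroup E)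
      have h1 := BG5.card_lt_of_lt hlt
      rw [Nat.card_zpowers, hzo, hn] at h1
      rw [hn]
      exact Nat.pow_le_pow_right (Fact.out : p.Prime).pos
        ((Nat.pow_lt_pow_iff_right (Fact.out : p.Prime).one_lt).1 ((pow_one p).trans_lt h1))
    obtain ⟨hET, -, -, hTc, hTi⟩ := Cfsg.Agent.S1453.result p
      (minSimple_prime_ne_two_subgroup hG (H := P) (by rw [← hx'o]; exact orderOf_dvd_natCard x'))
      hPp hr E hEe hE2
      fun B hB hEB => (eq_of_le_of_card_ge hEB ((hbound B hB hEB).trans_eq hE2.symm)).symm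
    set T := centralizer
      ((closure {v : P | v ∈ Subgroup.upperCentralSeries P 2 ∧ v ^ p = 1} : Subgroup P) : Set P) with hT
    haveI := hTc
    refine hET (sup_le (zpowers_le.2 ?_) ((zpowers_le.2 hzc).trans (center_le_centralizer _)))
    have h1 := Subgroup.pow_index_mem T u'
    rwa [hTi] at h1

/-- The rank two case of BG 15.7: a nonabelian Sylow subgroup with an operator group fixing just
a central line has order `p³` and exponent `p`. -/
theorem card_eq_cube_of_rank_two (hG : Cfsg.IsMinSimpleOddOrder G) {p : ℕ} [Fact p.Prime]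
    (PG : Sylow p G) (hna : ¬ IsMulCommutative (PG : Subgroup G))
    (hr : Cfsg.PRankLE p 2 (PG : Subgroup G)) {K Z : Subgroup G}
    (hKn : K ≤ normalizer ((PG : Subgroup G) : Set G))
    (hcop : (Nat.card K).Coprime (Nat.card (PG : Subgroup G)))
    (hZC : (PG : Subgroup G) ⊓ centralizer (K : Set G) = Z)
    (hZp : ∀ w ∈ Z, w ^ p = 1)
    (hZ : ∀ w ∈ (PG : Subgroup G), w ∈ centralizer ((PG : Subgroup G) : Set G) → w ^ p = 1 →
      w ∈ Z) :
    Nat.card (PG : Subgroup G) = p ^ 3 ∧ ∀ a ∈ (PG : Subgroup G), a ^ p = 1 := by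
  set P := (PG : Subgroup G) with hP
  rcases Cfsg.Agent.S1412.result hG p PG hr with h | ⟨P₁, P₂, hsup, hcomm, -, hc3, hexp, hcyc, hΩ⟩
  · exact absurd h hna
  change P₁ ⊔ P₂ = P at hsup
  haveI := hcyc
  have h12 : P₁ ≤ centralizer (P₂ : Set G) := fun a ha => mem_centralizer_iff.2 fun b hb =>
    (hcomm a ha b hb).symm
  have hP2c : ∀ c ∈ P₂, ∀ d ∈ P₂, Commute c d := fun c hc d hd => by
    letI : CommGroup P₂ := IsCyclic.commGroup
    exact congrArg Subtype.val (mul_comm (⟨c, hc⟩ : P₂) ⟨d, hd⟩)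
  have hdec : ∀ a ∈ P, ∃ b ∈ P₁, ∃ c ∈ P₂, a = b * c ∧ a ^ p = c ^ p := by
    intro a ha
    have hmem : a ∈ P₁ ⊔ P₂ := hsup.symm ▸ ha
    rw [← SetLike.mem_coe, coe_mul_of_left_le_normalizer_right _ _
      (h12.trans (centralizer_le_normalizer _))] at hmem
    obtain ⟨b, hb, c, hc, rfl⟩ := hmem
    refine ⟨b, hb, c, hc, rfl, ?_⟩
    rw [(show Commute b c from hcomm b hb c hc).mul_pow,
      pow_eq_one_of_exponent hexp hb, one_mul]
  have hpow : ∀ a ∈ P, ∀ a' ∈ P, (a * a') ^ p = a ^ p * a' ^ p := by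
    intro a ha a' ha'
    obtain ⟨b, hb, c, hc, rfl, e⟩ := hdec a ha
    obtain ⟨b', hb', c', hc', rfl, e'⟩ := hdec a' ha'
    have h1 : b * c * (b' * c') = b * b' * (c * c') := by
      rw [mul_assoc b c, ← mul_assoc c b', ← hcomm b' hb' c hc, mul_assoc b' c, ← mul_assoc]
    rw [h1, e, e', (show Commute (b * b') (c * c') from
        hcomm _ (mul_mem hb hb') _ (mul_mem hc hc')).mul_pow,
      pow_eq_one_of_exponent hexp (mul_mem hb hb'), one_mul,
      (hP2c c hc c' hc').mul_pow]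
  set A : Subgroup G :=
    (MonoidHom.mk' (fun a : P => (a : G) ^ p) fun a a' => hpow a a.2 a' a'.2).range with hA
  have hAP : A ≤ P := by rintro _ ⟨a, rfl⟩; exact pow_mem a.2 p
  have hAC : A ≤ centralizer (P : Set G) := by
    rintro _ ⟨a, rfl⟩
    obtain ⟨b, -, c, hc, -, e⟩ := hdec a a.2
    show (a : G) ^ p ∈ _
    rw [e, ← hsup]
    refine mem_centralizer_iff.2 fun v hv => ?_
    have hle : P₁ ⊔ P₂ ≤ centralizer ({c ^ p} : Set G) :=
      sup_le (h12.trans (centralizer_le (Set.singleton_subset_iff.2 (pow_mem hc p))))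
        fun w hw => mem_centralizer_singleton_iff.2 (hP2c w hw _ (pow_mem hc p))
    exact mem_centralizer_singleton_iff.1 (hle hv)
  haveI : IsMulCommutative A :=
    le_centralizer_iff_isMulCommutative.1 (hAC.trans (centralizer_le hAP))
  have hKA : K ≤ normalizer (A : Set G) := by
    intro k hk
    refine map_conj_eq_self_iff.1 (eq_of_le_of_card_ge ?_ (card_map_conj _ _).ge)
    rintro _ ⟨_, ⟨a, rfl⟩, rfl⟩
    exact ⟨⟨_, (mem_normalizer_iff.1 (hKn hk) a).1 a.2⟩, conj_pow.trans rfl⟩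
  let B : Subgroup G :=
    { carrier := {a | a ∈ P ∧ a ^ p ∈ ⁅A, K⁆}
      one_mem' := ⟨one_mem _, by rw [one_pow]; exact one_mem _⟩
      mul_mem' := fun {a b} ha hb => ⟨mul_mem ha.1 hb.1, by
        rw [hpow a ha.1 b hb.1]; exact mul_mem ha.2 hb.2⟩
      inv_mem' := fun {a} ha => ⟨inv_mem ha.1, by rw [inv_pow]; exact inv_mem ha.2⟩ }
  have hPB : P ≤ B := by
    rw [← Coprime.commutator_sup_centralizer hKn hcop
      (Or.inr (minSimple_solvable hG (minSimple_ne_top_of_isPGroup hG PG.isPGroup')))]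
    refine sup_le (commutator_le.2 fun a ha k hk => ?_) fun w hw =>
      ⟨hw.1, by rw [hZp w (hZC.le hw)]; exact one_mem _⟩
    have hk' : k * a⁻¹ * k⁻¹ ∈ P := (mem_normalizer_iff.1 (hKn hk) a⁻¹).1 (inv_mem ha)
    refine ⟨by simpa [commutatorElement_def, mul_assoc] using mul_mem ha hk', ?_⟩
    have h1 : ⁅a, k⁆ = a * (k * a⁻¹ * k⁻¹) := by simp [commutatorElement_def, mul_assoc]
    rw [h1, hpow a ha _ hk', conj_pow, inv_pow]
    simpa [commutatorElement_def, mul_assoc] using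
      commutator_mem_commutator (show a ^ p ∈ A from ⟨⟨a, ha⟩, rfl⟩) hk
  have hA1 : A = ⊥ := by
    by_contra hne
    obtain ⟨m, hm⟩ := IsPGroup.iff_card.1 (PG.isPGroup'.to_le hAP)
    obtain ⟨z, hz⟩ := exists_prime_orderOf_dvd_card' (G := A) p (hm ▸ dvd_pow_self p fun h0 =>
      hne (card_eq_one.1 (by rw [hm, h0, pow_zero])))
    have hzZ : (z : G) ∈ Z := hZ _ (hAP z.2) (hAC z.2) (by
      rw [← hz, ← Subgroup.orderOf_coe]; exact pow_orderOf_eq_one _)
    have hAK : A ≤ ⁅A, K⁆ := by rintro _ ⟨a, rfl⟩; exact (hPB a.2).2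
    have h1 : (z : G) ∈ (A ⊓ centralizer (K : Set G)) ⊓ ⁅A, K⁆ :=
      ⟨⟨z.2, (hZC.ge hzZ).2⟩, hAK z.2⟩
    rw [Coprime.inf_centralizer_inf_commutator_eq_bot hKA
      (hcop.coprime_dvd_right (card_dvd_of_le hAP)), mem_bot] at h1
    rw [show z = 1 from Subtype.ext h1, orderOf_one] at hz
    exact (Fact.out : p.Prime).one_lt.ne hz
  have hexpP : ∀ a ∈ P, a ^ p = 1 := fun a ha => by
    rw [← mem_bot, ← hA1]; exact ⟨⟨a, ha⟩, rfl⟩
  refine ⟨?_, hexpP⟩
  have hP2 : P₂ ≤ P₁ := fun c hc =>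
    (hΩ.le (subset_closure ⟨hc, hexpP c (hsup.le (mem_sup_right hc))⟩)).1
  rw [← hsup, sup_eq_left.2 hP2, hc3]

theorem pCore_map_eq {H : Subgroup G} {p : ℕ} [Fact p.Prime] :
    (Cfsg.pCore p ↥H).map H.subtype = Cfsg.piCoreOf ({p} : Set ℕ) H := by
  unfold Cfsg.piCoreOf
  congr 1
  refine le_antisymm ?_ (PLocal.le_pCore (isPGroup_of_isPiSubgroup (isPiSubgroup_piCore _ _)))
  haveI : (Cfsg.pCore p ↥H).Normal := Subgroup.sSup_normal _ fun _ h => h.1
  exact le_piCore (isPiSubgroup_of_isPGroup (PLocal.isPGroup_pCore p _) (Set.mem_singleton p))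

/-- The primary components of `M_F` are normal Sylow subgroups of `M`. -/
theorem piCoreOf_fittingHallOf_sylow {p : ℕ} [Fact p.Prime]
    (hp : p ∣ Nat.card (Cfsg.fittingHallOf M)) :
    IsSylowIn p (Cfsg.piCoreOf ({p} : Set ℕ) (Cfsg.fittingHallOf M)) M := by
  obtain ⟨S⟩ : Nonempty (Sylow p M) := Sylow.nonempty
  rw [← sylow_eq_piCoreOf_fittingHallOf hp S]
  exact isSylowIn_map_subtype S

/-- A line in a cyclic primary component of `M_F` is normal in `M`. -/
theorem exists_normal_line {r : ℕ} [Fact r.Prime] (hd : r ∣ Nat.card (Cfsg.fittingHallOf M))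
    (hcyc : IsCyclic ↥(Cfsg.piCoreOf ({r} : Set ℕ) (Cfsg.fittingHallOf M))) :
    ∃ L : Subgroup G, Nat.card L = r ∧
      L ≤ Cfsg.piCoreOf ({r} : Set ℕ) (Cfsg.fittingHallOf M) ∧ M ≤ normalizer (L : Set G) := by
  set R := Cfsg.piCoreOf ({r} : Set ℕ) (Cfsg.fittingHallOf M) with hR
  have hRn : M ≤ normalizer (R : Set G) :=
    (le_normalizer_fittingHallOf M).trans (normalizer_le_normalizer_piCoreOf _ _)
  obtain ⟨y, hy⟩ := exists_prime_orderOf_dvd_card' (G := Cfsg.fittingHallOf M) r hd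
  have hyo : orderOf (y : G) = r := by rw [Subgroup.orderOf_coe, hy]
  have hyR : (y : G) ∈ R := nilpotent_le_piCoreOf (isNilpotent_fittingHallOf M) (zpowers_le.2 y.2)
    (isPiSubgroup_of_isPGroup (p := r)
      (IsPGroup.of_card (n := 1) (by rw [Nat.card_zpowers, hyo, pow_one])) (Set.mem_singleton r))
    (mem_zpowers _)
  refine ⟨zpowers (y : G), by rw [Nat.card_zpowers, hyo], zpowers_le.2 hyR, fun m hm => ?_⟩
  refine map_conj_eq_self_iff.1 (eq_of_le_of_card_ge ?_ (card_map_conj _ _).ge)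
  rw [MonoidHom.map_zpowers, zpowers_le]
  haveI := hcyc
  refine mem_zpowers_of_rank_one inferInstance (pRankLE_one_of_cyclic hcyc) hyR
    ((mem_normalizer_iff.1 (hRn hm) _).1 hyR) hyo ?_
  show (m * y * m⁻¹) ^ r = 1
  rw [conj_pow, ← hyo, pow_orderOf_eq_one]
  simp

/-- The abelian case of BG 15.7. -/
theorem abelian_case_of_inter (F : BG15.BG14Facts G) (hG : Cfsg.IsMinSimpleOddOrder G) (hM : IsCoatom M) {K U : Subgroup G}
    (hKU : Cfsg.IsSigmaDecomposition M K U) {g : G} (hg : g ∉ M) {p : ℕ} [Fact p.Prime] {x : G}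
    (hxo : orderOf x = p) (hnil : Group.IsNilpotent (Cfsg.sigmaCore M))
    (hM' : ⁅M, M⁆ ≤ Cfsg.fittingOf M) (hH : Cfsg.fittingHallOf M = Cfsg.sigmaCore M)
    (hxH : x ∈ Cfsg.fittingHallOf M) (hyH : g⁻¹ * x * g ∈ Cfsg.fittingHallOf M)
    (hc : IsMulCommutative (Cfsg.fittingHallOf M)) :
    K = ⊥ ∧ Cfsg.RankLE 2 (Cfsg.fittingHallOf M) ∧ ¬ Cfsg.RankLE 1 (Cfsg.fittingHallOf M) := by
  have hx1 : x ≠ 1 := fun h => (Fact.out : p.Prime).one_lt.ne (by rw [← hxo, h, orderOf_one])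
  have hHM := fittingHallOf_le M
  have hHC : Cfsg.fittingHallOf M ≤ centralizer (Cfsg.fittingHallOf M : Set G) :=
    le_centralizer_iff_isMulCommutative.2 hc
  refine ⟨?_, ?_, fun hr => hg (mem_of_rank_one hG hM hHM (le_normalizer_fittingHallOf M) hc
    (hr p Fact.out) hxH hxo hyH)⟩
  · by_contra hK
    have hU := U_eq_bot_of_inter F hG hM hKU hK hnil hM'
    have h := (Cfsg.Agent.S1426.result hG M hM K (sigmaDecomp_isComplIn_of_U_eq_bot hKU hU)).1
    refine kappaStar_ne_bot F hM hKU.hall hK (le_bot_iff.1 (h.trans ?_))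
    rw [← hH, le_bot_iff, commutator_eq_bot_iff_le_centralizer]
    exact hHC
  · by_contra hr
    obtain ⟨r, hr', A, hAH, hA, hA3⟩ := exists_elementary_of_not_rankLE hr
    haveI := Fact.mk hr'
    exact (Nat.pow_lt_pow_right hr'.one_lt (by omega : 2 < 2 + 1)).not_ge (hA3.trans
      (card_elementary_le_sq_of_centralized hG hM hg (hH ▸ hxH) hx1 (hHM hyH) hA (hAH.trans hHM)
        (centralizer_le hAH (hHC hxH))))

/-- The structure of `M_F` in the nonabelian case of BG 15.7. -/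
theorem nonabelian_structure (hG : Cfsg.IsMinSimpleOddOrder G) (hM : IsCoatom M)
    {g : G} (hg : g ∉ M) (hX : Cfsg.fittingOf M ⊓ (Cfsg.fittingOf M).map (MulAut.conj g).toMonoidHom ≠ ⊥)
    (hH : Cfsg.fittingHallOf M = Cfsg.sigmaCore M)
    (hna : ¬ IsMulCommutative (Cfsg.fittingHallOf M)) :
    ∃ p : ℕ, p.Prime ∧
      Nat.card ↥(Cfsg.fittingOf M ⊓ (Cfsg.fittingOf M).map (MulAut.conj g).toMonoidHom) = p ∧
      p ∈ Cfsg.sigma M ∧ p ∉ Cfsg.beta M ∧ p ∣ Nat.card (Cfsg.fittingHallOf M) ∧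
      ¬ IsMulCommutative (Cfsg.piCoreOf ({p} : Set ℕ) (Cfsg.fittingHallOf M)) ∧
      ¬ IsMulCommutative (Cfsg.pCore p ↥(Cfsg.fittingHallOf M)) ∧
      IsCyclic (Cfsg.pPrimeCore p ↥(Cfsg.fittingHallOf M)) ∧
      (∀ r : ℕ, r.Prime → r ∣ Nat.card (Cfsg.fittingHallOf M) → r ≠ p →
        IsCyclic ↥(Cfsg.piCoreOf ({r} : Set ℕ) (Cfsg.fittingHallOf M))) ∧
      ∃ Z : Subgroup G, Nat.card Z = p ∧
        Z ≤ Cfsg.piCoreOf ({p} : Set ℕ) (Cfsg.fittingHallOf M) ∧
        Z ≤ centralizer ((Cfsg.piCoreOf ({p} : Set ℕ) (Cfsg.fittingHallOf M) : Subgroup G) : Set G) ∧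
        M ≤ normalizer (Z : Set G) ∧
        ∀ w ∈ Cfsg.piCoreOf ({p} : Set ℕ) (Cfsg.fittingHallOf M),
          w ∈ centralizer ((Cfsg.piCoreOf ({p} : Set ℕ) (Cfsg.fittingHallOf M) : Subgroup G) : Set G) →
            w ^ p = 1 → w ∈ Z := by
  obtain ⟨hXS, hXc, hXp⟩ := fitting_inter_facts hG hM hg
  set X := Cfsg.fittingOf M ⊓ (Cfsg.fittingOf M).map (MulAut.conj g).toMonoidHom with hXdef
  set H := Cfsg.fittingHallOf M with hHdef
  have hHn := isNilpotent_fittingHallOf M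
  have hHM : H ≤ M := fittingHallOf_le M
  obtain ⟨p, hp, hpd, hna'⟩ : ∃ p : ℕ, p.Prime ∧ p ∣ Nat.card H ∧
      ¬ IsMulCommutative (Cfsg.piCoreOf ({p} : Set ℕ) H) := by
    by_contra hcon
    exact hna (isMulCommutative_of_forall_piCoreOf hHn fun r hr hd => by
      by_contra h; exact hcon ⟨r, hr, hd, h⟩)
  haveI := Fact.mk hp
  set P := Cfsg.piCoreOf ({p} : Set ℕ) H with hPdef
  have hPH : P ≤ H := piCoreOf_le _ _
  have hPp : IsPGroup p P := isPGroup_of_isPiSubgroup (isPiSubgroup_piCoreOf _ _)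
  have hPu : Cfsg.InUniqueMaximal P := Cfsg.Agent.S1422.result hG p P hPp hna'
  -- elements of `X`
  have hXmem : ∀ v ∈ X, v ∈ H ∧ g⁻¹ * v * g ∈ M := fun v hv =>
    ⟨hH ▸ hXS hv, fittingOf_le M (mem_map_conj_iff.1 hv.2)⟩
  have hXP : ∀ v ∈ X, v ≠ 1 → v ∉ centralizer (P : Set G) := fun v hv hv1 hvC =>
    not_inUniqueMaximal_of_centralizes hG hM hg (hXS hv) hv1 (hXmem v hv).2 (hPH.trans hHM) hvC hPu
  have hXpr : ∀ r : ℕ, r.Prime → r ∣ Nat.card X → r = p := by
    intro r hr hd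
    haveI := Fact.mk hr
    by_contra hne
    obtain ⟨v, hv⟩ := exists_prime_orderOf_dvd_card' (G := X) r hd
    have hvo : orderOf (v : G) = r := by rw [Subgroup.orderOf_coe, hv]
    refine hXP v v.2 (fun h => hr.one_lt.ne (by rw [← hvo, h, orderOf_one])) ?_
    obtain ⟨n, hn⟩ := IsPGroup.iff_card.1 hPp
    refine mem_centralizer_of_coprime hHn hPH (hXmem v v.2).1 ?_
    rw [hvo, hn]
    exact ((Nat.coprime_primes hr hp).2 hne).pow_right n
  obtain ⟨r, hr, hrd⟩ := Nat.exists_prime_and_dvd (mt Subgroup.card_eq_one.1 hX)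
  obtain rfl := hXpr r hr hrd
  obtain ⟨x0, hx0⟩ := exists_prime_orderOf_dvd_card' (G := X) r hrd
  obtain ⟨x, hxX, hxo⟩ : ∃ x ∈ X, orderOf x = r :=
    ⟨x0, x0.2, by rw [Subgroup.orderOf_coe, hx0]⟩
  have hXr : IsPGroup r X := isPGroup_of_isPiSubgroup fun s hs hd => hXpr s hs hd
  have hXleP : X ≤ P := nilpotent_le_piCoreOf hHn (fun v hv => (hXmem v hv).1)
    (isPiSubgroup_of_isPGroup hXr (Set.mem_singleton r))
  obtain ⟨hrσ, hrβ⟩ := hXp r hr hrd
  have hrk : ∀ v ∈ X, v ≠ 1 → ∀ B : Subgroup G, Cfsg.IsElementaryAbelian r B → B ≤ P →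
      v ∈ centralizer (B : Set G) → Nat.card B ≤ r ^ 2 := fun v hv hv1 B hB hBP hvB =>
    card_elementary_le_sq_of_centralized hG hM hg (hXS hv) hv1 (hXmem v hv).2 hB
      ((hBP.trans hPH).trans hHM) hvB
  have hx1 : x ≠ 1 := fun h => hr.one_lt.ne (by rw [← hxo, h, orderOf_one])
  have hPsyl : IsSylowIn r P M := piCoreOf_fittingHallOf_sylow hpd
  have hcycr : ∀ s : ℕ, s.Prime → s ∣ Nat.card H → s ≠ r →
      IsCyclic ↥(Cfsg.piCoreOf ({s} : Set ℕ) H) := by
    intro s hs hsd hsr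
    haveI := Fact.mk hs
    by_contra hnc
    set R := Cfsg.piCoreOf ({s} : Set ℕ) H with hR
    have hcop : (Nat.card R).Coprime (Nat.card P) :=
      coprime_card_of_isPiSubgroup (isPiSubgroup_piCoreOf _ _) (isPiSubgroup_piCoreOf _ _)
        (Set.disjoint_singleton.2 hsr)
    obtain ⟨A, hAR, hA, hAc⟩ := exists_elementary_card_sq_of_not_isCyclic
      (isPGroup_of_isPiSubgroup (isPiSubgroup_piCoreOf _ _))
      (minSimple_prime_ne_two_subgroup hG hsd) hnc
    refine not_inUniqueMaximal_of_centralizes hG hM hg (hXS hxX) hx1 (hXmem x hxX).2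
      ((piCoreOf_le _ _).trans hHM)
      (le_centralizer_of_coprime hHn hPH (piCoreOf_le _ _) hcop.symm (hXleP hxX))
      (inUniqueMaximal_of_centralizes hG hPu
        (le_centralizer_of_coprime hHn (piCoreOf_le _ _) hPH hcop)
        fun hle => not_pRankLE_of_le (k := 1) hAR hA hAc.ge (hle s hs))
  refine ⟨r, hr, ?_, hrσ, hrβ, hpd, hna', fun hc => hna' ?_, ?_, hcycr, ?_⟩
  · -- `|X| = r`
    obtain ⟨n, hn⟩ := IsPGroup.iff_card.1 hXr
    obtain ⟨a, ha⟩ := hXc.exists_generator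
    have hao : orderOf (a : G) = r ^ n := by
      rw [Subgroup.orderOf_coe, orderOf_eq_card_of_forall_mem_zpowers ha, hn]
    have hn1 : n = 1 := by
      by_contra hne
      obtain ⟨m, rfl⟩ : ∃ m, n = m + 2 := ⟨n - 2, by
        have : n ≠ 0 := fun h0 => hX (card_eq_one.1 (by rw [hn, h0, pow_zero]))
        omega⟩
      have hu : ((a : G) ^ r ^ m) ∈ X := pow_mem a.2 _
      have huo : orderOf (((a : G) ^ r ^ m) ^ r) = r := by
        rw [← pow_mul, ← pow_succ, orderOf_pow_of_dvd (pow_ne_zero _ hr.ne_zero)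
          (hao ▸ pow_dvd_pow r (by omega)), hao, Nat.pow_div (by omega) hr.pos,
          show m + 2 - (m + 1) = 1 by omega, pow_one]
      have hv1 : ((a : G) ^ r ^ m) ^ r ≠ 1 := fun h => hr.one_lt.ne (by
        rw [← huo, h, orderOf_one])
      exact false_of_pow_order_prime hG (sigma_isSylowIn_top hrσ hPsyl).toSylowTop hna'
        (hXleP hu) rfl huo (hXP _ (pow_mem hu r) hv1) (hrk _ (pow_mem hu r) hv1)
    rw [hn, hn1, pow_one]
  · rw [hPdef, ← pCore_map_eq]
    haveI := hc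
    infer_instance
  · -- `O_{r'}(H)` is cyclic
    haveI := hHn
    refine isCyclic_of_primary fun s hs T => ?_
    by_cases hT : s ∣ Nat.card (Cfsg.pPrimeCore r ↥H)
    · have hsr : s ≠ r := by
        rintro rfl
        exact (Fact.out : s.Prime).not_dvd_one
          ((PLocal.coprime_card_pPrimeCore s ↥H).gcd_eq_one ▸ Nat.dvd_gcd hT dvd_rfl)
      have hle : ((T : Subgroup (Cfsg.pPrimeCore r ↥H)).map (Cfsg.pPrimeCore r ↥H).subtype).map
          H.subtype ≤ Cfsg.piCoreOf ({s} : Set ℕ) H :=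
        nilpotent_le_piCoreOf hHn (map_subtype_le _)
          (isPiSubgroup_of_isPGroup ((T.isPGroup'.map _).map _) (Set.mem_singleton s))
      haveI := hcycr s Fact.out (hT.trans (card_subgroup_dvd_card _)) hsr
      haveI : IsCyclic ↥(((T : Subgroup (Cfsg.pPrimeCore r ↥H)).map
          (Cfsg.pPrimeCore r ↥H).subtype).map H.subtype) := isCyclic_of_le hle
      have e := ((T : Subgroup (Cfsg.pPrimeCore r ↥H)).equivMapOfInjective
        (Cfsg.pPrimeCore r ↥H).subtype (subtype_injective _)).trans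
        (equivMapOfInjective _ H.subtype (subtype_injective _))
      exact isCyclic_of_surjective e.symm.toMonoidHom e.symm.surjective
    · haveI : Subsingleton T := (Nat.card_eq_one_iff_unique.1 (by
        obtain ⟨k, hk⟩ := IsPGroup.iff_card.1 T.isPGroup'
        rcases k with _ | k
        · simpa using hk
        · exact absurd ((hk ▸ dvd_pow_self s k.succ_ne_zero).trans (card_subgroup_dvd_card _)) hT)).1
      infer_instance
  · obtain ⟨Z, hZc, hZP, hZC, hZn, hZ⟩ :=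
      exists_central_line hPp (hXleP hxX) hxo (hXP x hxX hx1) (hrk x hxX hx1)
    exact ⟨Z, hZc, hZP, hZC, (((le_normalizer_fittingHallOf M).trans
      (normalizer_le_normalizer_piCoreOf _ _)).trans hZn), hZ⟩

/-- The exponent of `M/M_F` divides `q - 1` for every `q` when `K = 1`. -/
theorem exponent_dvd_of_K_eq_bot (F : BG15.BG14Facts G) (hG : Cfsg.IsMinSimpleOddOrder G) (hM : IsCoatom M)
    {K U : Subgroup G} (hKU : Cfsg.IsSigmaDecomposition M K U) (hK : K = ⊥)
    (hH : Cfsg.fittingHallOf M = Cfsg.sigmaCore M)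
    (hlines : ∀ q : ℕ, q.Prime → q ∣ Nat.card (Cfsg.fittingHallOf M) →
      ∃ L : Subgroup G, Nat.card L = q ∧ L ≤ Cfsg.fittingHallOf M ∧ M ≤ normalizer (L : Set G)) :
    ∀ q : ℕ, q.Prime → q ∣ Nat.card (Cfsg.fittingHallOf M) →
      Monoid.exponent (↥M ⧸ Cfsg.fittingHall ↥M) ∣ q - 1 := by
  obtain ⟨E, hE, -, -⟩ := exists_sigmaComplement_ge hG hM (U := ⊥) bot_le fun r hr hd => by
    rw [Subgroup.card_bot] at hd; exact absurd (Nat.dvd_one.1 hd) hr.ne_one
  have hκ : ∀ r : ℕ, r.Prime → r ∉ Cfsg.kappa M := fun r hr hk => by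
    refine hKU.hall.2.2 r hr hk ?_
    rw [hK, Subgroup.relIndex_bot_left]
    exact hk.2.1
  obtain ⟨E0, hE0E, hexp, hfpf⟩ := (F.regularExponent M hM E hE fun e he he1 ht => by
    by_contra hne
    obtain ⟨y, hy, hy1⟩ := (bot_or_exists_ne_one _).resolve_left hne
    obtain ⟨s, hs, hsd⟩ := Nat.exists_prime_and_dvd (mt orderOf_eq_one_iff.1 he1)
    rcases F.sigmaPrimeCentralizer M hM y hy.1 hy1 e
      ⟨hE.1 he, mem_centralizer_singleton_iff.2 (mem_centralizer_singleton_iff.1 hy.2).symm⟩ he1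
      (fun r hr hd => (ht r hr hd).elim (fun h => h.2.1) fun h => h.2.1) with h | h
    · exact hκ s hs (h.1 s hs hsd)
    · exact (h.1 s hs hsd).2.2.2 ((ht s hs hsd).elim (fun h' => h'.2.2.2.2) fun h' => h'.2.2.2)).2
  intro q hq hd
  obtain ⟨L, hLc, hLH, hLn⟩ := hlines q hq hd
  refine (exponent_quotient_dvd _ hE.1 fun m => ?_).trans ?_
  · obtain ⟨e, he, w, hw, h⟩ := hE.2.2.2 m m.2
    rw [← hH] at hw
    obtain ⟨w', hw', rfl⟩ := hw
    exact ⟨e, he, w', hw', h⟩
  · rw [← hexp]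
    refine Group.exponent_dvd_nat_card.trans (card_dvd_sub_one_of_fpf hLc
      ((hE0E.trans hE.1).trans hLn) fun a ha ha1 => le_bot_iff.1 ?_)
    exact le_trans (inf_le_inf_right _ (hLH.trans hH.le)) (hfpf a ha ha1).le

/-- BG 15.7, with `M' ≤ F(M)` in place of equality. -/
theorem fitting_inter_structure (F : BG15.BG14Facts G) (hG : Cfsg.IsMinSimpleOddOrder G) (hM : IsCoatom M)
    {K U : Subgroup G} (hKU : Cfsg.IsSigmaDecomposition M K U) {g : G} (hg : g ∉ M)
    (hX : Cfsg.fittingOf M ⊓ (Cfsg.fittingOf M).map (MulAut.conj g).toMonoidHom ≠ ⊥) :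
    (Cfsg.fittingOf M ⊓ (Cfsg.fittingOf M).map (MulAut.conj g).toMonoidHom ≤ Cfsg.fittingHallOf M ∧
      IsCyclic ↥(Cfsg.fittingOf M ⊓ (Cfsg.fittingOf M).map (MulAut.conj g).toMonoidHom)) ∧
    Cfsg.fittingHallOf M = Cfsg.sigmaCore M ∧ (K ≠ ⊥ → U = ⊥) ∧
      (⁅M, M⁆ ≤ Cfsg.fittingOf M ∧ Cfsg.fittingOf M = Cfsg.sigmaCore M ⊔
        Cfsg.piCoreOf {q | q.Prime ∧ q ∉ Cfsg.sigma M} (Cfsg.fittingOf M)) ∧
      ((K = ⊥ ∧ IsMulCommutative (Cfsg.fittingHallOf M) ∧ Cfsg.RankLE 2 (Cfsg.fittingHallOf M) ∧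
          ¬ Cfsg.RankLE 1 (Cfsg.fittingHallOf M)) ∨
       (∃ p : ℕ, p.Prime ∧
          Nat.card ↥(Cfsg.fittingOf M ⊓ (Cfsg.fittingOf M).map (MulAut.conj g).toMonoidHom) = p ∧
          p ∈ Cfsg.sigma M ∧ p ∉ Cfsg.beta M ∧
          ¬ IsMulCommutative (Cfsg.pCore p ↥(Cfsg.fittingHallOf M)) ∧
          IsCyclic (Cfsg.pPrimeCore p ↥(Cfsg.fittingHallOf M)) ∧
          ∀ q : ℕ, q.Prime → q ∣ Nat.card (Cfsg.fittingHallOf M) →
            Monoid.exponent (↥M ⧸ Cfsg.fittingHall ↥M) ∣ q - 1) ∨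
       (∃ p : ℕ, p.Prime ∧
          Nat.card ↥(Cfsg.fittingOf M ⊓ (Cfsg.fittingOf M).map (MulAut.conj g).toMonoidHom) = p ∧
          p ∈ Cfsg.sigma M ∧ p ∉ Cfsg.beta M ∧
          IsCyclic (Cfsg.pPrimeCore p ↥(Cfsg.fittingHallOf M)) ∧
          Nat.card (Cfsg.pCore p ↥(Cfsg.fittingHallOf M)) = p ^ 3 ∧
          ¬ IsMulCommutative (Cfsg.pCore p ↥(Cfsg.fittingHallOf M)) ∧ K ≠ ⊥ ∧ U = ⊥ ∧
          (Cfsg.fittingHallOf M).relIndex M ∣ p + 1)) := by
  obtain ⟨hXS, hXc, hXp⟩ := fitting_inter_facts hG hM hg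
  obtain ⟨p, hp, hpd⟩ := Nat.exists_prime_and_dvd (mt Subgroup.card_eq_one.1 hX)
  haveI := Fact.mk hp
  obtain ⟨x0, hx0⟩ := exists_prime_orderOf_dvd_card'
    (G := ↥(Cfsg.fittingOf M ⊓ (Cfsg.fittingOf M).map (MulAut.conj g).toMonoidHom)) p hpd
  obtain ⟨x, hxX, hxo⟩ : ∃ x ∈ Cfsg.fittingOf M ⊓
      (Cfsg.fittingOf M).map (MulAut.conj g).toMonoidHom, orderOf x = p :=
    ⟨x0, x0.2, by rw [Subgroup.orderOf_coe, hx0]⟩
  have hxg : g⁻¹ * x * g ∈ Cfsg.fittingOf M := mem_map_conj_iff.1 hxX.2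
  have hxgM := fittingOf_le M hxg
  obtain ⟨hpσ, hpβ⟩ := hXp p hp hpd
  have hnil := isNilpotent_sigmaCore_of_inter F hG hM hg hxo hpβ hxX.1 (hXS hxX) hxgM
  have hM' := commutator_le_fittingOf_of_inter F hG hM hg hxo hpβ hxX.1 (hXS hxX) hxgM
  have hH := fittingHallOf_eq_sigmaCore hG hM (sigmaCore_isHall hG hM).1 hnil
  have hFS : Cfsg.fittingOf (Cfsg.sigmaCore M) = Cfsg.sigmaCore M :=
    le_antisymm (fittingOf_le _) (le_fittingOf le_rfl le_normalizer hnil)
  refine ⟨⟨hXS.trans hH.ge, hXc⟩, hH, fun hK => U_eq_bot_of_inter F hG hM hKU hK hnil hM',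
    ⟨hM', by rw [← hFS]; exact (fittingOf_sigmaPrime_part hG hM).2.2⟩, ?_⟩
  by_cases hc : IsMulCommutative (Cfsg.fittingHallOf M)
  · left
    have hgo : orderOf (g⁻¹ * x * g) = p := by
      rw [← hxo]
      simpa using orderOf_injective (MulAut.conj g⁻¹).toMonoidHom (MulAut.conj g⁻¹).injective x
    have hyH : g⁻¹ * x * g ∈ Cfsg.fittingHallOf M := hH ▸
      le_sigmaCore_of_primes hG hM (zpowers_le.2 hxgM) (isPiSubgroup_of_isPGroup (p := p)
        (IsPGroup.of_card (n := 1) (by rw [Nat.card_zpowers, hgo, pow_one])) hpσ) (mem_zpowers _)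
    obtain ⟨h1, h2, h3⟩ := abelian_case_of_inter F hG hM hKU hg hxo hnil hM' hH
      (hH ▸ hXS hxX) hyH hc
    exact ⟨h1, hc, h2, h3⟩
  right
  obtain ⟨q, hq, hXq, hqσ, hqβ, hqH, hPna, hcna, hOc, hcyc, Z, hZc, hZP, hZC, hZn, hZ⟩ :=
    nonabelian_structure hG hM hg hX hH hc
  haveI := Fact.mk hq
  set H := Cfsg.fittingHallOf M with hHdef
  set P := Cfsg.piCoreOf ({q} : Set ℕ) H with hPdef
  have hPH : P ≤ H := piCoreOf_le _ _
  have hlines : ∀ r : ℕ, r.Prime → r ∣ Nat.card H →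
      ∃ L : Subgroup G, Nat.card L = r ∧ L ≤ H ∧ M ≤ normalizer (L : Set G) ∧ (r = q → L = Z) := by
    intro r hr hd
    haveI := Fact.mk hr
    by_cases hrq : r = q
    · subst hrq; exact ⟨Z, hZc, hZP.trans hPH, hZn, fun _ => rfl⟩
    · obtain ⟨L, h1, h2, h3⟩ := exists_normal_line hd (hcyc r hr hd hrq)
      exact ⟨L, h1, h2.trans (piCoreOf_le _ _), h3, fun h => absurd h hrq⟩
  by_cases hK : K = ⊥
  · refine Or.inl ⟨q, hq, hXq, hqσ, hqβ, hcna, hOc, exponent_dvd_of_K_eq_bot F hG hM hKU hK hH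
      fun r hr hd => ?_⟩
    obtain ⟨L, h1, h2, h3, -⟩ := hlines r hr hd
    exact ⟨L, h1, h2, h3⟩
  have hU := U_eq_bot_of_inter F hG hM hKU hK hnil hM'
  have hE := sigmaDecomp_isComplIn_of_U_eq_bot hKU hU
  have hKcop := sigmaDecomp_K_coprime hKU
  have hKM := sigmaDecomp_K_le hKU
  set Ks := Cfsg.sigmaCore M ⊓ centralizer (K : Set G) with hKs
  have hCk : ∀ k ∈ K, k ≠ 1 → Cfsg.sigmaCore M ⊓ centralizer ({k} : Set G) = Ks :=
    (F.kappaStructure M hM K hKU.hall hK).1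
  -- `H' ≤ P`, so `K*` has order `q`
  have hH'P : ⁅H, H⁆ ≤ P := by
    obtain ⟨O, hO⟩ := exists_isPiHallOf {r | r.Prime ∧ r ≠ q} (M := H)
      (minSimple_solvable hG fun h => hM.1 (top_le_iff.1 (h ▸ fittingHallOf_le M)))
    have hPhall : Cfsg.IsPiHallOf ({q} : Set ℕ) P H :=
      ⟨hPH, isPiSubgroup_piCoreOf _ _, fun r hr hrq hd => by
        rw [Set.mem_singleton_iff.1 hrq] at hd
        exact ((piCoreOf_fittingHallOf_sylow hqH).of_le hPH (fittingHallOf_le M)).2.2 hd⟩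
    have hPn : H ≤ normalizer (P : Set G) := le_normalizer_piCoreOf _ _
    obtain ⟨-, -, -, hgen⟩ := isComplIn_of_isPiHallOf hPn hPhall hO
      fun r hr => ⟨fun h => by simpa using h.2, fun h => ⟨hr, by simpa using h⟩⟩
    refine (commutator_le_sup_of_generation hO.1 hPH hPn hgen).trans (sup_le ?_ le_rfl)
    refine le_trans (le_of_eq (commutator_eq_bot_iff_le_centralizer.2 ?_)) bot_le
    haveI := isNilpotent_of_le hO.1 (isNilpotent_fittingHallOf M)
    haveI : IsCyclic O := isCyclic_of_primary fun s hs T => by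
      by_cases hT : s ∣ Nat.card O
      · obtain ⟨-, hsq⟩ := hO.2.1 s Fact.out hT
        haveI := hcyc s Fact.out (hT.trans (card_dvd_of_le hO.1)) hsq
        have hle : (T : Subgroup O).map O.subtype ≤ Cfsg.piCoreOf ({s} : Set ℕ) H :=
          nilpotent_le_piCoreOf (isNilpotent_fittingHallOf M) ((map_subtype_le _).trans hO.1)
            (isPiSubgroup_of_isPGroup (T.isPGroup'.map _) (Set.mem_singleton s))
        haveI := isCyclic_of_le hle
        exact isCyclic_of_surjective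
          ((T : Subgroup O).equivMapOfInjective O.subtype O.subtype_injective).symm.toMonoidHom
          (MulEquiv.surjective _)
      · haveI : Subsingleton T := (Nat.card_eq_one_iff_unique.1 (by
          obtain ⟨k, hk⟩ := IsPGroup.iff_card.1 T.isPGroup'
          rcases k with _ | k
          · simpa using hk
          · exact absurd ((hk ▸ dvd_pow_self s k.succ_ne_zero).trans (card_subgroup_dvd_card _)) hT)).1
        infer_instance
    exact O.le_centralizer
  have hKsP : Ks ≤ P := ((Cfsg.Agent.S1426.result hG M hM K hE).1.trans (by rw [← hH])).trans hH'P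
  have hKsq : Nat.card Ks = q := by
    have hKsp := prime_card_kappaStar_of_U_eq_bot F hG hM hKU hK hU
    exact (isPiSubgroup_mono hKsP (isPiSubgroup_piCoreOf _ _) _ hKsp dvd_rfl : _)
  -- the exponent of `M/H` divides `|K|`
  have hexpK : Monoid.exponent (↥M ⧸ Cfsg.fittingHall ↥M) ∣ Nat.card K :=
    (exponent_quotient_dvd _ hKM fun m => by
      obtain ⟨e, he, w, hw, h⟩ := hE.2.2.2 m m.2
      rw [← hH] at hw
      obtain ⟨w', hw', rfl⟩ := hw
      exact ⟨e, he, w', hw', h⟩).trans Group.exponent_dvd_nat_card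
  have hfpfL : ∀ L : Subgroup G, L ≤ H → L ⊓ Ks = ⊥ → ∀ k ∈ K, k ≠ 1 →
      L ⊓ centralizer ({k} : Set G) = ⊥ := fun L hLH hbot k hk hk1 => by
    rw [eq_bot_iff, ← hbot, ← hCk k hk hk1]
    exact le_inf inf_le_left (inf_le_inf_right _ (hLH.trans hH.le))
  have hother : ∀ r : ℕ, r.Prime → r ∣ Nat.card H → r ≠ q → Nat.card K ∣ r - 1 := by
    intro r hr hd hrq
    obtain ⟨L, h1, h2, h3, -⟩ := hlines r hr hd
    refine card_dvd_sub_one_of_fpf h1 (hKM.trans h3) (hfpfL L h2 (inf_eq_bot_of_coprime ?_))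
    rw [h1, hKsq]; exact (Nat.coprime_primes hr hq).2 hrq
  suffices hmain : Nat.card K ∣ q - 1 ∨ (Nat.card P = q ^ 3 ∧ Nat.card K ∣ q + 1) by
    rcases hmain with h | ⟨hcard, h⟩
    · refine Or.inl ⟨q, hq, hXq, hqσ, hqβ, hcna, hOc, fun r hr hd => hexpK.trans ?_⟩
      by_cases hrq : r = q
      · exact hrq ▸ h
      · exact hother r hr hd hrq
    · refine Or.inr ⟨q, hq, hXq, hqσ, hqβ, hOc, ?_, hcna, hK, hU, ?_⟩
      · rw [← card_map_of_injective (f := H.subtype) H.subtype_injective, pCore_map_eq]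
        exact hcard
      · have h1 : Nat.card H * H.relIndex M = Nat.card H * Nat.card K := by
          rw [card_mul_relIndex (fittingHallOf_le M), ← compl_card hE, ← hH, mul_comm]
        rw [Nat.eq_of_mul_eq_mul_left Nat.card_pos h1]
        exact h
  by_cases hZK : Z ⊓ Ks = ⊥
  · exact Or.inl (card_dvd_sub_one_of_fpf hZc (hKM.trans hZn) (hfpfL Z (hZP.trans hPH) hZK))
  have hZeq : Z = Ks := by
    obtain ⟨z, hz, hz1⟩ := (bot_or_exists_ne_one _).resolve_left hZK
    haveI h1 : Fact (Nat.card Z).Prime := ⟨hZc.symm ▸ hq⟩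
    refine eq_of_le_of_card_ge ?_ (by rw [hZc, hKsq])
    rcases (Z ⊓ Ks).subgroupOf Z |>.eq_bot_or_eq_top_of_prime_card with h | h
    · exact absurd (subgroupOf_eq_bot.1 h |>.eq_bot.symm.trans (inf_eq_left.2 inf_le_left)).symm hZK
    · exact (subgroupOf_eq_top.1 h).trans inf_le_right
  -- `K` acts faithfully on `P`
  have hPn : M ≤ normalizer (P : Set G) :=
    (le_normalizer_fittingHallOf M).trans (normalizer_le_normalizer_piCoreOf _ _)
  set φ : K →* MulAut P := (normalizerMonoidHom P).comp (inclusion (hKM.trans hPn)) with hφ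
  have hφapply : ∀ (k : K) (v : P), ((φ k v : P) : G) = (k : G) * v * (k : G)⁻¹ := fun k v => rfl
  have hφinj : Function.Injective φ := (injective_iff_map_eq_one φ).2 fun k hk => by
    by_contra hk1
    have hk1' : (k : G) ≠ 1 := fun h => hk1 (Subtype.ext h)
    have hle : P ≤ Ks := by
      rw [← hCk k k.2 hk1']
      refine le_inf (hPH.trans hH.le) fun v hv => mem_centralizer_singleton_iff.2 ?_
      have h1 := congrArg Subtype.val (DFunLike.congr_fun hk ⟨v, hv⟩)
      rw [hφapply] at h1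
      exact (mul_inv_eq_iff_eq_mul.1 h1).symm
    have h2 := le_antisymm hle hKsP
    refine hPna ?_
    haveI : Fact (Nat.card P).Prime := ⟨by rw [h2, hKsq]; exact hq⟩
    haveI : IsCyclic P := isCyclic_of_prime_card (rfl : Nat.card P = Nat.card P)
    infer_instance
  obtain ⟨k0, hk0⟩ := hKU.cyclic.exists_generator
  have hk0o : orderOf (φ k0) = Nat.card K := by
    rw [orderOf_injective φ hφinj, orderOf_eq_card_of_forall_mem_zpowers hk0]
  have hcopP : (Nat.card K).Coprime (Nat.card P) :=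
    hKcop.coprime_dvd_right (card_dvd_of_le (hPH.trans hH.le))
  have hcopq : (Nat.card K).Coprime q := hcopP.coprime_dvd_right (hZc ▸ card_dvd_of_le hZP)
  by_cases hr : Cfsg.PRankLE q 2 P
  · -- rank two
    set PG := (sigma_isSylowIn_top hqσ (piCoreOf_fittingHallOf_sylow hqH)).toSylowTop with hPG
    have hCP : P ⊓ centralizer (K : Set G) = Z := by
      rw [hZeq]
      exact le_antisymm (le_inf (inf_le_left.trans (hPH.trans hH.le)) inf_le_right)
        (le_inf hKsP inf_le_right)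
    have hZpow : ∀ w ∈ Z, w ^ q = 1 := fun w hw => by
      have h := orderOf_dvd_natCard (⟨w, hw⟩ : Z)
      rw [hZc, orderOf_dvd_iff_pow_eq_one] at h
      exact congrArg Subtype.val h
    obtain ⟨hcard, hexpP⟩ := card_eq_cube_of_rank_two hG PG hPna hr (hKM.trans hPn) hcopP hCP
      hZpow hZ
    change Nat.card P = q ^ 3 at hcard
    have hcen : ∀ v : P, v ∈ center P ↔ (v : G) ∈ Z := fun v => by
      refine ⟨fun h => hZ v v.2 (mem_centralizer_iff.2 fun w hw =>
        congrArg Subtype.val (mem_center_iff.1 h ⟨w, hw⟩)) (hexpP v v.2), fun h => ?_⟩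
      exact mem_center_iff.2 fun w => Subtype.ext (mem_centralizer_iff.1 (hZC h) w w.2)
    have hfix : ∀ z ∈ center P, φ k0 z = z := fun z hz => Subtype.ext (by
      rw [hφapply]
      have h := ((hZeq.le ((hcen z).1 hz)).2)
      rw [mem_centralizer_iff.1 h k0 k0.2, mul_inv_cancel_right])
    have hfpf : ∀ i : ℕ, ∀ v : P, v⁻¹ * (φ k0 ^ i) v ∈ center P →
        v ∈ center P ∨ φ k0 ^ i = 1 := by
      intro i v hv
      by_cases hki : k0 ^ i = 1
      · exact Or.inr (by rw [← map_pow, hki, map_one])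
      left
      rw [hcen] at hv ⊢
      have hki' : ((k0 ^ i : K) : G) ≠ 1 := fun h => hki (Subtype.ext h)
      set A := zpowers ((k0 ^ i : K) : G) with hA
      have hAK : A ≤ K := zpowers_le.2 (k0 ^ i).2
      have hAZ : A ≤ normalizer (Z : Set G) := (hAK.trans hKM).trans hZn
      obtain ⟨c, hc, hcZ⟩ := Coprime.exists_fixed_mem_coset hAZ
        ((hcopq.coprime_dvd_left (card_dvd_of_le hAK))|> fun h => by rwa [hZc])
        (Or.inl (Group.isSolvable_of_comm fun a b => by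
          letI : CommGroup A := IsCyclic.commGroup
          exact mul_comm a b)) (k := (v : G)) (fun a ha => by
          obtain ⟨j, rfl⟩ := mem_zpowers_iff.1 ha
          have hstab : ∀ w : G, (v : G)⁻¹ * w ∈ Z →
              (v : G)⁻¹ * (((k0 ^ i : K) : G) * w * ((k0 ^ i : K) : G)⁻¹) ∈ Z := by
            intro w hw
            have h1 := mul_mem hv ((mem_normalizer_iff.1 (hAZ (mem_zpowers _)) _).1 hw)
            rw [← map_pow, Subgroup.coe_mul, hφapply] at h1
            simpa [mul_assoc] using h1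
          have hnat : ∀ n : ℕ, (v : G)⁻¹ *
              (((k0 ^ i : K) : G) ^ n * v * (((k0 ^ i : K) : G) ^ n)⁻¹) ∈ Z := fun n => by
            induction n with
            | zero => simpa using one_mem Z
            | succ n ih =>
              have h1 := hstab _ ih
              rw [pow_succ' _ n, mul_inv_rev]
              simpa [mul_assoc] using h1
          obtain ⟨n, hn⟩ := (mem_powers_iff_mem_zpowers.2 ha :)
          rw [← hn]; exact hnat n)
      have hcP : c ∈ P := by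
        have h1 := mul_mem v.2 (hZP hcZ)
        simpa using h1
      have hcK : c ∈ Z := by
        rw [hZeq, ← hCk _ (k0 ^ i).2 hki']
        exact ⟨hH.le (hPH hcP), centralizer_le (Set.singleton_subset_iff.2 (mem_zpowers _)) hc⟩
      have h1 := mul_mem hcK (inv_mem hcZ)
      simpa using h1
    rcases orderOf_dvd_sub_one_or_add_one hcard (fun v => Subtype.ext (hexpP v v.2)) hPna (φ k0)
      hfix hfpf with h | h
    · exact Or.inl (hk0o ▸ h)
    · exact Or.inr ⟨hcard, hk0o ▸ h⟩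
  · -- rank at least three
    left
    rw [← hk0o]
    obtain ⟨S⟩ : Nonempty (Sylow q M) := Sylow.nonempty
    have hS : (S : Subgroup M).map M.subtype = P := sylow_eq_piCoreOf_fittingHallOf hqH S
    have hnar : Cfsg.IsNarrow q P := by
      have h := sylow_narrow_of_not_beta hG hM (hqH.trans (card_dvd_of_le (fittingHallOf_le M))) hqβ S
      exact BG5.isNarrow_of_mulEquiv (((S : Subgroup M).equivMapOfInjective M.subtype
        M.subtype_injective).trans (MulEquiv.subgroupCongr hS)) h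
    exact BG5.orderOf_dvd_sub_one (minSimple_prime_ne_two_subgroup hG hqH)
      (isPGroup_of_isPiSubgroup (isPiSubgroup_piCoreOf _ _)) hnar hr (hk0o.symm ▸ hcopq)

/-- `F(M)` is a TI-subset as soon as no conjugate off `M` meets it. -/
theorem isTISubset_fittingOf_of (h : ∀ g : G, g ∉ M →
      Cfsg.fittingOf M ⊓ (Cfsg.fittingOf M).map (MulAut.conj g).toMonoidHom ≠ ⊥ → False) :
    Cfsg.IsTISubset (Cfsg.fittingOf M : Set G) := by
  intro g hg x hx hgx
  by_contra hx1
  refine h g (fun hgM => hg (le_normalizer_fittingOf M hgM)) fun hbot => hx1 ?_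
  have hmem : g * x * g⁻¹ ∈ Cfsg.fittingOf M ⊓
      (Cfsg.fittingOf M).map (MulAut.conj g).toMonoidHom := ⟨hgx, ⟨x, hx, rfl⟩⟩
  rw [hbot, mem_bot] at hmem
  simpa using hmem

end CfsgLib.OddOrder.BG15
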