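import Cfsg.Agent.OddOrder.BG3.Prop310
import Cfsg.Agent.OddOrder.BG8.Bender
import Cfsg.Agent.OddOrder.BG7.Superset
import Cfsg.Agent.Coprime.Action
import Cfsg.Agent.Solvable.Nilpotent
import Cfsg.Agent.Solvable.Hall

/-!
# The abstract core of BG 15.2

`X = S ⋊ K`, `K` acts on `S` in prime manner with a fixed subgroup of prime order `q` lying in
`Q = O_q(S)`. Then `Q` is a Sylow subgroup of `S`, and above `C_Q(D)`, `D` a `K`-invariant complement of
`Q`, there is exactly one chief factor of `X`, of order `q ^ #K`, with `#K` prime.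
-/

set_option autoImplicit false
set_option linter.style.haveILetI false

namespace CfsgLib.OddOrder

open Cfsg Subgroup CfsgLib

variable {X : Type*} [Group X] [Finite X] {q : ℕ} [Fact q.Prime]

/-- If `K` acts in prime manner on the solvable group `S` with `C_S(K) ≤ Q`, where `Q` is the largest
normal `q`-subgroup in `S`, then `S/Q` is nilpotent and `Q` is a Sylow subgroup of `S`. -/
theorem nilpotent_quotient_of_prime_action {S K Q : Subgroup X} [S.Normal] [Q.Normal]
    (hS : Group.IsSolvable S) (hcop : (Nat.card K).Coprime (Nat.card S)) (hK1 : K ≠ ⊥)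
    (hpr : ∀ k ∈ K, k ≠ 1 → S ⊓ centralizer ({k} : Set X) = S ⊓ centralizer (K : Set X))
    (hQS : Q ≤ S) (hQ : IsPGroup q Q) (hKsQ : S ⊓ centralizer (K : Set X) ≤ Q)
    (hQmax : ∀ T : Subgroup X, T.Normal → T ≤ S → IsPGroup q T → T ≤ Q) :
    Group.IsNilpotent ↥(S.map (QuotientGroup.mk' Q)) ∧ ¬ q ∣ Q.relIndex S := by
  set f := QuotientGroup.mk' Q with hf
  obtain ⟨r, hr, hrK⟩ := Nat.exists_prime_and_dvd ((one_lt_card_iff_ne_bot K).2 hK1).ne'
  haveI := Fact.mk hr
  obtain ⟨k, hk⟩ := exists_prime_orderOf_dvd_card' r hrK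
  have hko : orderOf (k : X) = r := by rw [Subgroup.orderOf_coe, hk]
  have hk1 : (k : X) ≠ 1 := fun h => hr.ne_one (by rw [← hko, h, orderOf_one])
  set R := zpowers (k : X) with hR
  have hRK : R ≤ K := zpowers_le.2 k.2
  have hcopR : (Nat.card R).Coprime (Nat.card S) := hcop.coprime_dvd_left (card_dvd_of_le hRK)
  have hcopker : (Nat.card R).Coprime (Nat.card ↥(S ⊓ f.ker)) :=
    hcopR.coprime_dvd_right (card_dvd_of_le inf_le_left)
  have hmap := Coprime.map_inf_centralizer (A := R) (G := S) f le_normalizer_of_normal hcopker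
    (Or.inl inferInstance)
  have hcardR : Nat.card (R.map f) = r := by
    have h1 : Nat.card R = r := by rw [hR, Nat.card_zpowers, hko]
    rcases (Nat.dvd_prime hr).1 (h1 ▸ card_map_dvd R f) with h | h
    · exfalso
      have hle : R ≤ Q := by
        rw [← QuotientGroup.ker_mk' Q, ← Subgroup.map_eq_bot_iff, ← Subgroup.card_eq_one, ← hf, h]
      apply hk1
      rw [← zpowers_eq_bot, ← hR]
      exact (inf_eq_left.2 (hle.trans hQS)).symm.trans (inf_eq_bot_of_coprime hcopR)
    · exact h
  have hnil : Group.IsNilpotent ↥(S.map f) := by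
    refine isNilpotent_of_prime_fpf (R := R.map f) ?_ ?_ (hcardR ▸ hr) ?_
    · haveI := hS
      exact Group.isSolvable_of_surjective (f := f.subgroupMap S)
        (MonoidHom.subgroupMap_surjective f S)
    · haveI : (S.map f).Normal := Subgroup.Normal.map inferInstance f (QuotientGroup.mk'_surjective Q)
      exact le_normalizer_of_normal
    · rw [← hmap, Subgroup.map_eq_bot_iff, QuotientGroup.ker_mk', hR, inf_centralizer_zpowers,
        hpr _ k.2 hk1]
      exact hKsQ
  refine ⟨hnil, ?_⟩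
  obtain ⟨P⟩ : Nonempty (Sylow q S) := inferInstance
  set P' := (P : Subgroup S).map S.subtype with hP'
  have hP'p : IsPGroup q P' := P.isPGroup'.map _
  set Tb := Cfsg.piCoreOf ({q} : Set ℕ) (S.map f) with hTb
  have hTbq : IsPGroup q Tb := isPGroup_of_isPiSubgroup (isPiSubgroup_piCoreOf _ _)
  haveI hSn : (S.map f).Normal := Subgroup.Normal.map inferInstance f (QuotientGroup.mk'_surjective Q)
  haveI hTbn : Tb.Normal := normalizer_eq_top_iff.1 <| top_le_iff.1 <|
    (normalizer_eq_top_iff.2 hSn).ge.trans (normalizer_le_normalizer_piCoreOf _ _)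
  have hPT : P'.map f ≤ Tb := nilpotent_le_piCoreOf hnil (map_mono (map_subtype_le _))
    (isPiSubgroup_of_isPGroup (hP'p.map f) (Set.mem_singleton q))
  have hTQ : Tb.comap f ⊓ S ≤ Q := by
    refine hQmax _ inferInstance inf_le_right (IsPGroup.to_le ?_ inf_le_left)
    refine IsPGroup.iff_card.2 ?_
    obtain ⟨a, ha⟩ := IsPGroup.iff_card.1 hTbq
    obtain ⟨b, hb⟩ := IsPGroup.iff_card.1 hQ
    exact ⟨a + b, by rw [hf, Solvable.card_comap_mk', ha, hb, pow_add]⟩
  have hPQ : P' ≤ Q := (le_inf (map_le_iff_le_comap.1 hPT) (map_subtype_le _)).trans hTQ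
  intro hd
  apply P.not_dvd_index
  have h := Subgroup.relIndex_dvd_of_le_left S hPQ
  have h' : P'.relIndex S = (P : Subgroup S).index := by
    rw [hP', Subgroup.relIndex, Subgroup.subgroupOf,
      Subgroup.comap_map_eq_self_of_injective S.subtype_injective]
  exact h' ▸ hd.trans h

/-- The core of BG 15.2. -/
theorem prime_action_chief_factor [Group.IsSolvable X] {S K Q D : Subgroup X} [S.Normal] [Q.Normal]
    (hgen : ∀ x : X, ∃ s ∈ S, ∃ k ∈ K, x = s * k)
    (hcop : (Nat.card K).Coprime (Nat.card S)) (hK1 : K ≠ ⊥)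
    (hpr : ∀ k ∈ K, k ≠ 1 → S ⊓ centralizer ({k} : Set X) = S ⊓ centralizer (K : Set X))
    (hq : Nat.card ↥(S ⊓ centralizer (K : Set X)) = q)
    (hQS : Q ≤ S) (hQ : IsPGroup q Q) (hKsQ : S ⊓ centralizer (K : Set X) ≤ Q)
    (hD : Cfsg.IsComplIn Q D S) (hDq : (Nat.card D).Coprime q) (hDnil : Group.IsNilpotent D)
    (hKD : K ≤ normalizer (D : Set X)) (hnc : ¬ D ≤ centralizer (Q : Set X)) :
    (Nat.card K).Prime ∧ (Q ⊓ centralizer (D : Set X)).Normal ∧
      Q ⊓ centralizer (D : Set X) < Q ∧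
      Nat.card Q = Nat.card ↥(Q ⊓ centralizer (D : Set X)) * q ^ Nat.card K ∧
      (∀ a ∈ Q, ∀ b ∈ Q, a ^ q ∈ Q ⊓ centralizer (D : Set X) ∧
        a * b * a⁻¹ * b⁻¹ ∈ Q ⊓ centralizer (D : Set X)) ∧
      (∀ N : Subgroup X, N.Normal → Q ⊓ centralizer (D : Set X) < N → N < Q → False) ∧
      ⁅D, D⁆ ≤ centralizer (Q : Set X) := by
  classical
  have hqp : q.Prime := Fact.out
  obtain ⟨-, hDS, hQD, hQDS⟩ := hD
  set Ks := S ⊓ centralizer (K : Set X) with hKs
  set Q₀ := Q ⊓ centralizer (D : Set X) with hQ₀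
  have hcopQ : (Nat.card K).Coprime (Nat.card Q) := hcop.coprime_dvd_right (card_dvd_of_le hQS)
  have hcopDQ : (Nat.card D).Coprime (Nat.card Q) := by
    obtain ⟨n, hn⟩ := IsPGroup.iff_card.1 hQ
    exact hn ▸ hDq.pow_right n
  have hKs1 : Ks ≠ ⊥ := fun h => hqp.ne_one (by rw [← hq, h, Subgroup.card_bot])
  have hfpf : ∀ k ∈ K, k ≠ 1 → D ⊓ centralizer ({k} : Set X) = ⊥ := by
    intro k hk hk1
    rw [eq_bot_iff, ← hQD]
    refine le_inf ?_ inf_le_left
    exact (inf_le_inf_right _ hDS).trans ((hpr k hk hk1).le.trans hKsQ)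
  -- the subgroup `B`
  obtain ⟨B, ⟨hBn, hBQ, hBC⟩, hBmax⟩ := Set.Finite.exists_maximal
    (s := {B : Subgroup X | B.Normal ∧ B ≤ Q ∧ B ⊓ centralizer (K : Set X) = ⊥}) (Set.toFinite _)
    ⟨⊥, inferInstance, bot_le, bot_inf_eq _⟩
  haveI := hBn
  have hBKs : ∀ N : Subgroup X, N.Normal → B ≤ N → N ≤ Q → N = B ∨ Ks ≤ N := by
    intro N hN hBN hNQ
    by_cases h : N ⊓ centralizer (K : Set X) = ⊥
    · exact Or.inl (le_antisymm (hBmax ⟨hN, hNQ, h⟩ hBN) hBN)
    · refine Or.inr ?_
      have hle : N ⊓ centralizer (K : Set X) ≤ Ks := inf_le_inf_right _ (hNQ.trans hQS)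
      rcases (Nat.dvd_prime hqp).1 (hq ▸ card_dvd_of_le hle) with h' | h'
      · exact absurd (Subgroup.card_eq_one.1 h') h
      · exact (Subgroup.eq_of_le_of_card_ge hle (by rw [h', hq])).ge.trans inf_le_left
  -- the subgroup `A`
  set A := sInf {N : Subgroup X | N.Normal ∧ B ≤ N ∧ Ks ≤ N} with hA
  haveI hAn : A.Normal := by
    rw [hA]
    exact Subgroup.normal_iInf_normal (a := fun N : {N : Subgroup X | N.Normal ∧ B ≤ N ∧ Ks ≤ N} => N.1)
      (fun N => N.2.1) |> fun h => by rwa [sInf_eq_iInf']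
  have hBA : B ≤ A := le_sInf fun N hN => hN.2.1
  have hKsA : Ks ≤ A := le_sInf fun N hN => hN.2.2
  have hAQ : A ≤ Q := sInf_le ⟨inferInstance, hBQ, hKsQ⟩
  have hchief : ∀ N : Subgroup X, N.Normal → B ≤ N → N ≤ A → N = B ∨ N = A := by
    intro N hN hBN hNA
    rcases hBKs N hN hBN (hNA.trans hAQ) with h | h
    · exact Or.inl h
    · exact Or.inr (le_antisymm hNA (sInf_le ⟨hN, hBN, h⟩))
  have hBneA : B ≠ A := by
    intro h
    apply hKs1
    rw [← le_bot_iff, ← hBC]
    exact le_inf (h ▸ hKsA) inf_le_right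
  -- `D` centralizes `B` and `Q/A`
  have hDB : D ≤ centralizer (B : Set X) :=
    le_centralizer_pGroup_of_frobenius_action (hQ.to_le hBQ) hKD le_normalizer_of_normal
      le_normalizer_of_normal hfpf hDq (hcopQ.coprime_dvd_right (card_dvd_of_le hBQ)) hBC
  have hQA : ⁅Q, D⁆ ≤ A := by
    set f := QuotientGroup.mk' A with hf
    rw [← QuotientGroup.ker_mk' A, ← hf, ← Subgroup.map_eq_bot_iff, map_commutator, commutator_comm,
      commutator_eq_bot_iff_le_centralizer]
    refine le_centralizer_pGroup_of_frobenius_action (R := K.map f) (hQ.map f) ?_ ?_ ?_ ?_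
      (hDq.coprime_dvd_left (card_map_dvd D f)) ?_ ?_
    · exact (map_mono hKD).trans (le_normalizer_map f)
    · haveI : (Q.map f).Normal :=
        Subgroup.Normal.map inferInstance f (QuotientGroup.mk'_surjective A)
      exact le_normalizer_of_normal
    · haveI : (Q.map f).Normal :=
        Subgroup.Normal.map inferInstance f (QuotientGroup.mk'_surjective A)
      exact le_normalizer_of_normal
    · rintro _ ⟨k, hk, rfl⟩ hk1
      have hk1' : k ≠ 1 := fun h => hk1 (by rw [h, map_one])
      have hkD : zpowers k ≤ normalizer (D : Set X) := zpowers_le.2 (hKD hk)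
      have hker : D ⊓ f.ker = ⊥ := by
        rw [eq_bot_iff, ← hQD, QuotientGroup.ker_mk']
        exact le_inf (inf_le_right.trans hAQ) inf_le_left
      have h := Coprime.map_inf_centralizer (A := zpowers k) (G := D) f hkD
        (by rw [hker, Subgroup.card_bot]; exact Nat.coprime_one_right _) (Or.inl inferInstance)
      rw [inf_centralizer_zpowers, hfpf k hk hk1', Subgroup.map_bot, MonoidHom.map_zpowers,
        inf_centralizer_zpowers] at h
      exact h.symm
    · exact (hcopQ.coprime_dvd_left (card_map_dvd K f)).coprime_dvd_right (card_map_dvd Q f)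
    · rw [← Coprime.map_inf_centralizer (A := K) (G := Q) f le_normalizer_of_normal
        (hcopQ.coprime_dvd_right (card_dvd_of_le inf_le_left)) (Or.inr inferInstance),
        Subgroup.map_eq_bot_iff, QuotientGroup.ker_mk']
      exact (inf_le_inf_right _ hQS).trans hKsA
  have hQsup : A ⊔ Q₀ = Q := by
    refine le_antisymm (sup_le hAQ inf_le_left) ?_
    conv_lhs => rw [← Coprime.commutator_sup_centralizer (A := D) (G := Q) le_normalizer_of_normal
      hcopDQ (Or.inr inferInstance)]
    exact sup_le_sup_right hQA _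
  have hBQ₀ : B ≤ Q₀ := le_inf hBQ (le_centralizer_iff.1 hDB)
  -- the quotient `X / B`
  set g := QuotientGroup.mk' B with hg
  set V := A.map g with hV
  haveI hVn : V.Normal := Subgroup.Normal.map inferInstance g (QuotientGroup.mk'_surjective B)
  haveI hQbn : (Q.map g).Normal := Subgroup.Normal.map inferInstance g (QuotientGroup.mk'_surjective B)
  have hQb : IsPGroup q (Q.map g) := hQ.map g
  have hVne : V ≠ ⊥ := by
    rw [hV, Ne, Subgroup.map_eq_bot_iff, QuotientGroup.ker_mk']
    exact fun h => hBneA (le_antisymm hBA h)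
  have hVmin : ∀ N : Subgroup (X ⧸ B), N.Normal → N ≤ V → N = ⊥ ∨ N = V := by
    intro N hN hNV
    have hB : B ≤ N.comap g := by
      exact (QuotientGroup.ker_mk' B).ge.trans (MonoidHom.ker_le_comap g N)
    have hle : N.comap g ≤ A := by
      refine (comap_mono hNV).trans (le_of_eq ?_)
      rw [hV, Subgroup.comap_map_eq_self]
      rw [QuotientGroup.ker_mk']; exact hBA
    have hback : N = (N.comap g).map g :=
      (map_comap_eq_self_of_surjective (QuotientGroup.mk'_surjective B) N).symm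
    rcases hchief _ (hN.comap g) hB hle with h | h
    · refine Or.inl ?_
      rw [hback, h, Subgroup.map_eq_bot_iff, QuotientGroup.ker_mk']
    · refine Or.inr ?_
      rw [hback, h]
  have hVQ : V ≤ Q.map g := map_mono hAQ
  have hVZ : V ≤ centralizer ((Q.map g : Subgroup (X ⧸ B)) : Set (X ⧸ B)) := by
    haveI : Group.IsNilpotent (Q.map g) := hQb.isNilpotent
    rcases hVmin (V ⊓ centralizer ((Q.map g : Subgroup (X ⧸ B)) : Set (X ⧸ B))) inferInstance
      inf_le_left with h | h
    · exfalso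
      haveI : (V.subgroupOf (Q.map g)).Normal := inferInstance
      refine Solvable.inf_center_ne_bot (G := Q.map g) (N := V.subgroupOf (Q.map g)) ?_ ?_
      · rw [Ne, subgroupOf_eq_bot, disjoint_iff, inf_eq_left.2 hVQ]; exact hVne
      · rw [eq_bot_iff]
        intro x hx
        have hx' : (x : X ⧸ B) ∈ V ⊓ centralizer ((Q.map g : Subgroup (X ⧸ B)) : Set (X ⧸ B)) :=
          ⟨hx.1, mem_centralizer_iff.2 fun y hy =>
            congrArg Subtype.val (mem_center_iff.1 hx.2 ⟨y, hy⟩)⟩
        rw [h, mem_bot] at hx'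
        exact mem_bot.2 (Subtype.ext hx')
    · exact inf_eq_left.1 h
  have hVcomm : IsMulCommutative V := ⟨⟨fun a b =>
    Subtype.ext (mem_centralizer_iff.1 (hVZ b.2) a (hVQ a.2))⟩⟩
  haveI : Group.IsSolvable V := (hQb.to_le hVQ).isNilpotent |> fun h => by haveI := h; infer_instance
  have hVq : ∀ v ∈ V, v ^ q = 1 := by
    obtain ⟨p, hp, hpow⟩ := Solvable.exists_prime_pow_eq_one_of_minimal_normal hVne hVmin
    obtain ⟨v, hv, hv1⟩ := (bot_or_exists_ne_one V).resolve_left hVne
    obtain ⟨n, hn⟩ := (hQb.to_le hVQ) ⟨v, hv⟩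
    have ho1 : orderOf v ∣ p := orderOf_dvd_of_pow_eq_one (hpow v hv)
    have ho2 : orderOf v ∣ q ^ n := orderOf_dvd_of_pow_eq_one (congrArg Subtype.val hn)
    have hop : orderOf v = p := ((Nat.dvd_prime hp).1 ho1).resolve_left fun h =>
      hv1 (orderOf_eq_one_iff.1 h)
    have : p = q := (Nat.prime_dvd_prime_iff_eq hp hqp).1 (hp.dvd_of_dvd_pow (hop ▸ ho2))
    exact this ▸ hpow
  -- `X` is generated by `Q`, `D` and `K`
  have hX : ∀ L : Subgroup X, Q ≤ L → D ≤ L → K ≤ L → L = ⊤ := by
    intro L h1 h2 h3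
    refine eq_top_iff.2 fun x _ => ?_
    obtain ⟨s, hs, k, hk, rfl⟩ := hgen x
    obtain ⟨a, ha, d, hd, rfl⟩ := hQDS s hs
    exact mul_mem (mul_mem (h1 ha) (h2 hd)) (h3 hk)
  -- `C_V(D) = 1`
  have hDV : V ⊓ centralizer ((D.map g : Subgroup (X ⧸ B)) : Set (X ⧸ B)) = ⊥ := by
    set W := V ⊓ centralizer ((D.map g : Subgroup (X ⧸ B)) : Set (X ⧸ B)) with hW
    haveI hWn : W.Normal := by
      refine normalizer_eq_top_iff.1 ?_
      have htop : (normalizer (W : Set (X ⧸ B))).comap g = ⊤ := by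
        refine hX _ ?_ ?_ ?_
        · rw [← map_le_iff_le_comap]
          exact (le_centralizer_iff.1 ((inf_le_left.trans hVZ : W ≤ _))).trans
            (centralizer_le_normalizer _)
        · rw [← map_le_iff_le_comap]
          exact (le_centralizer_iff.1 (inf_le_right : W ≤ _)).trans (centralizer_le_normalizer _)
        · rw [← map_le_iff_le_comap]
          intro x hx
          obtain ⟨k, hk, rfl⟩ := hx
          refine inf_normalizer_le_normalizer_inf (mem_inf.2 ⟨?_, ?_⟩)
          · rw [normalizer_eq_top_iff.2 hVn]; trivial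
          · exact normalizer_le_normalizer_centralizer_subgroup _
              (le_normalizer_map g (mem_map_of_mem g (hKD hk)))
      rw [← map_comap_eq_self_of_surjective (QuotientGroup.mk'_surjective B)
        (normalizer (W : Set (X ⧸ B))), ← hg, htop, map_top_of_surjective g (QuotientGroup.mk'_surjective B)]
    rcases hVmin W hWn inf_le_left with h | h
    · exact h
    · exfalso
      have h1 : ⁅A, D⁆ ≤ B := by
        rw [← QuotientGroup.ker_mk' B, ← hg, ← Subgroup.map_eq_bot_iff, map_commutator,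
          commutator_eq_bot_iff_le_centralizer]
        exact (inf_eq_left.1 h : V ≤ _)
      have h2 : D ≤ centralizer (A : Set X) := by
        refine Coprime.le_centralizer_of_commutator_commutator_eq_bot le_normalizer_of_normal
          (hcopDQ.coprime_dvd_right (card_dvd_of_le hAQ)) ?_
        refine le_bot_iff.1 ((commutator_mono h1 le_rfl).trans ?_)
        rw [le_bot_iff, commutator_comm, commutator_eq_bot_iff_le_centralizer]
        exact hDB
      apply hnc
      refine Coprime.le_centralizer_of_commutator_commutator_eq_bot le_normalizer_of_normal hcopDQ ?_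
      refine le_bot_iff.1 ((commutator_mono hQA le_rfl).trans ?_)
      rw [le_bot_iff, commutator_comm, commutator_eq_bot_iff_le_centralizer]
      exact h2
  have hQ₀A : Q₀ ⊓ A = B := by
    refine le_antisymm ?_ (le_inf hBQ₀ hBA)
    rw [← QuotientGroup.ker_mk' B, ← hg, ← Subgroup.map_eq_bot_iff, eq_bot_iff, ← hDV]
    rintro _ ⟨x, ⟨hx1, hx2⟩, rfl⟩
    refine ⟨mem_map_of_mem g hx2, mem_centralizer_iff.2 ?_⟩
    rintro _ ⟨d, hd, rfl⟩
    rw [← map_mul, ← map_mul, mem_centralizer_iff.1 hx1.2 d hd]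
  have hAQB : ⁅A, Q⁆ ≤ B := by
    rw [← QuotientGroup.ker_mk' B, ← hg, ← Subgroup.map_eq_bot_iff, map_commutator,
      commutator_eq_bot_iff_le_centralizer]
    exact hVZ
  haveI hQ₀n : Q₀.Normal := by
    refine normalizer_eq_top_iff.1 (hX _ ?_ ?_ ?_)
    · rw [← hQsup]
      refine sup_le ?_ le_normalizer
      rw [le_normalizer_iff_commutator_le_left]
      calc ⁅Q₀, A⁆ ≤ ⁅Q, A⁆ := commutator_mono inf_le_left le_rfl
        _ ≤ B := by rw [commutator_comm]; exact hAQB
        _ ≤ Q₀ := hBQ₀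
    · exact (le_centralizer_iff.1 (inf_le_right : Q₀ ≤ _)).trans (centralizer_le_normalizer _)
    · intro k hk
      refine inf_normalizer_le_normalizer_inf (mem_inf.2 ⟨?_, normalizer_le_normalizer_centralizer_subgroup _ (hKD hk)⟩)
      rw [normalizer_eq_top_iff.2 (inferInstance : Q.Normal)]; trivial
  -- the Frobenius group acting on `V`
  have hkerB : ∀ L : Subgroup X, (Nat.card L).Coprime (Nat.card Q) → L ⊓ g.ker = ⊥ := by
    intro L hL
    rw [QuotientGroup.ker_mk']
    exact inf_eq_bot_of_coprime (hL.coprime_dvd_right (card_dvd_of_le hBQ))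
  have hcardK : Nat.card (K.map g) = Nat.card K := by
    rw [← Subgroup.relIndex_ker K g, ← Subgroup.inf_relIndex_right, inf_comm, hkerB K hcopQ,
      Subgroup.relIndex_bot_left]
  have hfix : ∀ L : Subgroup X, L ≤ K → A ⊓ centralizer (L : Set X) = Ks →
      V ⊓ centralizer ((L.map g : Subgroup (X ⧸ B)) : Set (X ⧸ B)) = Ks.map g := by
    intro L hL h
    rw [hV, ← Coprime.map_inf_centralizer (A := L) (G := A) g le_normalizer_of_normal
      ((hcopQ.coprime_dvd_left (card_dvd_of_le hL)).coprime_dvd_right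
        (card_dvd_of_le (inf_le_left.trans hAQ))) (Or.inr inferInstance), h]
  have hAKs : ∀ k ∈ K, k ≠ 1 → A ⊓ centralizer ({k} : Set X) = Ks := fun k hk hk1 =>
    le_antisymm ((inf_le_inf_right _ (hAQ.trans hQS)).trans (hpr k hk hk1).le)
      (le_inf hKsA ((hpr k hk hk1).ge.trans inf_le_right))
  have hfixK : V ⊓ centralizer ((K.map g : Subgroup (X ⧸ B)) : Set (X ⧸ B)) = Ks.map g :=
    hfix K le_rfl (le_antisymm (inf_le_inf_right _ (hAQ.trans hQS)) (le_inf hKsA inf_le_right))
  have hcardKs : Nat.card (Ks.map g) = q := by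
    have hb : Ks ⊓ g.ker = ⊥ := by
      rw [QuotientGroup.ker_mk', eq_bot_iff, ← hBC]
      exact le_inf inf_le_right (inf_le_left.trans inf_le_right)
    rw [← hq, ← Subgroup.relIndex_ker Ks g, ← Subgroup.inf_relIndex_right, inf_comm, hb,
      Subgroup.relIndex_bot_left]
  have hKbD : K.map g ≤ normalizer ((D.map g : Subgroup (X ⧸ B)) : Set (X ⧸ B)) :=
    (map_mono hKD).trans (le_normalizer_map g)
  have hfpfb : ∀ x ∈ K.map g, x ≠ 1 → D.map g ⊓ centralizer ({x} : Set (X ⧸ B)) = ⊥ := by
    rintro _ ⟨k, hk, rfl⟩ hk1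
    have hk1' : k ≠ 1 := fun h => hk1 (by rw [h, map_one])
    have h := Coprime.map_inf_centralizer (A := zpowers k) (G := D) g (zpowers_le.2 (hKD hk))
      (by rw [hkerB D hcopDQ, Subgroup.card_bot]; exact Nat.coprime_one_right _) (Or.inl inferInstance)
    rw [inf_centralizer_zpowers, hfpf k hk hk1', Subgroup.map_bot, MonoidHom.map_zpowers,
      inf_centralizer_zpowers] at h
    exact h.symm
  have hKne : K.map g ≠ ⊥ := fun h => hK1 (Subgroup.card_eq_one.1 (by
    rw [← hcardK, h, Subgroup.card_bot]))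
  have hcopV : (Nat.card ↥(D.map g ⊔ K.map g)).Coprime (Nat.card V) := by
    have hπ : ∀ L : Subgroup X, (Nat.card L).Coprime (Nat.card Q) →
        IsPiSubgroup ({r | ¬ r ∣ Nat.card V} : Set ℕ) (L.map g) := fun L hL r hr hd hdV =>
      hr.not_dvd_one ((hL.coprime_dvd_left (card_map_dvd L g)).coprime_dvd_right
        ((card_dvd_of_le hVQ).trans (card_map_dvd Q g)) ▸ Nat.dvd_gcd hd hdV)
    have h := isPiSubgroup_sup hKbD (hπ K hcopQ) (hπ D hcopDQ)
    rw [sup_comm]
    exact Nat.coprime_of_dvd fun r hr h1 h2 => h r hr h1 h2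
  have hdisj : D.map g ⊓ K.map g = ⊥ := inf_eq_bot_of_coprime
    (((hcop.coprime_dvd_right (card_dvd_of_le hDS)).symm.coprime_dvd_left (card_map_dvd D g)).coprime_dvd_right
      (card_map_dvd K g))
  obtain ⟨hKp, hcardV⟩ := prime_card_of_frobenius_action hKne hdisj hKbD hfpfb hVne
    (hQb.to_le hVQ).isNilpotent le_normalizer_of_normal le_normalizer_of_normal hcopV hDV
    (fun x hx hx1 => by
      obtain ⟨k, hk, rfl⟩ := hx
      rw [hfixK, ← inf_centralizer_zpowers, ← MonoidHom.map_zpowers]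
      exact hfix _ (zpowers_le.2 hk)
        (by rw [inf_centralizer_zpowers]; exact hAKs k hk fun h => hx1 (by rw [h, map_one])))
  rw [hfixK, hcardKs, hcardK] at hcardV
  rw [hcardK] at hKp
  have hBrel : B.relIndex A = q ^ Nat.card K := by
    rw [← hcardV, hV, ← Subgroup.relIndex_ker A g, QuotientGroup.ker_mk']
  refine ⟨hKp, hQ₀n, ?_, ?_, ?_, ?_, ?_⟩
  · refine lt_of_le_of_ne inf_le_left fun h => hnc ?_
    exact le_centralizer_iff.1 (h.ge.trans inf_le_right)
  · have h1 : Q₀.relIndex A = q ^ Nat.card K := by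
      rw [← hBrel, ← hQ₀A, Subgroup.inf_relIndex_right]
    have h2 := Subgroup.relIndex_mul_relIndex (⊥ : Subgroup X) Q₀ (A ⊔ Q₀) bot_le le_sup_right
    rw [Subgroup.relIndex_bot_left, Subgroup.relIndex_bot_left, Subgroup.relIndex_sup_right,
      h1, hQsup] at h2
    exact h2.symm
  · intro a ha b hb
    set π := QuotientGroup.mk' Q₀ with hπ
    have himg : ∀ x ∈ Q, ∃ α ∈ A, π x = π α := by
      intro x hx
      rw [← hQsup] at hx
      obtain ⟨α, hα, c, hc, rfl⟩ := Subgroup.mem_sup_of_normal_right.1 hx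
      exact ⟨α, hα, by
        rw [map_mul, show π c = 1 from (QuotientGroup.eq_one_iff c).2 hc, mul_one]⟩
    obtain ⟨α, hα, hπα⟩ := himg a ha
    obtain ⟨β, hβ, hπβ⟩ := himg b hb
    have hpow : α ^ q ∈ B := by
      rw [← QuotientGroup.eq_one_iff (N := B), ← QuotientGroup.mk'_apply, map_pow]
      exact hVq _ (mem_map_of_mem g hα)
    constructor
    · rw [← QuotientGroup.eq_one_iff (N := Q₀), ← QuotientGroup.mk'_apply, ← hπ, map_pow, hπα,
        ← map_pow]
      exact (QuotientGroup.eq_one_iff _).2 (hBQ₀ hpow)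
    · rw [← QuotientGroup.eq_one_iff (N := Q₀), ← QuotientGroup.mk'_apply, ← hπ]
      simp only [map_mul, map_inv, hπα, hπβ]
      rw [← map_inv, ← map_inv, ← map_mul, ← map_mul, ← map_mul]
      refine (QuotientGroup.eq_one_iff _).2 (hBQ₀ (hAQB ?_))
      rw [← commutatorElement_def]
      exact commutator_mem_commutator hα (hAQ hβ)
  · intro N hN h1 h2
    haveI := hN
    have hmod : N = Q₀ ⊔ (N ⊓ A) := by
      refine le_antisymm ?_ (sup_le h1.le inf_le_left)
      intro n hn
      have hnQ : n ∈ A ⊔ Q₀ := hQsup.symm ▸ h2.le hn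
      obtain ⟨α, hα, c, hc, rfl⟩ := Subgroup.mem_sup_of_normal_right.1 hnQ
      have hαN : α ∈ N := by simpa using mul_mem hn (inv_mem (h1.le hc))
      exact mul_mem (mem_sup_right ⟨hαN, hα⟩) (mem_sup_left hc)
    rcases hchief (N ⊓ A) inferInstance (le_inf (hBQ₀.trans h1.le) hBA) inf_le_right with h | h
    · exact h1.ne (hmod.trans (by rw [h]; exact sup_eq_left.2 hBQ₀)).symm
    · refine h2.not_ge ?_
      rw [← hQsup, hmod, h]
      exact sup_le le_sup_right le_sup_left
  · have hDb : Group.IsNilpotent (D.map g) := by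
      haveI := hDnil
      exact Group.nilpotent_of_surjective (g.subgroupMap D) (MonoidHom.subgroupMap_surjective g D)
    have h1 : ⁅D.map g, D.map g⁆ ≤ centralizer (V : Set (X ⧸ B)) := by
      haveI := hDb
      refine commutator_le_centralizer_nilpotent_of_isCyclic_fixed (hQb.to_le hVQ).isNilpotent
        inferInstance hKbD le_normalizer_of_normal le_normalizer_of_normal (hcardK ▸ hKp)
        (hcopV.coprime_dvd_left (card_dvd_of_le le_sup_left))
        (hcopV.coprime_dvd_left (card_dvd_of_le le_sup_right)) ?_ ?_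
      · obtain ⟨x, hx, hx1⟩ := (bot_or_exists_ne_one (K.map g)).resolve_left hKne
        rw [eq_bot_iff, ← hfpfb x hx hx1]
        exact inf_le_inf_left _ (centralizer_le (by simpa using hx))
      · rw [hfixK]
        exact isCyclic_of_prime_card hcardKs
    have h2 : ⁅A, ⁅D, D⁆⁆ ≤ B := by
      rw [← QuotientGroup.ker_mk' B, ← hg, ← Subgroup.map_eq_bot_iff, map_commutator, map_commutator,
        commutator_comm, commutator_eq_bot_iff_le_centralizer]
      exact h1
    have hD'D : ⁅D, D⁆ ≤ D := D.commutator_le_self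
    have h3 : ⁅D, D⁆ ≤ centralizer (A : Set X) := by
      refine Coprime.le_centralizer_of_commutator_commutator_eq_bot le_normalizer_of_normal
        ((hcopDQ.coprime_dvd_left (card_dvd_of_le hD'D)).coprime_dvd_right (card_dvd_of_le hAQ)) ?_
      refine le_bot_iff.1 ((commutator_mono h2 le_rfl).trans ?_)
      rw [le_bot_iff, commutator_comm, commutator_eq_bot_iff_le_centralizer]
      exact hD'D.trans hDB
    rw [← hQsup, le_centralizer_iff]
    exact sup_le (le_centralizer_iff.1 h3)
      ((le_centralizer_iff.1 ((hD'D.trans (le_centralizer_iff.1 (inf_le_right : Q₀ ≤ _))))))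

end CfsgLib.OddOrder
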