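import Cfsg.Agent.OddOrder.BG15.TypeP
import Cfsg.Agent.OddOrder.BG15.ChiefFactor
import Cfsg.Agent.OddOrder.BG3.Prop38
import Cfsg.Agent.S3745
import Cfsg.Agent.S1414
import Cfsg.Agent.S1426

/-!
# BG 15.2: the structure of `M` when `M_F ≠ M_σ`
-/

set_option autoImplicit false
set_option linter.style.haveILetI false

namespace CfsgLib.OddOrder

open Cfsg Subgroup
open scoped commutatorElement

variable {G : Type*} [Group G] [Finite G]

omit [Finite G] in
theorem subgroupOf_inf_centralizer {M A B : Subgroup G} (hAM : A ≤ M) (hBM : B ≤ M) :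
    A.subgroupOf M ⊓ centralizer ((B.subgroupOf M : Subgroup M) : Set M) =
      (A ⊓ centralizer (B : Set G)).subgroupOf M := by
  ext x
  simp only [mem_inf, mem_subgroupOf, mem_centralizer_iff, SetLike.mem_coe]
  exact ⟨fun h => ⟨h.1, fun b hb => congrArg Subtype.val (h.2 ⟨b, hBM hb⟩ hb)⟩,
    fun h => ⟨h.1, fun b hb => Subtype.ext (h.2 b hb)⟩⟩

omit [Finite G] in
theorem subgroupOf_inf_centralizer_singleton {M A : Subgroup G} (x : M) :
    A.subgroupOf M ⊓ centralizer ({x} : Set M) =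
      (A ⊓ centralizer ({(x : G)} : Set G)).subgroupOf M := by
  ext y
  simp only [mem_inf, mem_subgroupOf, mem_centralizer_iff, Set.mem_singleton_iff, forall_eq]
  exact ⟨fun h => ⟨h.1, congrArg Subtype.val h.2⟩, fun h => ⟨h.1, Subtype.ext h.2⟩⟩

omit [Finite G] in
theorem card_subgroupOf {M A : Subgroup G} (hAM : A ≤ M) :
    Nat.card (A.subgroupOf M) = Nat.card A :=
  Nat.card_congr (subgroupOfEquivOfLe hAM).toEquiv

/-- BG 15.2. When `M_σ` is not nilpotent: `U = 1`, `M_σ = M'`, `#K` and `q := #K*` are prime, and `M_σ`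
has a normal Sylow `q`-subgroup `Q` with a nilpotent, `K`-invariant complement `D₀`, such that
`Q/C_Q(D₀)` is a chief factor of order `q ^ #K`. -/
theorem sigmaCore_structure (F : BG15.BG14Facts G) (hG : Cfsg.IsMinSimpleOddOrder G) {M K U : Subgroup G}
    (hM : IsCoatom M) (h : Cfsg.IsSigmaDecomposition M K U)
    (hnil : ¬ Group.IsNilpotent (Cfsg.sigmaCore M)) :
    U = ⊥ ∧ K ≠ ⊥ ∧ Cfsg.sigmaCore M = ⁅M, M⁆ ∧ (Nat.card K).Prime ∧
      (Nat.card ↥(Cfsg.sigmaCore M ⊓ centralizer (K : Set G))).Prime ∧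
      Nat.card ↥(Cfsg.sigmaCore M ⊓ centralizer (K : Set G)) ∈ Cfsg.beta M ∧
      ∃ Q D₀ : Subgroup G, Q ≤ Cfsg.fittingHallOf M ∧ M ≤ normalizer (Q : Set G) ∧
        Q ≤ Cfsg.sigmaCore M ∧
        Cfsg.sigmaCore M ⊓ centralizer (K : Set G) ≤ Q ∧
        IsPGroup (Nat.card ↥(Cfsg.sigmaCore M ⊓ centralizer (K : Set G))) Q ∧
        ¬ Nat.card ↥(Cfsg.sigmaCore M ⊓ centralizer (K : Set G)) ∣ Q.relIndex (Cfsg.sigmaCore M) ∧
        Cfsg.IsComplIn Q D₀ (Cfsg.sigmaCore M) ∧ Group.IsNilpotent D₀ ∧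
        (Nat.card Q).Coprime (Nat.card D₀) ∧
        K ≤ normalizer (D₀ : Set G) ∧ ⁅D₀, D₀⁆ ≤ centralizer (Q : Set G) ∧
        (∀ D : Subgroup G, Cfsg.IsComplIn Q D (Cfsg.sigmaCore M) →
          Group.IsNilpotent D ∧
          Q ⊓ centralizer (D : Set G) = Q ⊓ centralizer (D₀ : Set G)) ∧
        M ≤ normalizer ((Q ⊓ centralizer (D₀ : Set G) : Subgroup G) : Set G) ∧
        Q ⊓ centralizer (D₀ : Set G) < Q ∧
        Nat.card Q = Nat.card ↥(Q ⊓ centralizer (D₀ : Set G)) *
          Nat.card ↥(Cfsg.sigmaCore M ⊓ centralizer (K : Set G)) ^ Nat.card K ∧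
        (∀ a ∈ Q, ∀ b ∈ Q,
          a ^ Nat.card ↥(Cfsg.sigmaCore M ⊓ centralizer (K : Set G)) ∈ Q ⊓ centralizer (D₀ : Set G) ∧
          a * b * a⁻¹ * b⁻¹ ∈ Q ⊓ centralizer (D₀ : Set G)) ∧
        ∀ N : Subgroup G, Q ⊓ centralizer (D₀ : Set G) < N → N < Q →
          ¬ M ≤ normalizer (N : Set G) := by
  have hMsol := minSimple_coatom_solvable hG hM
  haveI := hMsol
  obtain ⟨hσ, -⟩ := sigmaCore_isHall hG hM
  set S := Cfsg.sigmaCore M with hS
  have hSM : S ≤ M := sigmaCore_le M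
  have hSn : M ≤ normalizer (S : Set G) := le_normalizer_sigmaCore M
  have hKM : K ≤ M := sigmaDecomp_K_le h
  have hU : U = ⊥ := by
    by_contra hU
    exact hnil (sigmaCore_facts_of_U_ne_bot F hG hM h hU).1
  have hcompl := sigmaDecomp_isComplIn_of_U_eq_bot h hU
  have hK : K ≠ ⊥ := by
    rintro rfl
    refine (minSimple_commutator_lt hG (minSimple_coatom_ne_bot hG hM) hM.1).ne ?_
    refine le_antisymm M.commutator_le_self (le_trans ?_ (sigmaCore_le_commutator hG hM))
    intro m hm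
    obtain ⟨a, ha, b, hb, rfl⟩ := hcompl.2.2.2 m hm
    rw [mem_bot] at ha
    rw [ha, one_mul]
    exact hb
  have hqp := prime_card_kappaStar_of_U_eq_bot F hG hM h hK hU
  set Ks := S ⊓ centralizer (K : Set G) with hKs
  set q := Nat.card ↥Ks with hq
  haveI := Fact.mk hqp
  have hSsol : Group.IsSolvable S := minSimple_solvable hG fun h' => hM.1 (top_le_iff.1 (h' ▸ hSM))
  have hS'sol : Group.IsSolvable (S.subgroupOf M) := by
    haveI := hSsol
    exact Group.isSolvable_of_surjective (f := (subgroupOfEquivOfLe hSM).symm.toMonoidHom)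
      (subgroupOfEquivOfLe hSM).symm.surjective
  have hcopKS : (Nat.card K).Coprime (Nat.card S) := sigmaDecomp_K_coprime h
  have hpr : ∀ k ∈ K, k ≠ 1 → S ⊓ centralizer ({k} : Set G) = Ks :=
    (F.kappaStructure M hM K h.hall hK).1
  haveI : (S.subgroupOf M).Normal := (normal_subgroupOf_iff_le_normalizer hSM).2 hSn
  have hpr' : ∀ k ∈ K.subgroupOf M, k ≠ 1 →
      S.subgroupOf M ⊓ centralizer ({k} : Set M) =
        S.subgroupOf M ⊓ centralizer ((K.subgroupOf M : Subgroup M) : Set M) := by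
    intro k hk hk1
    rw [subgroupOf_inf_centralizer_singleton, subgroupOf_inf_centralizer hSM hKM,
      hpr k (mem_subgroupOf.1 hk) fun h' => hk1 (Subtype.ext h')]
  have hcop' : (Nat.card (K.subgroupOf M)).Coprime (Nat.card (S.subgroupOf M)) := by
    rw [card_subgroupOf hKM, card_subgroupOf hSM]; exact hcopKS
  have hKne' : K.subgroupOf M ≠ ⊥ := fun h' => hK (by
    rw [← Subgroup.card_eq_one, ← card_subgroupOf hKM, h', Subgroup.card_bot])
  -- `K* ≤ F(M_σ)`
  have hKsF : Ks ≤ Cfsg.fittingOf S := by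
    set F := Cfsg.fittingOf S with hF
    rcases (Nat.dvd_prime hqp).1 (card_dvd_of_le
      (inf_le_inf_right _ (fittingOf_le S) : F ⊓ centralizer (K : Set G) ≤ Ks)) with h1 | h1
    · exfalso
      have hF' : (Cfsg.fittingOf (S.subgroupOf M)).map M.subtype ≤ F := by
        refine le_fittingOf ((map_mono (fittingOf_le _)).trans (map_subgroupOf_eq_of_le hSM).le)
          ?_ ?_
        · refine (le_of_eq (map_subgroupOf_eq_of_le hSM).symm).trans
            ((map_mono (le_normalizer_fittingOf (S.subgroupOf M))).trans (le_normalizer_map _))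
        · haveI := isNilpotent_fittingOf (S.subgroupOf M)
          exact Group.nilpotent_of_mulEquiv
            ((Cfsg.fittingOf (S.subgroupOf M)).equivMapOfInjective M.subtype M.subtype_injective)
      have hle := commutator_le_fittingOf_of_prime_action (K := S.subgroupOf M) (R := K.subgroupOf M)
        hS'sol
        (minSimple_odd_subgroup hG M) hcop'.symm hpr' (by
          refine (Subgroup.map_eq_bot_iff_of_injective _ M.subtype_injective).1
            (le_bot_iff.1 ?_)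
          rw [Subgroup.card_eq_one] at h1
          rw [← h1]
          rintro _ ⟨x, ⟨hx1, hx2⟩, rfl⟩
          exact ⟨hF' ⟨x, hx1, rfl⟩, mem_centralizer_iff.2 fun k hk =>
            congrArg Subtype.val (mem_centralizer_iff.1 hx2 ⟨k, hKM hk⟩ (mem_subgroupOf.2 hk))⟩)
      apply hnil
      refine isNilpotent_of_le ?_ (isNilpotent_fittingOf S)
      calc S = ⁅S, K⁆ := ((Cfsg.Agent.S1426.result hG M hM K hcompl).2.1).symm
        _ = ⁅S.subgroupOf M, K.subgroupOf M⁆.map M.subtype := by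
          rw [Subgroup.map_commutator, map_subgroupOf_eq_of_le hSM, map_subgroupOf_eq_of_le hKM]
        _ ≤ F := (map_mono hle).trans hF'
    · exact (Subgroup.eq_of_le_of_card_ge (inf_le_inf_right _ (fittingOf_le S)) h1.ge).ge.trans
        inf_le_left
  -- `Q = O_q(M_σ)`
  set Q := Cfsg.piCoreOf ({q} : Set ℕ) S with hQdef
  have hQS : Q ≤ S := piCoreOf_le _ _
  have hQM : Q ≤ M := hQS.trans hSM
  have hQn : M ≤ normalizer (Q : Set G) := hSn.trans (normalizer_le_normalizer_piCoreOf _ _)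
  have hQq : IsPGroup q Q := isPGroup_of_isPiSubgroup (isPiSubgroup_piCoreOf _ _)
  have hKsQ : Ks ≤ Q := by
    refine (nilpotent_le_piCoreOf (isNilpotent_fittingOf S) hKsF
      (isPiSubgroup_of_isPGroup (π := ({q} : Set ℕ)) (p := q)
        (IsPGroup.of_card (n := 1) (by rw [pow_one])) rfl)).trans ?_
    exact le_piCoreOf (π := ({q} : Set ℕ)) ((piCoreOf_le _ _).trans (fittingOf_le S))
      ((le_normalizer_fittingOf S).trans (normalizer_le_normalizer_piCoreOf _ _))
      (isPiSubgroup_piCoreOf _ _)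
  haveI : (Q.subgroupOf M).Normal := (normal_subgroupOf_iff_le_normalizer hQM).2 hQn
  have hQ'q : IsPGroup q (Q.subgroupOf M) :=
    hQq.of_equiv (subgroupOfEquivOfLe hQM).symm
  have hKs' : S.subgroupOf M ⊓ centralizer ((K.subgroupOf M : Subgroup M) : Set M) =
      Ks.subgroupOf M := subgroupOf_inf_centralizer hSM hKM
  obtain ⟨hnilq, hndvd'⟩ := nilpotent_quotient_of_prime_action (q := q) (S := S.subgroupOf M)
    (K := K.subgroupOf M) (Q := Q.subgroupOf M)
    hS'sol
    hcop' hKne' hpr' (fun x hx => mem_subgroupOf.2 (hQS (mem_subgroupOf.1 hx))) hQ'q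
    (hKs'.le.trans fun x hx => mem_subgroupOf.2 (hKsQ (mem_subgroupOf.1 hx)))
    (fun T hT hTS hTq => by
      have h1 : T.map M.subtype ≤ Q := le_piCoreOf
        ((map_mono hTS).trans (map_subgroupOf_eq_of_le hSM).le)
        (hSM.trans (by
          rw [← normal_subgroupOf_iff_le_normalizer (map_subtype_le T),
            show (T.map M.subtype).subgroupOf M = T from
              comap_map_eq_self_of_injective M.subtype_injective _]
          exact hT))
        (isPiSubgroup_of_isPGroup (hTq.map _) rfl)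
      exact fun x hx => mem_subgroupOf.2 (h1 ⟨x, hx, rfl⟩))
  have hndvd : ¬ q ∣ Q.relIndex S := by
    rwa [Subgroup.relIndex_subgroupOf hSM] at hndvd'
  have hQhall : Cfsg.IsPiHallOf ({q} : Set ℕ) Q S :=
    ⟨hQS, isPiSubgroup_piCoreOf _ _, fun r _ hrq => by
      rw [Set.mem_singleton_iff.1 hrq]; exact hndvd⟩
  -- a `K`-invariant complement
  obtain ⟨⟨D₀, hD₀h, hKD⟩, -, -⟩ := Cfsg.Agent.S3745.result K S (hKM.trans hSn) hcopKS hSsol
    {r | r.Prime ∧ r ≠ q}
  have hcompl₀ : Cfsg.IsComplIn Q D₀ S := by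
    obtain ⟨h1, h2, h3, h4⟩ := isComplIn_of_isPiHallOf (hSM.trans hQn) hQhall hD₀h
      (fun r hr => ⟨fun hr' => hr'.2, fun hr' => ⟨hr, hr'⟩⟩)
    refine ⟨h2, h1, inf_comm Q D₀ ▸ h3, fun m hm => ?_⟩
    obtain ⟨a, ha, b, hb, rfl⟩ := h4 m hm
    exact ⟨a * b * a⁻¹, (mem_normalizer_iff.1 ((hSM.trans hQn) (h1 ha)) b).1 hb, a, ha, by group⟩
  have hD₀q : (Nat.card D₀).Coprime q :=
    (hqp.coprime_iff_not_dvd.2 fun hd => (hD₀h.2.1 q hqp hd).2 rfl).symm
  have hcopQD : (Nat.card Q).Coprime (Nat.card D₀) := by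
    obtain ⟨n, hn⟩ := IsPGroup.iff_card.1 hQq
    exact hn ▸ (hD₀q.pow_right n).symm
  -- all complements are nilpotent and conjugate in `S`
  have hnilD : ∀ D : Subgroup G, Cfsg.IsComplIn Q D S → Group.IsNilpotent D := by
    intro D hD
    have hDM : D ≤ M := hD.2.1.trans hSM
    set f := QuotientGroup.mk' (Q.subgroupOf M) with hf
    haveI : Group.IsNilpotent ((D.subgroupOf M).map f) := isNilpotent_of_le
      (map_mono fun x hx => mem_subgroupOf.2 (hD.2.1 (mem_subgroupOf.1 hx))) hnilq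
    have hinj : Function.Injective (f.subgroupMap (D.subgroupOf M)) := by
      rw [injective_iff_map_eq_one]
      intro x hx
      have h1 : f (x : M) = 1 := congrArg Subtype.val hx
      rw [hf, QuotientGroup.mk'_apply, QuotientGroup.eq_one_iff] at h1
      have h2 : ((x : M) : G) ∈ Q ⊓ D := ⟨mem_subgroupOf.1 h1, mem_subgroupOf.1 x.2⟩
      rw [hD.2.2.1, mem_bot] at h2
      exact Subtype.ext (Subtype.ext h2)
    haveI : Group.IsNilpotent (D.subgroupOf M) := Group.nilpotent_of_mulEquiv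
      (MulEquiv.ofBijective _ ⟨hinj, MonoidHom.subgroupMap_surjective f (D.subgroupOf M)⟩).symm
    exact Group.nilpotent_of_mulEquiv (subgroupOfEquivOfLe hDM)
  have hD₀nil := hnilD D₀ hcompl₀
  have hnc : ¬ D₀ ≤ centralizer (Q : Set G) := fun h' => hnil (by
    refine isNilpotent_of_le ?_
      (isNilpotent_sup_of_commute hD₀nil hQq.isNilpotent h')
    intro s hs
    obtain ⟨a, ha, d, hd, rfl⟩ := hcompl₀.2.2.2 s hs
    exact mul_mem (mem_sup_right ha) (mem_sup_left hd))
  have hD₀M : D₀ ≤ M := hcompl₀.2.1.trans hSM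
  obtain ⟨hKp, hQ₀n, hlt, hcard, hpow, hchief, hD'⟩ := prime_action_chief_factor (q := q)
    (X := M) (S := S.subgroupOf M) (K := K.subgroupOf M) (Q := Q.subgroupOf M)
    (D := D₀.subgroupOf M)
    (fun x => by
      obtain ⟨k, hk, s, hs, hx⟩ := hcompl.2.2.2 x x.2
      refine ⟨⟨k * s * k⁻¹, mul_mem (mul_mem (hKM hk) (hSM hs)) (inv_mem (hKM hk))⟩,
        mem_subgroupOf.2 ((mem_normalizer_iff.1 (hSn (hKM hk)) s).1 hs),
        ⟨k, hKM hk⟩, mem_subgroupOf.2 hk, Subtype.ext ?_⟩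
      show (x : G) = k * s * k⁻¹ * k
      rw [hx]; group)
    hcop' hKne' hpr'
    (by rw [hKs', card_subgroupOf (inf_le_left.trans hSM)])
    (fun x hx => mem_subgroupOf.2 (hQS (mem_subgroupOf.1 hx))) hQ'q
    (hKs'.le.trans fun x hx => mem_subgroupOf.2 (hKsQ (mem_subgroupOf.1 hx)))
    (by
      obtain ⟨h1, h2, h3, h4⟩ := hcompl₀
      refine ⟨fun x hx => mem_subgroupOf.2 (h1 (mem_subgroupOf.1 hx)),
        fun x hx => mem_subgroupOf.2 (h2 (mem_subgroupOf.1 hx)), ?_, fun x hx => ?_⟩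
      · rw [eq_bot_iff]
        intro x hx
        have : (x : G) ∈ Q ⊓ D₀ := ⟨mem_subgroupOf.1 hx.1, mem_subgroupOf.1 hx.2⟩
        rw [h3, mem_bot] at this
        exact mem_bot.2 (Subtype.ext this)
      · obtain ⟨a, ha, b, hb, hxab⟩ := h4 x (mem_subgroupOf.1 hx)
        exact ⟨⟨a, hQM ha⟩, mem_subgroupOf.2 ha, ⟨b, hD₀M hb⟩, mem_subgroupOf.2 hb,
          Subtype.ext hxab⟩)
    (by rw [card_subgroupOf hD₀M]; exact hD₀q)
    (by haveI := hD₀nil; exact Group.nilpotent_of_mulEquiv (subgroupOfEquivOfLe hD₀M).symm)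
    (fun k hk => mem_normalizer_iff.2 fun x => by
      simp only [mem_subgroupOf, Subgroup.coe_mul, Subgroup.coe_inv]
      exact mem_normalizer_iff.1 (hKD (mem_subgroupOf.1 hk)) x)
    (fun h' => hnc fun d hd => mem_centralizer_iff.2 fun a ha => congrArg Subtype.val
      (mem_centralizer_iff.1 (h' (show (⟨d, hD₀M hd⟩ : M) ∈ D₀.subgroupOf M from hd))
        ⟨a, hQM ha⟩ (mem_subgroupOf.2 ha)))
  rw [subgroupOf_inf_centralizer hQM hD₀M] at hQ₀n hlt hcard hpow hchief
  set Q₀ := Q ⊓ centralizer (D₀ : Set G) with hQ₀def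
  have hQ₀M : Q₀ ≤ M := inf_le_left.trans hQM
  have hQ₀nM : M ≤ normalizer (Q₀ : Set G) := (normal_subgroupOf_iff_le_normalizer hQ₀M).1 hQ₀n
  have hconj : ∀ D : Subgroup G, Cfsg.IsComplIn Q D S →
      Q ⊓ centralizer (D : Set G) = Q₀ := by
    intro D hD
    have hDc : Nat.card D = Nat.card D₀ := Nat.eq_of_mul_eq_mul_left Nat.card_pos
      ((compl_card hD).trans (compl_card hcompl₀).symm)
    obtain ⟨m, hm, hmD⟩ := exists_conj_le_isPiHallOf hSsol hD.2.1
      (fun r hr hd => hD₀h.2.1 r hr (hDc ▸ hd)) hD₀h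
    have heq : D.map (MulAut.conj m).toMonoidHom = D₀ :=
      Subgroup.eq_of_le_of_card_ge hmD (by rw [card_map_conj, hDc])
    have hQm : Q.map (MulAut.conj m).toMonoidHom = Q := map_conj_eq_self_iff.2 (hQn (hSM hm))
    apply Subgroup.map_injective (f := (MulAut.conj m).toMonoidHom) (MulAut.conj m).injective
    rw [Subgroup.map_inf _ _ _ (MulAut.conj m).injective, map_conj_centralizer, hQm,
      map_conj_eq_self_iff.2 (hQ₀nM (hSM hm)), hQ₀def]
    congr 2
    rw [← heq]
    rfl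
  -- `q ∈ β(M)`
  have hqQ : q ∣ Nat.card Q := card_dvd_of_le hKsQ
  have hqM : q ∣ Nat.card M := hqQ.trans (card_dvd_of_le hQM)
  have hbeta : q ∈ Cfsg.beta M := by
    by_contra hb
    obtain ⟨P, N, hN, hNP⟩ := ((Cfsg.Agent.S1414.result hG M hM).2.2.2.2 q hqp hqM hb).2.1
    apply hnc
    have hNc : ¬ q ∣ Nat.card N := fun hd => P.not_dvd_index (by rw [hNP.index_eq_card]; exact hd)
    have hD₀N : D₀ ≤ N.map S.subtype := by
      refine le_of_normal_hall (M := S) (map_subtype_le _) ?_ ?_ hcompl₀.2.1 fun r hr hd => ?_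
      · rw [← normal_subgroupOf_iff_le_normalizer (map_subtype_le _),
          show (N.map S.subtype).subgroupOf S = N from
            comap_map_eq_self_of_injective S.subtype_injective _]
        exact hN
      · rw [card_map_of_injective S.subtype_injective, Subgroup.relIndex,
          show (N.map S.subtype).subgroupOf S = N from
            comap_map_eq_self_of_injective S.subtype_injective _, hNP.symm.index_eq_card]
        obtain ⟨n, hn⟩ := IsPGroup.iff_card.1 P.isPGroup'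
        exact hn ▸ ((hqp.coprime_iff_not_dvd.2 hNc).pow_left n).symm
      · rw [card_map_of_injective S.subtype_injective]
        have h1 : r ∣ Nat.card N * Nat.card (P : Subgroup S) :=
          hNP.card_mul.symm ▸ hd.trans (card_dvd_of_le hcompl₀.2.1)
        refine (hr.dvd_mul.1 h1).resolve_right fun h2 => (hD₀h.2.1 r hr hd).2 ?_
        obtain ⟨n, hn⟩ := IsPGroup.iff_card.1 P.isPGroup'
        rw [hn] at h2
        exact (Nat.prime_dvd_prime_iff_eq hr hqp).1 (hr.dvd_of_dvd_pow h2)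
    have hNn : S ≤ normalizer ((N.map S.subtype : Subgroup G) : Set G) := by
      rw [← normal_subgroupOf_iff_le_normalizer (map_subtype_le _),
        show (N.map S.subtype).subgroupOf S = N from
          comap_map_eq_self_of_injective S.subtype_injective _]
      exact hN
    refine hD₀N.trans (le_centralizer_of_normalize ((map_subtype_le N).trans (hSM.trans hQn))
      (hQS.trans hNn) (inf_eq_bot_of_coprime ?_))
    rw [card_map_of_injective S.subtype_injective]
    obtain ⟨n, hn⟩ := IsPGroup.iff_card.1 hQq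
    exact hn ▸ ((hqp.coprime_iff_not_dvd.2 hNc).symm.pow_right n)
  have hQF : Q ≤ Cfsg.fittingHallOf M := by
    refine le_fittingHallOf hQM hQn hQq.isNilpotent (Nat.coprime_of_dvd fun r hr h1 h2 => ?_)
    have hrq : r = q := isPiSubgroup_piCoreOf _ _ r hr h1
    rw [← Subgroup.relIndex_mul_relIndex Q S M hQS hSM] at h2
    rcases hr.dvd_mul.1 h2 with h3 | h3
    · exact hndvd (hrq ▸ h3)
    · exact hr.not_dvd_one ((coprime_relIndex_of_isPiHallOf hσ : (Nat.card S).Coprime (S.relIndex M)) ▸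
        Nat.dvd_gcd (h1.trans (card_dvd_of_le hQS)) h3)
  refine ⟨hU, hK, ?_, by rw [← card_subgroupOf hKM]; exact hKp, hqp, hbeta, Q, D₀, hQF, hQn, hQS,
    hKsQ, hQq, hndvd, hcompl₀, hD₀nil, hcopQD, hKD, ?_,
    fun D hD => ⟨hnilD D hD, hconj D hD⟩, hQ₀nM, ?_, ?_, ?_, ?_⟩
  · refine le_antisymm (sigmaCore_le_commutator hG hM) ?_
    rw [commutator_le]
    intro a ha b hb
    obtain ⟨k, hk, s, hs, rfl⟩ := hcompl.2.2.2 a ha
    obtain ⟨l, hl, t, ht, rfl⟩ := hcompl.2.2.2 b hb
    let g : M →* M ⧸ S.subgroupOf M := QuotientGroup.mk' _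
    have hs' : g ⟨s, hSM hs⟩ = 1 := (QuotientGroup.eq_one_iff _).2 (mem_subgroupOf.2 hs)
    have ht' : g ⟨t, hSM ht⟩ = 1 := (QuotientGroup.eq_one_iff _).2 (mem_subgroupOf.2 ht)
    haveI := h.cyclic
    have hkl : (⟨k, hKM hk⟩ : M) * ⟨l, hKM hl⟩ = ⟨l, hKM hl⟩ * ⟨k, hKM hk⟩ :=
      Subtype.ext (setLike_mul_comm (s := K) hk hl)
    have h1 : g ⁅(⟨k, hKM hk⟩ : M) * ⟨s, hSM hs⟩, (⟨l, hKM hl⟩ : M) * ⟨t, hSM ht⟩⁆ = 1 := by
      rw [map_commutatorElement, map_mul, map_mul, hs', ht', mul_one, mul_one,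
        ← map_commutatorElement, commutatorElement_eq_one_iff_mul_comm.2 hkl, map_one]
    exact mem_subgroupOf.1 ((QuotientGroup.eq_one_iff _).1 h1)
  · intro x hx
    have hxD : x ∈ D₀ := D₀.commutator_le_self hx
    have hmem : (⟨x, hD₀M hxD⟩ : M) ∈ ⁅D₀.subgroupOf M, D₀.subgroupOf M⁆ := by
      rw [← mem_map_iff_mem (f := M.subtype) M.subtype_injective, Subgroup.map_commutator,
        map_subgroupOf_eq_of_le hD₀M]
      exact hx
    exact mem_centralizer_iff.2 fun a ha => congrArg Subtype.val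
      (mem_centralizer_iff.1 (hD' hmem) ⟨a, hQM ha⟩ (mem_subgroupOf.2 ha))
  · refine lt_of_le_of_ne inf_le_left fun h' => hlt.ne ?_
    show Q₀.subgroupOf M = _
    rw [show Q₀ = Q from h']
  · have := hcard
    rwa [card_subgroupOf hQM, card_subgroupOf hQ₀M, card_subgroupOf hKM] at this
  · intro a ha b hb
    have := hpow ⟨a, hQM ha⟩ (mem_subgroupOf.2 ha) ⟨b, hQM hb⟩ (mem_subgroupOf.2 hb)
    exact ⟨mem_subgroupOf.1 this.1, mem_subgroupOf.1 this.2⟩
  · intro N h1 h2 hNn
    have hNM : N ≤ M := h2.le.trans hQM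
    refine hchief (N.subgroupOf M) ((normal_subgroupOf_iff_le_normalizer hNM).2 hNn) ?_ ?_
    · refine lt_of_le_of_ne (fun x hx => mem_subgroupOf.2 (h1.le (mem_subgroupOf.1 hx))) fun h' => h1.ne ?_
      have := congrArg (Subgroup.map M.subtype) h'
      rwa [map_subgroupOf_eq_of_le hQ₀M, map_subgroupOf_eq_of_le hNM] at this
    · refine lt_of_le_of_ne (fun x hx => mem_subgroupOf.2 (h2.le (mem_subgroupOf.1 hx))) fun h' => h2.ne ?_
      have := congrArg (Subgroup.map M.subtype) h'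
      rwa [map_subgroupOf_eq_of_le hNM, map_subgroupOf_eq_of_le hQM] at this

end CfsgLib.OddOrder
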