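import Cfsg.Agent.OddOrder.TypePBasic
import Cfsg.Agent.OddOrder.Setup
import Cfsg.Agent.OddOrder.BG8.Bender
import Cfsg.Agent.Solvable.Hall

/-!
# BG 15: the subgroup `M_F` and the two parts of `F(M)`
-/

set_option autoImplicit false
set_option linter.style.haveILetI false

namespace CfsgLib.OddOrder

open Cfsg Subgroup

variable {G : Type*} [Group G] [Finite G]

omit [Finite G] in
/-- A normal Hall subgroup contains every subgroup involving only its primes. -/
theorem le_of_normal_hall {M N X : Subgroup G} (hNM : N ≤ M) (hn : M ≤ normalizer (N : Set G))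
    (hcop : (Nat.card N).Coprime (N.relIndex M)) (hXM : X ≤ M)
    (hX : ∀ r : ℕ, r.Prime → r ∣ Nat.card X → r ∣ Nat.card N) : X ≤ N := by
  haveI : (N.subgroupOf M).Normal := (normal_subgroupOf_iff_le_normalizer hNM).2 hn
  have h1 : N.relIndex X ∣ N.relIndex M := by
    have h := Subgroup.relIndex_dvd_index_of_normal (N.subgroupOf M) (X.subgroupOf M)
    rwa [Subgroup.relIndex_subgroupOf hXM] at h
  refine Subgroup.relIndex_eq_one.1 (Nat.eq_one_iff_not_exists_prime_dvd.2 fun r hr hd => ?_)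
  exact hr.not_dvd_one (hcop ▸ Nat.dvd_gcd (hX r hr (hd.trans (N.relIndex_dvd_card X))) (hd.trans h1))

/-- A normal π-subgroup of `M` lies in every normal Hall π-subgroup of `M`, and the latter is `O_π(M)`. -/
theorem eq_piCoreOf_of_normal_hall {π : Set ℕ} {M N : Subgroup G}
    (hn : M ≤ normalizer (N : Set G)) (hN : Cfsg.IsPiHallOf π N M) : Cfsg.piCoreOf π M = N := by
  refine le_antisymm ?_ (le_piCoreOf hN.1 hn hN.2.1)
  refine le_of_normal_hall hN.1 hn (Nat.coprime_of_dvd fun r hr h1 h2 => hN.2.2 r hr (hN.2.1 r hr h1) h2)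
    (piCoreOf_le π M) fun r hr hd => ?_
  by_contra h
  have hrπ := isPiSubgroup_piCoreOf π M r hr hd
  refine hN.2.2 r hr hrπ ((hr.dvd_mul.1 ?_).resolve_left h)
  have := Subgroup.relIndex_mul_relIndex (⊥ : Subgroup G) N M bot_le hN.1
  rw [Subgroup.relIndex_bot_left, Subgroup.relIndex_bot_left] at this
  rw [this]
  exact hd.trans (card_dvd_of_le (piCoreOf_le π M))

omit [Finite G] in
theorem card_mul_relIndex {N M : Subgroup G} (h : N ≤ M) :
    Nat.card N * N.relIndex M = Nat.card M := by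
  have := Subgroup.relIndex_mul_relIndex (⊥ : Subgroup G) N M bot_le h
  rwa [Subgroup.relIndex_bot_left, Subgroup.relIndex_bot_left] at this

/-! ### `M_F` -/

theorem fittingHall_le_fittingSubgroup (M : Type*) [Group M] :
    Cfsg.fittingHall M ≤ Cfsg.fittingSubgroup M :=
  sSup_le fun _ hN => le_sSup ⟨hN.1, hN.2.1⟩

omit [Finite G] in
theorem fittingHallOf_le_fittingOf (M : Subgroup G) : Cfsg.fittingHallOf M ≤ Cfsg.fittingOf M :=
  map_mono (fittingHall_le_fittingSubgroup M)

theorem isNilpotent_fittingHallOf (M : Subgroup G) :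
    Group.IsNilpotent (Cfsg.fittingHallOf M) :=
  isNilpotent_of_le (fittingHallOf_le_fittingOf M) (isNilpotent_fittingOf M)

theorem coprime_relIndex_fittingHallOf (M : Subgroup G) :
    (Nat.card (Cfsg.fittingHallOf M)).Coprime ((Cfsg.fittingHallOf M).relIndex M) := by
  rw [Cfsg.fittingHallOf, Subgroup.card_map_of_injective M.subtype_injective, Subgroup.relIndex,
    Subgroup.subgroupOf, Subgroup.comap_map_eq_self_of_injective M.subtype_injective]
  exact fittingHall_coprime_index M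

/-- A subgroup of `M` involving only primes of `M_F` lies in `M_F`. -/
theorem le_fittingHallOf_of_primes {M X : Subgroup G} (hXM : X ≤ M)
    (hX : ∀ r : ℕ, r.Prime → r ∣ Nat.card X → r ∣ Nat.card (Cfsg.fittingHallOf M)) :
    X ≤ Cfsg.fittingHallOf M :=
  le_of_normal_hall (fittingHallOf_le M) (le_normalizer_fittingHallOf M)
    (coprime_relIndex_fittingHallOf M) hXM hX

/-- For `p` dividing `#M_F` every Sylow `p`-subgroup of `M` equals `O_p(M_F)`, so is normal in `M`. -/
theorem sylow_eq_piCoreOf_fittingHallOf {M : Subgroup G} {p : ℕ} [Fact p.Prime]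
    (hp : p ∣ Nat.card (Cfsg.fittingHallOf M)) (P : Sylow p M) :
    (P : Subgroup M).map M.subtype = Cfsg.piCoreOf ({p} : Set ℕ) (Cfsg.fittingHallOf M) := by
  set R := Cfsg.piCoreOf ({p} : Set ℕ) (Cfsg.fittingHallOf M) with hR
  have hP : IsPGroup p ↥((P : Subgroup M).map M.subtype) := P.isPGroup'.map _
  have hPR : (P : Subgroup M).map M.subtype ≤ R := by
    refine nilpotent_le_piCoreOf (isNilpotent_fittingHallOf M) ?_
      (isPiSubgroup_of_isPGroup hP (Set.mem_singleton p))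
    refine le_fittingHallOf_of_primes (map_subtype_le _) fun r hr hd => ?_
    rwa [isPiSubgroup_of_isPGroup hP (Set.mem_singleton p) r hr hd]
  refine le_antisymm hPR ?_
  have hRM : R ≤ M := (piCoreOf_le _ _).trans (fittingHallOf_le M)
  rw [← map_subgroupOf_eq_of_le hRM]
  refine map_mono (P.is_maximal' ?_ ?_).le
  · exact (isPGroup_of_isPiSubgroup (isPiSubgroup_piCoreOf _ _)).comap_subtype
  · intro x hx
    exact mem_subgroupOf.2 (hPR ⟨x, hx, rfl⟩)

/-- `π(M_F) ⊆ σ(M)`. -/
theorem mem_sigma_of_dvd_fittingHallOf (hG : Cfsg.IsMinSimpleOddOrder G) {M : Subgroup G}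
    (hM : IsCoatom M) {p : ℕ} (hp : p.Prime) (hd : p ∣ Nat.card (Cfsg.fittingHallOf M)) :
    p ∈ Cfsg.sigma M := by
  haveI := Fact.mk hp
  refine ⟨hp, hd.trans (card_dvd_of_le (fittingHallOf_le M)), default, ?_⟩
  set P : Sylow p M := default
  have hpM : p ∣ Nat.card M := hd.trans (card_dvd_of_le (fittingHallOf_le M))
  refine (minSimple_normalizer_eq_coatom_of_le hG hM ?_ (map_subtype_le _) ?_).le
  · exact fun h => P.ne_bot_of_dvd_card hpM ((map_eq_bot_iff_of_injective _ M.subtype_injective).1 h)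
  · rw [sylow_eq_piCoreOf_fittingHallOf hd P]
    exact (le_normalizer_fittingHallOf M).trans (normalizer_le_normalizer_piCoreOf _ _)

/-- `M_F ≤ M_σ`. -/
theorem fittingHallOf_le_sigmaCore (hG : Cfsg.IsMinSimpleOddOrder G) {M : Subgroup G}
    (hM : IsCoatom M) : Cfsg.fittingHallOf M ≤ Cfsg.sigmaCore M :=
  le_piCoreOf (π := Cfsg.sigma M) (fittingHallOf_le M) (le_normalizer_fittingHallOf M)
    fun _ hr hd => mem_sigma_of_dvd_fittingHallOf hG hM hr hd

omit [Finite G] in
theorem sigmaCore_le (M : Subgroup G) : Cfsg.sigmaCore M ≤ M :=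
  piCoreOf_le (Cfsg.sigma M) M

omit [Finite G] in
theorem le_normalizer_sigmaCore (M : Subgroup G) :
    M ≤ normalizer ((Cfsg.sigmaCore M : Subgroup G) : Set G) :=
  le_normalizer_piCoreOf (Cfsg.sigma M) M

theorem isPiSubgroup_sigmaCore (M : Subgroup G) :
    IsPiSubgroup (Cfsg.sigma M) (Cfsg.sigmaCore M) :=
  isPiSubgroup_piCoreOf (Cfsg.sigma M) M

/-- If `M_σ` is a nilpotent Hall subgroup of `M` then it equals `M_F`. -/
theorem fittingHallOf_eq_sigmaCore (hG : Cfsg.IsMinSimpleOddOrder G) {M : Subgroup G}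
    (hM : IsCoatom M) (hall : Cfsg.IsPiHallOf (Cfsg.sigma M) (Cfsg.sigmaCore M) M)
    (hnil : Group.IsNilpotent (Cfsg.sigmaCore M)) :
    Cfsg.fittingHallOf M = Cfsg.sigmaCore M :=
  le_antisymm (fittingHallOf_le_sigmaCore hG hM)
    (le_fittingHallOf hall.1 (le_normalizer_sigmaCore M) hnil
      (Nat.coprime_of_dvd fun r hr h1 h2 => hall.2.2 r hr (hall.2.1 r hr h1) h2))

theorem not_isNilpotent_sigmaCore (hG : Cfsg.IsMinSimpleOddOrder G) {M : Subgroup G}
    (hM : IsCoatom M) (hall : Cfsg.IsPiHallOf (Cfsg.sigma M) (Cfsg.sigmaCore M) M)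
    (hne : Cfsg.fittingHallOf M ≠ Cfsg.sigmaCore M) :
    ¬ Group.IsNilpotent (Cfsg.sigmaCore M) :=
  fun h => hne (fittingHallOf_eq_sigmaCore hG hM hall h)

/-! ### `F(M)` -/

/-- `F(M) = F(M_σ) × O_σ'(F(M))`. -/
theorem fittingOf_eq_sup_piCoreOf (M : Subgroup G) :
    Cfsg.fittingOf M = Cfsg.fittingOf (Cfsg.sigmaCore M) ⊔
      Cfsg.piCoreOf {q | q.Prime ∧ q ∉ Cfsg.sigma M} (Cfsg.fittingOf M) := by
  refine le_antisymm ?_ (sup_le ?_ (piCoreOf_le _ _))
  · refine (nilpotent_le_sup_piCoreOf (isNilpotent_fittingOf M) (π := Cfsg.sigma M)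
      (ρ := {q | q.Prime ∧ q ∉ Cfsg.sigma M}) fun q hq _ => ?_).trans (sup_le_sup_right ?_ _)
    · exact (em (q ∈ Cfsg.sigma M)).imp id fun h => ⟨hq, h⟩
    · have hnM : M ≤ normalizer ((Cfsg.piCoreOf (Cfsg.sigma M) (Cfsg.fittingOf M) : Subgroup G) : Set G) :=
        (le_normalizer_fittingOf M).trans (normalizer_le_normalizer_piCoreOf _ _)
      have hle : Cfsg.piCoreOf (Cfsg.sigma M) (Cfsg.fittingOf M) ≤ Cfsg.sigmaCore M :=
        le_piCoreOf (π := Cfsg.sigma M) ((piCoreOf_le _ _).trans (fittingOf_le M)) hnM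
          (isPiSubgroup_piCoreOf _ _)
      exact le_fittingOf hle ((sigmaCore_le M).trans hnM)
        (isNilpotent_of_le (piCoreOf_le _ _) (isNilpotent_fittingOf M))
  · exact le_fittingOf ((fittingOf_le _).trans (sigmaCore_le M))
      ((le_normalizer_sigmaCore M).trans (normalizer_le_normalizer_fittingOf _))
      (isNilpotent_fittingOf _)

/-- `F(M) ≤ M_F C_M(M_F)`. -/
theorem fittingOf_le_centralizer_sup (M : Subgroup G) :
    Cfsg.fittingOf M ≤
      (M ⊓ centralizer (Cfsg.fittingHallOf M : Set G)) ⊔ Cfsg.fittingHallOf M := by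
  set π : Set ℕ := {q | q ∣ Nat.card (Cfsg.fittingHallOf M)} with hπ
  set ρ : Set ℕ := {q | ¬ q ∣ Nat.card (Cfsg.fittingHallOf M)} with hρ
  have hF := isNilpotent_fittingOf M
  refine (nilpotent_le_sup_piCoreOf hF (π := ρ) (ρ := π) fun q _ _ => (em _).symm).trans
    (sup_le_sup (le_inf ((piCoreOf_le _ _).trans (fittingOf_le M)) ?_) ?_)
  · have h1 : Cfsg.fittingHallOf M ≤ Cfsg.piCoreOf π (Cfsg.fittingOf M) :=
      nilpotent_le_piCoreOf hF (fittingHallOf_le_fittingOf M) fun r _ hd => hd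
    exact (piCoreOf_le_centralizer_piCoreOf (Cfsg.fittingOf M)
      (π := ρ) (ρ := π) (Set.disjoint_left.2 fun q ha hb => ha hb)).trans (centralizer_le h1)
  · exact le_fittingHallOf_of_primes ((piCoreOf_le _ _).trans (fittingOf_le M))
      (isPiSubgroup_piCoreOf π _)

end CfsgLib.OddOrder
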