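import Cfsg.Agent.OddOrder.BG15.SigmaStructure
import Cfsg.Agent.S1374

/-!
# BG 15.3: fusion in a Hall subgroup of `M_σ`
-/

set_option autoImplicit false
set_option linter.style.haveILetI false

namespace CfsgLib.OddOrder

open Cfsg Subgroup

variable {G : Type*} [Group G] [Finite G]

/-- BG 15.3, second half: fusion in a Hall subgroup `H` of `M_σ` is controlled by `N_M(H)`. -/
theorem hall_sigmaCore_fusion (F : BG15.BG14Facts G) (hG : Cfsg.IsMinSimpleOddOrder G) {M H : Subgroup G}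
    (hM : IsCoatom M) (hH : H ≤ Cfsg.sigmaCore M)
    (hHall : (Nat.card H).Coprime (H.relIndex (Cfsg.sigmaCore M))) {x g : G} (hx : x ∈ H)
    (hy : g * x * g⁻¹ ∈ H) :
    ∃ n ∈ M ⊓ normalizer (H : Set G), n * x * n⁻¹ = g * x * g⁻¹ := by
  rcases eq_or_ne x 1 with rfl | hx1
  · exact ⟨1, one_mem _, by group⟩
  set S := Cfsg.sigmaCore M with hS
  have hSM : S ≤ M := sigmaCore_le M
  -- conjugacy in `M`
  obtain ⟨-, R, -, hR, huniq⟩ := Cfsg.Agent.S1374.result hG M hM x (hH hx) hx1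
  obtain ⟨r, ⟨hrR, hrM⟩, -⟩ := huniq g⁻¹ (by
    rw [mem_map_conj_iff, inv_inv]
    exact hSM (hH hy))
  have hrx : r ∈ centralizer ({x} : Set G) := hR.2.1 hrR
  have hm : g * r ∈ M := by
    rw [← minSimple_normalizer_coatom hG hM, ← map_conj_eq_self_iff, ← map_conj_map_conj, hrM,
      map_conj_map_conj, mul_inv_cancel, map_conj_one]
  have hmx : g * r * x * (g * r)⁻¹ = g * x * g⁻¹ := by
    calc g * r * x * (g * r)⁻¹ = g * (r * x) * r⁻¹ * g⁻¹ := by group
      _ = g * (x * r) * r⁻¹ * g⁻¹ := by rw [mem_centralizer_singleton_iff.1 hrx]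
      _ = g * x * g⁻¹ := by group
  -- Frattini argument
  have hSsol : Group.IsSolvable S := minSimple_solvable hG fun h' => hM.1 (top_le_iff.1 (h' ▸ hSM))
  haveI : (S.subgroupOf M).Normal :=
    (normal_subgroupOf_iff_le_normalizer hSM).2 (le_normalizer_sigmaCore M)
  have hfr : S.subgroupOf M ⊔ normalizer ((H.subgroupOf M : Subgroup M) : Set M) = ⊤ := by
    refine CfsgLib.Solvable.frattini_argument_hall (π := {r | r ∣ Nat.card H}) ?_ ?_ ?_
    · haveI := hSsol
      exact Group.isSolvable_of_surjective (f := (subgroupOfEquivOfLe hSM).symm.toMonoidHom)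
        (subgroupOfEquivOfLe hSM).symm.surjective
    · exact fun z hz => mem_subgroupOf.2 (hH (mem_subgroupOf.1 hz))
    · have hle : H.subgroupOf M ≤ S.subgroupOf M :=
        fun z hz => mem_subgroupOf.2 (hH (mem_subgroupOf.1 hz))
      rw [isPiHall_subgroupOf_iff hle]
      refine ⟨hle, fun p _ hd => ?_, fun p hp hpH hd => ?_⟩
      · rwa [card_subgroupOf (hH.trans hSM)] at hd
      · rw [Subgroup.relIndex_subgroupOf hSM] at hd
        exact hp.not_dvd_one (hHall ▸ Nat.dvd_gcd hpH hd)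
  obtain ⟨s, hs, n, hn, hsn⟩ := Subgroup.mem_sup_of_normal_left.1
    (hfr.symm ▸ mem_top (⟨g * r, hm⟩ : M)⁻¹)
  have hn' : (n : G) ∈ normalizer (H : Set G) := by
    rw [mem_normalizer_iff]
    intro z
    constructor
    · intro hz
      have := (mem_normalizer_iff.1 hn ⟨z, hSM (hH hz)⟩).1 (mem_subgroupOf.2 hz)
      exact mem_subgroupOf.1 this
    · intro hz
      have hz' : z ∈ M := by
        have h1 : (n : G) * z * (n : G)⁻¹ ∈ M := hSM (hH hz)
        simpa [mul_assoc] using mul_mem (mul_mem (inv_mem n.2) h1) n.2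
      exact mem_subgroupOf.1 ((mem_normalizer_iff.1 hn ⟨z, hz'⟩).2 (mem_subgroupOf.2 hz))
  -- `g r = n⁻¹ s⁻¹`
  have hsn' : g * r = (n : G)⁻¹ * (s : G)⁻¹ := by
    have := congrArg (fun z : M => (z : G)⁻¹) hsn
    simpa using this.symm
  set t := (s : G)⁻¹ with ht
  have htS : t ∈ S := inv_mem (mem_subgroupOf.1 hs)
  have hzH : t * x * t⁻¹ ∈ H := by
    refine (mem_normalizer_iff.1 (inv_mem hn') _).2 ?_
    rw [← hmx, hsn'] at hy
    convert hy using 1
    group
  -- fusion inside `M_σ`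
  have key : ∃ u ∈ S ⊓ normalizer (H : Set G), u * x * u⁻¹ = t * x * t⁻¹ := by
    by_cases hnil : Group.IsNilpotent S
    · exact hall_fusion (Q := ⊥) (D := S) hSsol le_normalizer_of_normal
        ⟨bot_le, le_rfl, bot_inf_eq _, fun m hm' => ⟨1, one_mem _, m, hm', (one_mul m).symm⟩⟩ hnil
        (by rw [Subgroup.card_bot]; exact Nat.coprime_one_left _) hH hHall
        (Or.inl bot_le) hx htS hzH
    · obtain ⟨K, U, hKU⟩ := BG15.exists_sigmaDecomposition F hG hM
      obtain ⟨-, -, -, -, hqp, -, Q, D, -, hQn, hQS, -, hQq, hnd, hQD, hDn, hcop, -⟩ :=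
        sigmaCore_structure F hG hM hKU hnil
      refine hall_fusion hSsol (hSM.trans hQn) hQD hDn hcop hH hHall ?_ hx htS hzH
      set q := Nat.card ↥(S ⊓ centralizer (K : Set G))
      haveI := Fact.mk hqp
      obtain ⟨a, ha⟩ := IsPGroup.iff_card.1 hQq
      by_cases hqH : q ∣ Nat.card H
      · refine Or.inl ?_
        set π : Set ℕ := {r | r ∣ Nat.card H}
        have hHall' : Cfsg.IsPiHallOf π H S := ⟨hH, fun _ _ hd => hd,
          fun p hp hpH hd => hp.not_dvd_one (hHall ▸ Nat.dvd_gcd hpH hd)⟩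
        have hπ : IsPiSubgroup π (H ⊔ Q) := isPiSubgroup_sup ((hH.trans hSM).trans hQn)
          (fun _ _ hd => hd) (isPiSubgroup_of_isPGroup hQq hqH)
        exact le_sup_right.trans (le_of_isPiHallOf_le hHall' le_sup_left (sup_le hH hQS) hπ)
      · exact Or.inr (ha ▸ (hqp.coprime_iff_not_dvd.2 hqH).pow_left a)
  obtain ⟨u, ⟨huS, huN⟩, hu⟩ := key
  refine ⟨(n : G)⁻¹ * u, ⟨M.mul_mem (M.inv_mem n.2) (hSM huS), (normalizer (H : Set G)).mul_mem ((normalizer (H : Set G)).inv_mem hn') huN⟩, ?_⟩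
  rw [← hmx, hsn']
  calc (n : G)⁻¹ * u * x * ((n : G)⁻¹ * u)⁻¹ = (n : G)⁻¹ * (u * x * u⁻¹) * n := by group
    _ = (n : G)⁻¹ * (t * x * t⁻¹) * n := by rw [hu]
    _ = _ := by group

end CfsgLib.OddOrder
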