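import Cfsg.Agent.OddOrder.BG15.Tau2
import Cfsg.Agent.OddOrder.BG15.Fusion
import Cfsg.Agent.S1415

/-!
# BG 15: `M_σ ≤ M'`, `M'/M_F` is nilpotent, `M'' ≤ F(M) = C_M(M_F) M_F`, and `F(M) ≤ M'` when `κ(M) ≠ ∅`
-/

set_option autoImplicit false
set_option linter.style.haveILetI false

namespace CfsgLib.OddOrder

open Cfsg Subgroup
open scoped commutatorElement

variable {G : Type*} [Group G] [Finite G]

omit [Finite G] in
/-- If `M = A N` with `N` normal in `M`, then `M' ≤ A' N`. -/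
theorem commutator_le_sup_of_generation {M A N : Subgroup G} (hAM : A ≤ M) (hNM : N ≤ M)
    (hn : M ≤ normalizer (N : Set G)) (hgen : ∀ m ∈ M, ∃ a ∈ A, ∃ n ∈ N, m = a * n) :
    ⁅M, M⁆ ≤ ⁅A, A⁆ ⊔ N := by
  haveI : (N.subgroupOf M).Normal := (normal_subgroupOf_iff_le_normalizer hNM).2 hn
  rw [commutator_le]
  intro x hx y hy
  obtain ⟨a, ha, n, hn', rfl⟩ := hgen x hx
  obtain ⟨b, hb, k, hk, rfl⟩ := hgen y hy
  let g : M →* M ⧸ N.subgroupOf M := QuotientGroup.mk' _
  have h1 : g ⟨n, hNM hn'⟩ = 1 := (QuotientGroup.eq_one_iff _).2 (mem_subgroupOf.2 hn')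
  have h2 : g ⟨k, hNM hk⟩ = 1 := (QuotientGroup.eq_one_iff _).2 (mem_subgroupOf.2 hk)
  have h3 : g ⁅(⟨a, hAM ha⟩ : M) * ⟨n, hNM hn'⟩, (⟨b, hAM hb⟩ : M) * ⟨k, hNM hk⟩⁆ =
      g ⁅(⟨a, hAM ha⟩ : M), (⟨b, hAM hb⟩ : M)⁆ := by
    rw [map_commutatorElement, map_commutatorElement, map_mul, map_mul, h1, h2, mul_one, mul_one]
  have h4 := mem_subgroupOf.1 (QuotientGroup.eq.1 h3.symm)
  have h5 : ⁅a * n, b * k⁆ = ⁅a, b⁆ * (⁅a, b⁆⁻¹ * ⁅a * n, b * k⁆) := by group
  rw [h5]
  exact mul_mem_sup (commutator_mem_commutator ha hb) (by simpa [commutatorElement_def] using h4)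

omit [Finite G] in
theorem mem_sup_decomp {M A N : Subgroup G} (hA : A ≤ M) (hn : M ≤ normalizer (N : Set G)) {m : G}
    (hm : m ∈ A ⊔ N) : ∃ a ∈ A, ∃ n ∈ N, m = a * n := by
  rw [← SetLike.mem_coe, Subgroup.coe_mul_of_left_le_normalizer_right _ _ (hA.trans hn)] at hm
  obtain ⟨a, ha, n, hn', rfl⟩ := hm
  exact ⟨a, ha, n, hn', rfl⟩

/-- If `M' ≤ D M_F` with `D` nilpotent, the image of `M'` modulo `M_F` is nilpotent. -/
theorem isNilpotent_map_commutator {M D : Subgroup G} (hDM : D ≤ M) (hD : Group.IsNilpotent D)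
    (h : ⁅M, M⁆ ≤ D ⊔ Cfsg.fittingHallOf M) :
    Group.IsNilpotent ↥((commutator ↥M).map (QuotientGroup.mk' (Cfsg.fittingHall ↥M))) := by
  set f := QuotientGroup.mk' (Cfsg.fittingHall ↥M)
  haveI := hD
  haveI : Group.IsNilpotent (D.subgroupOf M) :=
    Group.nilpotent_of_mulEquiv (subgroupOfEquivOfLe hDM).symm
  refine isNilpotent_of_le ?_ (Group.nilpotent_of_surjective (f.subgroupMap (D.subgroupOf M))
    (MonoidHom.subgroupMap_surjective f _))
  rintro _ ⟨x, hx, rfl⟩
  have hx' : (x : G) ∈ ⁅M, M⁆ := by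
    rw [← map_subtype_commutator]; exact ⟨x, hx, rfl⟩
  obtain ⟨d, hd, n, hn, hxdn⟩ := mem_sup_decomp hDM (le_normalizer_fittingHallOf M) (h hx')
  obtain ⟨n', hn', rfl⟩ := hn
  refine ⟨⟨d, hDM hd⟩, mem_subgroupOf.2 hd, ?_⟩
  have hx2 : x = ⟨d, hDM hd⟩ * n' := Subtype.ext hxdn
  rw [hx2, map_mul, show f n' = 1 from (QuotientGroup.eq_one_iff n').2 hn', mul_one]

/-- `κ(M)` and `τ₂(M)` are disjoint. -/
theorem not_mem_tau2_of_mem_kappa {M : Subgroup G} {p : ℕ} (hk : p ∈ Cfsg.kappa M) :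
    p ∉ Cfsg.tau2 M := by
  intro ht
  haveI := Fact.mk ht.1
  obtain ⟨A, hAM, hAe, hAc⟩ := exists_elementary_card_sq (H := M) ht.2.2.2
  obtain ⟨S, hS⟩ := ((isPGroup_of_isElementaryAbelian hAe).comap_subtype (K := M)).exists_le_sylow
  refine not_isCyclic_of_elementary hAe hAc.ge ?_
  haveI := (hk.2.2.2 S).1
  haveI : IsCyclic (A.subgroupOf M) := Subgroup.isCyclic_of_le hS
  exact isCyclic_of_surjective _ (subgroupOfEquivOfLe hAM).surjective

/-- BG 15.1: `M_F ≠ 1` and `M'/M_F` is nilpotent. -/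
theorem fittingHallOf_facts (F : BG15.BG14Facts G) (hG : Cfsg.IsMinSimpleOddOrder G) {M : Subgroup G} (hM : IsCoatom M) :
    Cfsg.fittingHallOf M ≠ ⊥ ∧
      Group.IsNilpotent ↥((commutator ↥M).map (QuotientGroup.mk' (Cfsg.fittingHall ↥M))) := by
  by_cases hnil : Group.IsNilpotent (Cfsg.sigmaCore M)
  · have hFH := fittingHallOf_eq_sigmaCore hG hM (sigmaCore_isHall hG hM).1 hnil
    refine ⟨hFH ▸ minSimple_sigmaCore_ne_bot hG hM, ?_⟩
    obtain ⟨E, hE, -, -⟩ := exists_sigmaComplement_ge hG hM (U := ⊥) bot_le fun r hr hd => by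
      rw [Subgroup.card_bot] at hd; exact absurd (Nat.dvd_one.1 hd) hr.ne_one
    refine isNilpotent_map_commutator (D := ⁅E, E⁆) (E.commutator_le_self.trans hE.1)
      (Cfsg.Agent.S1415.result hG M hM E hE).1 ?_
    rw [hFH]
    exact commutator_le_sup_of_generation hE.1 (sigmaCore_le M) (le_normalizer_sigmaCore M) hE.2.2.2
  · obtain ⟨K, U, hKU⟩ := BG15.exists_sigmaDecomposition F hG hM
    obtain ⟨-, -, hM', -, hqp, -, Q, D, hQF, hQn, hQS, hKsQ, -, -, hQD, hDn, -⟩ :=
      sigmaCore_structure F hG hM hKU hnil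
    refine ⟨fun h => hqp.ne_one ?_,
      isNilpotent_map_commutator (hQD.2.1.trans (sigmaCore_le M)) hDn ?_⟩
    · rw [Subgroup.card_eq_one, ← le_bot_iff, ← h]
      exact hKsQ.trans hQF
    · rw [← hM']
      intro s hs
      obtain ⟨a, ha, d, hd, rfl⟩ := hQD.2.2.2 s hs
      exact mul_mem (mem_sup_right (hQF ha)) (mem_sup_left hd)

/-- In the situation of BG 15.2, `C_{M_σ}(Q) ≤ F(M)`. -/
theorem sigmaCore_inf_centralizer_le_fittingOf {M Q D : Subgroup G}
    (hMσ : Group.IsSolvable (Cfsg.sigmaCore M)) (hQn : M ≤ normalizer (Q : Set G))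
    (hQD : Cfsg.IsComplIn Q D (Cfsg.sigmaCore M)) (hQnil : Group.IsNilpotent Q)
    (hDn : Group.IsNilpotent D) (hcop : (Nat.card Q).Coprime (Nat.card D)) :
    Cfsg.sigmaCore M ⊓ centralizer (Q : Set G) ≤ Cfsg.fittingOf M := by
  set S := Cfsg.sigmaCore M with hS
  have hSM : S ≤ M := sigmaCore_le M
  set C := S ⊓ centralizer (Q : Set G) with hC
  have hCn : M ≤ normalizer (C : Set G) := fun m hm => inf_normalizer_le_normalizer_inf
    (mem_inf.2 ⟨le_normalizer_sigmaCore M hm,
      normalizer_le_normalizer_centralizer_subgroup Q (hQn hm)⟩)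
  refine le_fittingOf (inf_le_left.trans hSM) hCn ?_
  have hCsol : Group.IsSolvable C := by
    haveI := hMσ
    exact Group.isSolvable_of_isSolvable_injective
      (Subgroup.inclusion_injective (inf_le_left : C ≤ S))
  set π : Set ℕ := {r | r ∣ Nat.card Q} with hπ
  set Z := Q ⊓ C with hZ
  have hdvd : Q.relIndex S = Nat.card D := by
    refine Nat.eq_of_mul_eq_mul_left (Nat.card_pos (α := Q)) ?_
    rw [card_mul_relIndex hQD.1, compl_card hQD]
  have hZhall : Cfsg.IsPiHallOf π Z C := by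
    refine ⟨inf_le_right, fun r _ hd => hd.trans (card_dvd_of_le inf_le_left), fun r hr hrπ hd => ?_⟩
    rw [hZ, Subgroup.inf_relIndex_right] at hd
    haveI : (Q.subgroupOf S).Normal :=
      (normal_subgroupOf_iff_le_normalizer hQD.1).2 (hSM.trans hQn)
    have h := Subgroup.relIndex_dvd_index_of_normal (Q.subgroupOf S) (C.subgroupOf S)
    rw [Subgroup.relIndex_subgroupOf inf_le_left] at h
    have h' : r ∣ Q.relIndex S := hd.trans h
    exact hr.not_dvd_one (hcop ▸ Nat.dvd_gcd hrπ (hdvd ▸ h'))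
  obtain ⟨X, hX⟩ := exists_isPiHallOf {r | r.Prime ∧ ¬ r ∣ Nat.card Q} hCsol
  have hZn : C ≤ normalizer (Z : Set G) := fun c hc => inf_normalizer_le_normalizer_inf
    (mem_inf.2 ⟨hQn (hSM hc.1), le_normalizer hc⟩)
  obtain ⟨-, -, -, hgen⟩ := isComplIn_of_isPiHallOf hZn hZhall hX
    (fun r hr => ⟨fun h => h.2, fun h => ⟨hr, h⟩⟩)
  have hXD : IsPiSubgroup {r | r ∣ Nat.card D} X := fun r hr hd => by
    have h1 : r ∣ Nat.card Q * Nat.card D := by
      rw [compl_card hQD]; exact hd.trans (card_dvd_of_le (hX.1.trans inf_le_left))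
    exact (hr.dvd_mul.1 h1).resolve_left (hX.2.1 r hr hd).2
  have hDhall : Cfsg.IsPiHallOf {r | r ∣ Nat.card D} D S := by
    refine ⟨hQD.2.1, fun r _ hd => hd, fun r hr hrD hd => ?_⟩
    have h1 : Nat.card D * D.relIndex S = Nat.card D * Nat.card Q := by
      rw [card_mul_relIndex hQD.2.1, ← compl_card hQD, mul_comm]
    rw [Nat.eq_of_mul_eq_mul_left Nat.card_pos h1] at hd
    exact hr.not_dvd_one (hcop ▸ Nat.dvd_gcd hd hrD)
  obtain ⟨t, -, htX⟩ := exists_conj_le_isPiHallOf hMσ (hX.1.trans inf_le_left) hXD hDhall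
  have hXn : Group.IsNilpotent X := by
    haveI := isNilpotent_of_le htX hDn
    exact Group.nilpotent_of_mulEquiv
      (X.equivMapOfInjective (MulAut.conj t).toMonoidHom (MulAut.conj t).injective).symm
  refine isNilpotent_of_le (B := X ⊔ Z) ?_ (isNilpotent_sup_of_commute hXn
    (isNilpotent_of_le (inf_le_left : Z ≤ Q) hQnil)
    ((hX.1.trans inf_le_right).trans (centralizer_le (inf_le_left : Z ≤ Q))))
  intro c hc
  obtain ⟨a, ha, b, hb, rfl⟩ := hgen c hc
  exact mul_mem (mem_sup_left ha) (mem_sup_right hb)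

/-- BG 15: `M'' ≤ F(M)`, `F(M) = C_M(M_F) M_F`, and `F(M) ≤ M'` when `κ(M) ≠ ∅`. -/
theorem second_derived_le_fittingOf (F : BG15.BG14Facts G) (hG : Cfsg.IsMinSimpleOddOrder G) {M : Subgroup G}
    (hM : IsCoatom M) :
    ⁅⁅M, M⁆, ⁅M, M⁆⁆ ≤ Cfsg.fittingOf M ∧
      Cfsg.fittingOf M = (M ⊓ centralizer (Cfsg.fittingHallOf M : Set G)) ⊔ Cfsg.fittingHallOf M ∧
      ((Cfsg.kappa M).Nonempty → Cfsg.fittingOf M ≤ ⁅M, M⁆) := by
  obtain ⟨K, U, hKU⟩ := BG15.exists_sigmaDecomposition F hG hM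
  have hMsol := minSimple_coatom_solvable hG hM
  set S := Cfsg.sigmaCore M with hS
  have hSM : S ≤ M := sigmaCore_le M
  have hSn := le_normalizer_sigmaCore M
  have hFFH := fittingHallOf_le_fittingOf M
  refine ⟨?_, le_antisymm (fittingOf_le_centralizer_sup M) (sup_le ?_ hFFH), ?_⟩
  · by_cases hnil : Group.IsNilpotent S
    · obtain ⟨E, hE, -, -⟩ := exists_sigmaComplement_ge hG hM (U := ⊥) bot_le fun r hr hd => by
        rw [Subgroup.card_bot] at hd; exact absurd (Nat.dvd_one.1 hd) hr.ne_one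
      have h1 := commutator_le_sup_of_generation hE.1 hSM hSn hE.2.2.2
      have hE'M : ⁅E, E⁆ ≤ M := E.commutator_le_self.trans hE.1
      have hle : ⁅E, E⁆ ⊔ S ≤ M := sup_le hE'M hSM
      refine (commutator_mono h1 h1).trans ((commutator_le_sup_of_generation (A := ⁅E, E⁆) (N := S)
        le_sup_left le_sup_right (hle.trans hSn)
        fun m hm => mem_sup_decomp hE'M hSn hm).trans ?_)
      haveI := (Cfsg.Agent.S1420.result hG M hM E hE).2.1
      rw [commutator_eq_bot_iff_le_centralizer.2 ⁅E, E⁆.le_centralizer, bot_sup_eq]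
      exact le_fittingOf hSM hSn hnil
    · obtain ⟨-, -, hM', -, hqp, -, Q, D, hQF, hQn, hQS, -, hQq, -, hQD, hDn, hcop, -, hD', -⟩ :=
        sigmaCore_structure F hG hM hKU hnil
      rw [← hM']
      have hSsol : Group.IsSolvable S := minSimple_solvable hG fun h' =>
        hM.1 (top_le_iff.1 (h' ▸ hSM))
      haveI := Fact.mk hqp
      refine (commutator_le_sup_of_generation hQD.2.1 hQS (hSM.trans hQn) fun m hm => ?_).trans
        (sup_le (le_trans (le_inf (D.commutator_le_self.trans hQD.2.1) hD')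
          (sigmaCore_inf_centralizer_le_fittingOf hSsol hQn hQD hQq.isNilpotent hDn hcop))
          (hQF.trans hFFH))
      obtain ⟨a, ha, d, hd, rfl⟩ := hQD.2.2.2 m hm
      exact ⟨d, hd, d⁻¹ * a * d, by
        have := (mem_normalizer_iff.1 ((hSM.trans hQn) (inv_mem (hQD.2.1 hd))) a).1 ha
        simpa using this, by group⟩
  · set C := M ⊓ centralizer (Cfsg.fittingHallOf M : Set G) with hC
    have hCn : M ≤ normalizer (C : Set G) := fun m hm => inf_normalizer_le_normalizer_inf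
      (mem_inf.2 ⟨le_normalizer hm, normalizer_le_normalizer_centralizer_subgroup _
        (le_normalizer_fittingHallOf M hm)⟩)
    by_cases hnil : Group.IsNilpotent S
    · have hFH := fittingHallOf_eq_sigmaCore hG hM (sigmaCore_isHall hG hM).1 hnil
      obtain ⟨X, hXc, -, hX⟩ := centralizer_hall_sigmaCore F hG hM (H := S) le_rfl
        (minSimple_sigmaCore_ne_bot hG hM) (by rw [Subgroup.relIndex_self]; exact Nat.coprime_one_right _)
      refine le_fittingOf inf_le_left hCn ?_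
      rw [hC, hFH, hX]
      have hXC : X ≤ centralizer ((S ⊓ centralizer (S : Set G) : Subgroup G) : Set G) :=
        (le_sup_right.trans (hX.ge.trans inf_le_right)).trans (centralizer_le inf_le_left)
      haveI := hXc
      letI : CommGroup X := IsCyclic.commGroup
      rw [sup_comm]
      exact isNilpotent_sup_of_commute inferInstance (isNilpotent_of_le inf_le_left hnil) hXC
    · obtain ⟨hU, hK, -, hKp, hqp, -, Q, D, hQF, hQn, hQS, hKsQ, hQq, -, hQD, hDn, hcop, -, -, -,
        -, hlt, hcard, -⟩ := sigmaCore_structure F hG hM hKU hnil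
      have hSsol : Group.IsSolvable S := minSimple_solvable hG fun h' =>
        hM.1 (top_le_iff.1 (h' ▸ hSM))
      have hCS : C ≤ S := by
        refine le_sigmaCore_of_primes hG hM inf_le_left fun r hr hd => ?_
        by_contra hrs
        haveI := Fact.mk hr
        obtain ⟨x, hx⟩ := exists_prime_orderOf_dvd_card' r hd
        have hxo : orderOf (x : G) = r := by rw [Subgroup.orderOf_coe, hx]
        have hrK : r ∈ Cfsg.kappa M := by
          have h1 : r ∣ Nat.card U * (Nat.card K * Nat.card S) := by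
            rw [sigmaDecomp_card hKU]; exact hd.trans (card_dvd_of_le inf_le_left)
          rw [hU, Subgroup.card_bot, one_mul] at h1
          rcases hr.dvd_mul.1 h1 with h2 | h2
          · exact (sigmaDecomp_K_prime hKU hr h2).1
          · exact absurd (isPiSubgroup_sigmaCore M r hr h2) hrs
        obtain ⟨m, hm, hmK⟩ := exists_conj_le_isPiHallOf hMsol (zpowers_le.2 x.2.1)
          (π := Cfsg.kappa M) (isPiSubgroup_of_isPGroup (p := r)
            (IsPGroup.of_card (n := 1) (by rw [Nat.card_zpowers, hxo, pow_one])) hrK) hKU.hall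
        have hk : m * (x : G) * m⁻¹ ∈ K := hmK ⟨x, mem_zpowers _, rfl⟩
        have hk1 : m * (x : G) * m⁻¹ ≠ 1 := fun h2 => hr.ne_one (by
          rw [← hxo, orderOf_eq_one_iff]; simpa using h2)
        have hQK : Q ≤ S ⊓ centralizer (K : Set G) := by
          rw [← (F.kappaStructure M hM K hKU.hall hK).1 _ hk hk1]
          refine le_inf hQS fun y hy => mem_centralizer_iff.2 fun z hz => ?_
          rw [Set.mem_singleton_iff.1 hz]
          have hy' : y ∈ Q.map (MulAut.conj m).toMonoidHom := by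
            rw [map_conj_eq_self_iff.2 (hQn hm)]; exact hy
          exact (mem_centralizer_iff.1 (mem_centralizer_conj (g := m)
            ((centralizer_le hQF : _ ≤ centralizer (Q : Set G)) x.2.2)) y hy').symm
        have h1 := card_dvd_of_le hQK
        rw [hcard] at h1
        have h2 := Nat.le_of_dvd hqp.pos ((dvd_mul_left _ _).trans h1)
        exact absurd h2 (not_le.2 (lt_self_pow₀ hqp.one_lt hKp.one_lt))
      haveI := Fact.mk hqp
      exact (le_inf hCS (inf_le_right.trans (centralizer_le hQF))).trans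
        (sigmaCore_inf_centralizer_le_fittingOf hSsol hQn hQD hQq.isNilpotent hDn hcop)
  · rintro ⟨p, hp⟩
    have hK : K ≠ ⊥ := by
      intro h
      refine hKU.hall.2.2 p hp.1 hp ?_
      rw [h, Subgroup.relIndex_bot_left]
      exact hp.2.1
    have hM' := (BG15.commutator_eq_sup F hG hM hKU hK)
    obtain ⟨-, hY2, hY3⟩ := fittingOf_sigmaPrime_part hG hM
    rw [hY3, hM']
    refine sup_le ((fittingOf_le S).trans le_sup_right) ?_
    have hUS : U ⊔ S ≤ M := sup_le (sigmaDecomp_U_le hKU) hSM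
    have hUSn : M ≤ normalizer ((U ⊔ S : Subgroup G) : Set G) := by
      rw [← hM', ← normal_subgroupOf_iff_le_normalizer M.commutator_le_self]
      have : ⁅M, M⁆.subgroupOf M = commutator M := by
        rw [← map_subtype_commutator, subgroupOf, comap_map_eq_self_of_injective M.subtype_injective]
      rw [this]; infer_instance
    have hπ : IsPiSubgroup ({r | r ∉ Cfsg.kappa M} : Set ℕ) (U ⊔ S) :=
      isPiSubgroup_sup ((sigmaDecomp_U_le hKU).trans hSn)
        (fun r hr hd => (sigmaDecomp_U_prime hG hM hKU hr hd).2)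
        (fun r hr hd hk => hk.2.2.1 (isPiSubgroup_sigmaCore M r hr hd))
    have hrel : (U ⊔ S).relIndex M ∣ Nat.card K := by
      have hUS' : Nat.card U * Nat.card S ∣ Nat.card ↥(U ⊔ S) :=
        Nat.Coprime.mul_dvd_of_dvd_of_dvd (Nat.coprime_of_dvd fun r hr h1 h2 =>
          (sigmaDecomp_U_prime hG hM hKU hr h1).1 (isPiSubgroup_sigmaCore M r hr h2))
          (card_dvd_of_le le_sup_left) (card_dvd_of_le le_sup_right)
      refine (Nat.mul_dvd_mul_iff_left (Nat.card_pos (α := U) |> fun h => Nat.mul_pos h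
        (Nat.card_pos (α := S)))).1 ((mul_dvd_mul_right hUS' _).trans (dvd_of_eq ?_))
      rw [card_mul_relIndex hUS, ← sigmaDecomp_card hKU]; ring
    refine le_of_normal_hall hUS hUSn (Nat.coprime_of_dvd fun r hr h1 h2 =>
      hπ r hr h1 (sigmaDecomp_K_prime hKU hr (h2.trans hrel)).1)
      ((piCoreOf_le _ _).trans (fittingOf_le M)) fun r hr hd => ?_
    have h1 : r ∣ Nat.card U * (Nat.card K * Nat.card S) := by
      rw [sigmaDecomp_card hKU]
      exact hd.trans (card_dvd_of_le ((piCoreOf_le _ _).trans (fittingOf_le M)))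
    rcases hr.dvd_mul.1 h1 with h2 | h2
    · exact h2.trans (card_dvd_of_le le_sup_left)
    rcases hr.dvd_mul.1 h2 with h3 | h3
    · exact absurd (hY2 r hr hd) (not_mem_tau2_of_mem_kappa (sigmaDecomp_K_prime hKU hr h3).1)
    · exact h3.trans (card_dvd_of_le le_sup_right)

end CfsgLib.OddOrder
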