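import Cfsg.Agent.OddOrder.BG14.Planes
import Cfsg.Agent.OddOrder.BG12.Abelian
import Cfsg.Agent.OddOrder.BG15.HallTools
import Cfsg.Agent.OddOrder.BG9.RankThree
import Cfsg.Agent.OddOrder.BG11.Facts
import Cfsg.Agent.Coprime.Abelian

/-!
# BG 15.4: centralizers of Hall subgroups of `M_σ` (the cores of S1438 and S1439)

`KappaTop G` is the consequence of BG 14.2-14.3 (S1430, S1431) used here: a subgroup of order
`p ∈ κ(M)` centralizes no nontrivial Sylow subgroup of `M_σ`.
-/

set_option autoImplicit false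
set_option linter.style.haveILetI false
set_option linter.unusedSectionVars false

namespace CfsgLib.OddOrder.BG15

open Cfsg Subgroup
open CfsgLib.OddOrder
open CfsgLib.OddOrder.BG11
open CfsgLib.OddOrder.BG14
open CfsgLib.ConjFunctor (IsSylowIn exists_isSylowIn_ge)

/-- No subgroup of order `p ∈ κ(M)` centralizes a nontrivial Sylow subgroup of `M_σ`. -/
def KappaTop (G : Type*) [Group G] : Prop :=
  ∀ M : Subgroup G, IsCoatom M → ∀ (p : ℕ) [Fact p.Prime], p ∈ Cfsg.kappa M →
    ∀ X : Subgroup G, X ≤ M → Nat.card X = p → ∀ (q : ℕ) [Fact q.Prime],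
      ∀ S : Subgroup G, IsSylowIn q S (Cfsg.sigmaCore M) → S ≠ ⊥ →
        ¬ S ≤ centralizer (X : Set G)

variable {G : Type*} [Group G] [Finite G] {p : ℕ} {M H X : Subgroup G}

/-- A Hall subgroup of `N` contains a nontrivial Sylow subgroup of `N`. -/
theorem exists_sylowIn_of_hall {N : Subgroup G} (hHN : H ≤ N) (hH1 : H ≠ ⊥)
    (hHall : (Nat.card H).Coprime (H.relIndex N)) :
    ∃ q : ℕ, q.Prime ∧ ∃ S : Subgroup G, IsSylowIn q S N ∧ S ≠ ⊥ ∧ S ≤ H := by
  obtain ⟨q, hq, hd⟩ := Nat.exists_prime_and_dvd fun h => hH1 (Subgroup.card_eq_one.1 h)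
  haveI := Fact.mk hq
  obtain ⟨S, hS⟩ := exists_isSylowIn (p := q) H
  refine ⟨q, hq, S, ⟨hS.le.trans hHN, hS.isPGroup, fun h => ?_⟩, sylowIn_ne_bot hS hd, hS.le⟩
  rw [← relIndex_mul_relIndex S H N hS.le hHN] at h
  rcases hq.dvd_mul.1 h with h1 | h1
  · exact hS.not_dvd h1
  · exact hq.not_dvd_one (hHall ▸ Nat.dvd_gcd hd h1)

variable (hG : Cfsg.IsMinSimpleOddOrder G) (F : BG13Facts G) (hK : KappaTop G)
include hG F hK

/-- The primes of a `σ(M)'`-subgroup centralizing `H` lie in `τ₂(M)`. -/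
theorem tau2_of_centralizes (hM : IsCoatom M) (hH : H ≤ Cfsg.sigmaCore M) (hH1 : H ≠ ⊥)
    (hHall : (Nat.card H).Coprime (H.relIndex (Cfsg.sigmaCore M))) (hXM : X ≤ M)
    (hXH : X ≤ centralizer (H : Set G)) [Fact p.Prime] (hps : p ∉ Cfsg.sigma M)
    (hd : p ∣ Nat.card X) : p ∈ Cfsg.tau2 M := by
  obtain ⟨x, hx⟩ := exists_prime_orderOf_dvd_card' (G := X) p hd
  set Y := (zpowers x).map X.subtype
  have hY : Nat.card Y = p := by
    rw [card_map_of_injective X.subtype_injective, Nat.card_zpowers, hx]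
  have hHY : H ≤ centralizer (Y : Set G) :=
    (le_centralizer_iff.1 hXH).trans (centralizer_le (map_subtype_le _))
  have hfix : Cfsg.sigmaCore M ⊓ centralizer (Y : Set G) ≠ ⊥ := fun h =>
    hH1 (le_bot_iff.1 (h ▸ le_inf hH hHY))
  refine (kappa_or_tau2 F hG hM hps ((map_subtype_le _).trans hXM) hY hfix).resolve_left fun hκ => ?_
  obtain ⟨q, hq, S, hS, hS1, hSH⟩ := exists_sylowIn_of_hall hH hH1 hHall
  haveI := Fact.mk hq
  exact hK M hM p hκ Y ((map_subtype_le _).trans hXM) hY q S hS hS1 (hSH.trans hHY)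

/-- BG 15.4: a `σ(M)'`-subgroup of `M` centralizing a nontrivial Hall subgroup of `M_σ` is a
cyclic `τ₂(M)`-group. -/
theorem isCyclic_of_centralizes (hM : IsCoatom M) (hH : H ≤ Cfsg.sigmaCore M) (hH1 : H ≠ ⊥)
    (hHall : (Nat.card H).Coprime (H.relIndex (Cfsg.sigmaCore M))) (hXM : X ≤ M)
    (hXs : ∀ r : ℕ, r.Prime → r ∣ Nat.card X → r ∉ Cfsg.sigma M)
    (hXH : X ≤ centralizer (H : Set G)) :
    IsCyclic X ∧ ∀ r : ℕ, r.Prime → r ∣ Nat.card X → r ∈ Cfsg.tau2 M := by
  have F10 := F.bg12.bg10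
  have hτ : ∀ r : ℕ, r.Prime → r ∣ Nat.card X → r ∈ Cfsg.tau2 M := fun r hr hd => by
    haveI := Fact.mk hr
    exact tau2_of_centralizes hG F hK hM hH hH1 hHall hXM hXH (hXs r hr hd) hd
  refine ⟨?_, hτ⟩
  obtain ⟨E, hXE, hE⟩ := BG13.exists_complIn_ge F.bg12 hG hM hXM hXs
  have hdvd : ∀ (q : ℕ) [Fact q.Prime] (P : Subgroup G), P ≤ X → IsPGroup q P → P ≠ ⊥ →
      q ∣ Nat.card X := by
    intro q _ P hPX hP hP1
    obtain ⟨Y, hY, hYc⟩ := BG13.exists_card_prime_le hP hP1
    exact hYc ▸ card_dvd_of_le (hY.trans hPX)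
  -- the Sylow subgroups of `X` are cyclic
  have hcyc : ∀ (q : ℕ) [Fact q.Prime] (P : Subgroup G), P ≤ X → IsPGroup q P → IsCyclic P := by
    intro q _ P hPX hP
    by_cases hP1 : P = ⊥
    · subst hP1; infer_instance
    have hd := hdvd q P hPX hP hP1
    by_contra hnc
    obtain ⟨B, hBP, hB, hBc⟩ := exists_card_sq_of_not_pRankLE_one
      (not_pRankLE_one_of_not_isCyclic hP
        (minSimple_prime_ne_two_subgroup hG (hd.trans (card_dvd_of_le hXM))) hnc)
    refine hH1 (le_bot_iff.1 ((F.tauTwoPlane M hM q (hτ q Fact.out hd) B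
      (hBP.trans (hPX.trans hXM)) hB hBc).2.1 ▸ le_inf hH ?_))
    exact (le_centralizer_iff.1 hXH).trans (centralizer_le (hBP.trans hPX))
  -- `X` centralizes its elements of prime order
  have hline : ∀ (q : ℕ) [Fact q.Prime] (v : G), v ∈ X → orderOf v = q →
      X ≤ centralizer ({v} : Set G) := by
    intro q _ v hv hvq
    have hd : q ∣ Nat.card X := by
      rw [← hvq, ← Nat.card_zpowers]
      exact card_dvd_of_le (zpowers_le.2 hv)
    have hqt := hτ q Fact.out hd
    obtain ⟨A, hAE, hA, hAc⟩ := exists_plane_complIn F hG hM hqt hE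
    have hlines := (F.tauTwoLine M hM E hE q hqt A hAE hA hAc).1
    have hvc : Nat.card (zpowers v) = q := by rw [Nat.card_zpowers, hvq]
    have hvA : zpowers v ≤ A := hlines _ (zpowers_le.2 (hXE hv)) hvc
    have hXA : Nat.card ↥(A ⊓ X) = q := by
      refine card_eq_of_lt_of_ne_bot hAc (lt_of_le_of_ne inf_le_left fun h => ?_) fun h =>
        BG11.ne_bot_of_card_prime hvc (le_bot_iff.1 (h ▸ le_inf hvA (zpowers_le.2 hv)))
      refine hH1 (le_bot_iff.1 ((F.tauTwoPlane M hM q hqt A (hAE.trans hE.1) hA hAc).2.1 ▸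
        le_inf hH ?_))
      exact (le_centralizer_iff.1 hXH).trans
        (centralizer_le (show (A : Set G) ⊆ X from (inf_eq_left.1 h : A ≤ X)))
    obtain ⟨A₀, hexc⟩ := BG12.exists_exceptional_of_tau2 hG F10 hM hqt (hAE.trans hE.1) hA hAc
    refine BG4.le_of_sylow_le fun s hs => ?_
    haveI := Fact.mk hs
    refine ⟨default, ?_⟩
    set P := ((default : Sylow s X) : Subgroup X).map X.subtype
    have hP : IsSylowIn s P X := isSylowIn_map_subtype _
    by_cases hP1 : P = ⊥
    · rw [hP1]; exact bot_le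
    have hst := hτ s hs (hdvd s P hP.le hP.isPGroup hP1)
    obtain ⟨R, hPR, hR⟩ := exists_isSylowIn_ge (hP.le.trans hXE) hP.isPGroup
    by_cases hsq : s = q
    · subst hsq
      obtain ⟨Y, hYP, hY⟩ := BG13.exists_card_prime_le hP.isPGroup hP1
      have hYA : Y ≤ A ⊓ X :=
        le_inf (hlines Y (hYP.trans (hP.le.trans hXE)) hY) (hYP.trans hP.le)
      have h1 : Y = A ⊓ X := eq_of_le_of_card_ge hYA (by rw [hXA, hY])
      have hvP : v ∈ P := hYP (h1 ▸ ⟨hvA (mem_zpowers v), hv⟩)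
      haveI := hcyc s P hP.le hP.isPGroup
      intro a ha
      refine mem_centralizer_singleton_iff.2 ?_
      exact setLike_mul_comm (s := P) ha hvP
    · refine hPR.trans ((BG12.sylow_le_centralizer_plane hG F10 hexc hE hAE hsq hst hR).trans ?_)
      exact centralizer_le (Set.singleton_subset_iff.2 (hvA (mem_zpowers v)))
  -- `X` centralizes `F(X)`
  have hFX : X ≤ centralizer (Cfsg.fittingOf X : Set G) := by
    refine le_centralizer_iff.1 (BG4.le_of_sylow_le fun q hq => ?_)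
    haveI := Fact.mk hq
    obtain ⟨Q⟩ : Nonempty (Sylow q ↥(Cfsg.fittingOf X)) := inferInstance
    refine ⟨Q, le_centralizer_iff.1 ?_⟩
    haveI := isNilpotent_fittingOf X
    haveI : (Q : Subgroup ↥(Cfsg.fittingOf X)).Normal := inferInstance
    haveI : (Q : Subgroup ↥(Cfsg.fittingOf X)).Characteristic :=
      Q.characteristic_of_normal inferInstance
    set V := (Q : Subgroup ↥(Cfsg.fittingOf X)).map (Cfsg.fittingOf X).subtype
    have hXV : X ≤ normalizer (V : Set G) :=
      (le_normalizer_fittingOf X).trans (BG13.normalizer_le_normalizer_map_char _ _)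
    have hVX : V ≤ X := (map_subtype_le _).trans (fittingOf_le X)
    have hVq : IsPGroup q V := Q.2.map _
    haveI := hcyc q V hVX hVq
    refine BG4.le_of_sylow_le fun s hs => ?_
    haveI := Fact.mk hs
    refine ⟨default, ?_⟩
    set P := ((default : Sylow s X) : Subgroup X).map X.subtype
    have hP : IsSylowIn s P X := isSylowIn_map_subtype _
    by_cases hsq : s = q
    · subst hsq
      have hVP : V ≤ P := le_sup_right.trans (le_of_isPGroup_of_le_sylowIn hP
        (hP.isPGroup.to_sup_of_normal_right' hVq (hP.le.trans hXV)) le_sup_left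
        (sup_le hP.le hVX))
      haveI := hcyc s P hP.le hP.isPGroup
      intro a ha
      refine mem_centralizer_iff.2 fun b hb => ?_
      exact setLike_mul_comm (s := P) (hVP hb) ha
    · refine Coprime.le_centralizer_of_forall_prime_order (hP.le.trans hXV) ?_ fun v hv hvp => ?_
      · exact BG13.coprime_of_isPGroup_ne Fact.out hs hsq hP.isPGroup hVq
      · haveI := Fact.mk hvp
        refine mem_centralizer_iff.2 fun a ha => ?_
        exact mem_centralizer_singleton_iff.1 (hline _ v (hVX hv) rfl (hP.le ha))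
  -- so `X` is nilpotent, hence abelian with cyclic Sylow subgroups
  haveI : Group.IsSolvable X :=
    minSimple_solvable hG fun h => hM.1 (top_le_iff.1 (h ▸ hXM))
  have htop : (⊤ : Subgroup X) ≤ Cfsg.fittingSubgroup X := by
    refine le_trans (fun a _ => ?_) (Solvable.centralizer_fittingSubgroup_le (G := X))
    refine mem_centralizer_iff.2 fun b hb => Subtype.ext ?_
    exact mem_centralizer_iff.1 (hFX a.2) b ⟨b, hb, rfl⟩
  have hn : Group.IsNilpotent X := by
    have h2 : Group.IsNilpotent ↥(Cfsg.fittingSubgroup X) := Solvable.fittingSubgroup_isNilpotent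
    rw [top_le_iff.1 htop] at h2
    exact Group.nilpotent_of_mulEquiv Subgroup.topEquiv
  haveI := hn
  haveI : IsZGroup X := (isZGroup_iff X).2 fun r hr P => by
    haveI := Fact.mk hr
    exact ((P : Subgroup X).equivMapOfInjective _ X.subtype_injective).isCyclic.2
      (hcyc r _ (map_subtype_le _) (P.2.map _))
  infer_instance

/-- BG 15.4(a) (S1438). -/
theorem centralizer_hall_eq (hM : IsCoatom M) (hH : H ≤ Cfsg.sigmaCore M) (hH1 : H ≠ ⊥)
    (hHall : (Nat.card H).Coprime (H.relIndex (Cfsg.sigmaCore M))) :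
    ∃ X : Subgroup G, IsCyclic X ∧ (∀ r : ℕ, r.Prime → r ∣ Nat.card X → r ∈ Cfsg.tau2 M) ∧
      M ⊓ centralizer (H : Set G) = (Cfsg.sigmaCore M ⊓ centralizer (H : Set G)) ⊔ X := by
  set C := M ⊓ centralizer (H : Set G)
  set D := Cfsg.sigmaCore M ⊓ centralizer (H : Set G)
  have hCsol : Group.IsSolvable C :=
    minSimple_solvable hG fun h => hM.1 (top_le_iff.1 (h ▸ (inf_le_left : C ≤ M)))
  obtain ⟨X, hX⟩ := exists_isPiHallOf {r | r.Prime ∧ r ∉ Cfsg.sigma M} hCsol
  have hDC : D ≤ C := le_inf (inf_le_left.trans (sigmaCore_le M)) inf_le_right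
  have hCn : C ≤ normalizer (D : Set G) :=
    (le_inf (inf_le_left.trans (le_normalizer_sigmaCore M))
      (inf_le_right.trans le_normalizer)).trans inf_normalizer_le_normalizer_inf
  have hDhall : Cfsg.IsPiHallOf (Cfsg.sigma M) D C := by
    refine ⟨hDC, isPiSubgroup_mono inf_le_left (isPiSubgroup_sigmaCore M),
      fun r hr hrs hd => ?_⟩
    haveI := Fact.mk hr
    obtain ⟨S, hS⟩ := exists_isSylowIn (p := r) C
    have hSD : S ≤ D := le_inf
      (pGroup_le_sigmaCore F.bg12.bg10 hM hrs (hS.le.trans inf_le_left) hS.isPGroup)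
      (hS.le.trans inf_le_right)
    exact hS.not_dvd (hd.trans (relIndex_dvd_of_le_left C hSD))
  have hc := isComplIn_of_isPiHallOf hCn hDhall hX fun r hr => ⟨fun h => h.2, fun h => ⟨hr, h⟩⟩
  obtain ⟨h1, h2⟩ := isCyclic_of_centralizes hG F hK hM hH hH1 hHall (hX.1.trans inf_le_left)
    (fun r hr hd => (hX.2.1 r hr hd).2) (hX.1.trans inf_le_right)
  refine ⟨X, h1, h2, le_antisymm (fun m hm => ?_) (sup_le hDC hX.1)⟩
  obtain ⟨a, ha, b, hb, rfl⟩ := hc.2.2.2 m hm
  exact mul_mem (mem_sup_right ha) (mem_sup_left hb)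

/-- BG 15.5 (S1439): the `σ(M)'`-part of `F(M)` is a cyclic `τ₂(M)`-group. -/
theorem fitting_sigma_prime_part (hM : IsCoatom M) :
    IsCyclic ↥(Cfsg.piCoreOf {q | q.Prime ∧ q ∉ Cfsg.sigma M} (Cfsg.fittingOf M)) ∧
      ∀ r : ℕ, r.Prime →
        r ∣ Nat.card ↥(Cfsg.piCoreOf {q | q.Prime ∧ q ∉ Cfsg.sigma M} (Cfsg.fittingOf M)) →
          r ∈ Cfsg.tau2 M := by
  set Y := Cfsg.piCoreOf {q | q.Prime ∧ q ∉ Cfsg.sigma M} (Cfsg.fittingOf M)
  have hYM : Y ≤ M := (piCoreOf_le _ _).trans (fittingOf_le M)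
  have hMY : M ≤ normalizer (Y : Set G) :=
    (le_normalizer_fittingOf M).trans (normalizer_le_normalizer_piCoreOf _ _)
  have hYs : ∀ r : ℕ, r.Prime → r ∣ Nat.card Y → r ∉ Cfsg.sigma M := fun r hr hd =>
    (isPiSubgroup_piCoreOf _ _ r hr hd).2
  refine isCyclic_of_centralizes hG F hK hM le_rfl (sigmaCore_ne_bot F.bg12.bg10 hG hM)
    (by rw [relIndex_self]; exact Nat.coprime_one_right _) hYM hYs ?_
  refine BG14.le_centralizer_of_normalize (hYM.trans (le_normalizer_sigmaCore M))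
    ((sigmaCore_le M).trans hMY) ?_
  exact inf_eq_bot_of_isPiSubgroup (isPiSubgroup_piCoreOf _ _) (isPiSubgroup_sigmaCore M)
    (Set.disjoint_left.2 fun r hr hr' => hr.2 hr')

end CfsgLib.OddOrder.BG15
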