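import Cfsg.Agent.OddOrder.BG14.Signalizer
import Cfsg.Agent.OddOrder.BG15.HallTools
import Cfsg.Agent.Solvable.Hall

/-!
# BG 15.4(b): fusion in Hall subgroups of `M_σ` (the core of S1438)

`NilpotentCompl G` is the consequence of BG 15.2 (S1437) used here: either `M_σ` is nilpotent, or
it has a Sylow subgroup normal in `M` with a nilpotent complement.
-/

set_option autoImplicit false
set_option linter.style.haveILetI false
set_option linter.unusedSectionVars false

namespace CfsgLib.OddOrder.BG15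

open Cfsg Subgroup
open CfsgLib.OddOrder
open CfsgLib.OddOrder.BG11
open CfsgLib.ConjFunctor (IsSylowIn exists_isSylowIn_ge)

/-- `M_σ` is nilpotent or has a Sylow subgroup normal in `M` with a nilpotent complement. -/
def NilpotentCompl (G : Type*) [Group G] : Prop :=
  ∀ M : Subgroup G, IsCoatom M → Group.IsNilpotent (Cfsg.sigmaCore M) ∨
    ∃ (q : ℕ) (Q D : Subgroup G), q.Prime ∧ IsSylowIn q Q (Cfsg.sigmaCore M) ∧
      M ≤ normalizer (Q : Set G) ∧ Cfsg.IsComplIn Q D (Cfsg.sigmaCore M) ∧ Group.IsNilpotent D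

variable {G : Type*} [Group G] [Finite G] {M H : Subgroup G}

/-- Two elements of `M_σ` conjugate in `G` are conjugate in `M`. -/
theorem exists_mem_conj_eq (F : BG14.BG13Facts G) (hG : Cfsg.IsMinSimpleOddOrder G)
    (hM : IsCoatom M) {x g : G} (hx : x ∈ Cfsg.sigmaCore M) (hy : g * x * g⁻¹ ∈ M) :
    ∃ m ∈ M, m * x * m⁻¹ = g * x * g⁻¹ := by
  by_cases hx1 : x = 1
  · exact ⟨1, one_mem M, by simp [hx1]⟩
  obtain ⟨-, R, -, hR, huniq⟩ := BG14.signalizer F hG hM hx hx1
  have hmem : x ∈ M.map (MulAut.conj g⁻¹).toMonoidHom := by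
    rw [mem_map_conj_iff, inv_inv]; exact hy
  obtain ⟨r, ⟨hrR, hr⟩, -⟩ := huniq g⁻¹ hmem
  have hrx : r * x = x * r := mem_centralizer_singleton_iff.1 (hR.2.1 hrR)
  have hgr : g * r ∈ M := by
    rw [← minSimple_normalizer_coatom hG hM, ← map_conj_eq_self_iff,
      ← map_conj_map_conj (g := g), hr, map_conj_map_conj, mul_inv_cancel, map_conj_one]
  refine ⟨g * r, hgr, ?_⟩
  calc g * r * x * (g * r)⁻¹ = g * (r * x) * r⁻¹ * g⁻¹ := by group
    _ = g * (x * r) * r⁻¹ * g⁻¹ := by rw [hrx]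
    _ = g * x * g⁻¹ := by group

/-- BG 15.4(b) (S1438). -/
theorem hall_fusion_sigmaCore (F : BG14.BG13Facts G) (hG : Cfsg.IsMinSimpleOddOrder G)
    (hN : NilpotentCompl G) (hM : IsCoatom M) (hH : H ≤ Cfsg.sigmaCore M)
    (hHall : (Nat.card H).Coprime (H.relIndex (Cfsg.sigmaCore M))) {x g : G} (hx : x ∈ H)
    (hy : g * x * g⁻¹ ∈ H) :
    ∃ n ∈ M ⊓ normalizer (H : Set G), n * x * n⁻¹ = g * x * g⁻¹ := by
  have hσM := sigmaCore_le M
  obtain ⟨m, hm, hmx⟩ := exists_mem_conj_eq F hG hM (hH hx) (hσM (hH hy))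
  rw [← hmx] at hy ⊢
  set ρ : Set ℕ := {r | r ∣ Nat.card H}
  have hHρ : Cfsg.IsPiHallOf ρ H (Cfsg.sigmaCore M) := ⟨hH, fun r _ hd => hd,
    fun r hr hrρ hd => hr.not_dvd_one (hHall ▸ Nat.dvd_gcd hrρ hd)⟩
  rcases hN M hM with hnil | ⟨q, Q, D, hq, hQ, hMQ, hD, hDn⟩
  · have h1 : H ≤ Cfsg.piCoreOf ρ (Cfsg.sigmaCore M) :=
      nilpotent_le_piCoreOf hnil hH fun r _ hd => hd
    have heq : H = Cfsg.piCoreOf ρ (Cfsg.sigmaCore M) := le_antisymm h1
      (le_of_isPiHallOf_le hHρ h1 (piCoreOf_le _ _) (isPiSubgroup_piCoreOf _ _))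
    refine ⟨m, ⟨hm, ?_⟩, rfl⟩
    rw [heq]
    exact normalizer_le_normalizer_piCoreOf _ _ (le_normalizer_sigmaCore M hm)
  · haveI := Fact.mk hq
    haveI := minSimple_coatom_solvable hG hM
    set L := (Cfsg.sigmaCore M).subgroupOf M
    haveI : L.Normal := (normal_subgroupOf_iff_le_normalizer hσM).2 (le_normalizer_sigmaCore M)
    have hHM : H ≤ M := hH.trans hσM
    have hHL : Cfsg.IsPiHall ρ ((H.subgroupOf M).subgroupOf L) := by
      refine ⟨fun r hr hd => ?_, fun r hr hrρ hd => hHρ.2.2 r hr hrρ ?_⟩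
      · rwa [Nat.card_congr (subgroupOfEquivOfLe (show H.subgroupOf M ≤ L from comap_mono hH)).toEquiv,
          Nat.card_congr (subgroupOfEquivOfLe hHM).toEquiv] at hd
      · rw [← inf_eq_left.2 hHM, ← inf_eq_left.2 hσM, ← subgroupOf_map_subtype,
          ← subgroupOf_map_subtype, relIndex_map_map_of_injective _ _ M.subtype_injective]
        exact hd
    have htop := Solvable.frattini_argument_hall (L := L) (H := H.subgroupOf M)
      inferInstance (comap_mono hH) hHL
    obtain ⟨n, hn, s, hs, hns⟩ := mem_sup_of_normal_right.1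
      ((sup_comm L _ ▸ htop) ▸ mem_top (⟨m, hm⟩ : M))
    have hnN : (n : G) ∈ normalizer (H : Set G) := by
      have h1 := le_normalizer_map M.subtype (mem_map_of_mem M.subtype hn)
      rwa [subgroupOf_map_subtype, inf_eq_left.2 hHM] at h1
    have hmns : m = n * s := (congrArg Subtype.val hns).symm
    have hsx : (s : G) * x * (s : G)⁻¹ ∈ H := by
      have h1 : (n : G) * ((s : G) * x * (s : G)⁻¹) * (n : G)⁻¹ ∈ H := by
        rw [hmns] at hy
        convert hy using 1
        group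
      exact (mem_normalizer_iff.1 hnN _).2 h1
    have hcop : (Nat.card Q).Coprime (Nat.card D) := by
      obtain ⟨k, hk⟩ := IsPGroup.iff_card.1 hQ.isPGroup
      rw [hk]
      refine Nat.Coprime.pow_left k (hq.coprime_iff_not_dvd.2 fun hd => hQ.not_dvd ?_)
      have h1 : Nat.card Q * Q.relIndex (Cfsg.sigmaCore M) = Nat.card Q * Nat.card D := by
        rw [PLocal.card_mul_relIndex hD.1, compl_card hD]
      rwa [Nat.eq_of_mul_eq_mul_left Nat.card_pos h1]
    have hQH : Q ≤ H ∨ (Nat.card Q).Coprime (Nat.card H) := by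
      by_cases hd : q ∣ Nat.card H
      · left
        obtain ⟨S, hS⟩ := exists_isSylowIn (p := q) H
        have hSs : IsSylowIn q S (Cfsg.sigmaCore M) := by
          refine ⟨hS.le.trans hH, hS.isPGroup, fun h => ?_⟩
          rw [← relIndex_mul_relIndex S H _ hS.le hH] at h
          rcases hq.dvd_mul.1 h with h1 | h1
          · exact hS.not_dvd h1
          · exact hHρ.2.2 q hq hd h1
        have hn := hσM.trans hMQ
        have hSQ : S ≤ Q := le_sup_right.trans (le_of_isPGroup_of_le_sylowIn hQ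
          (hQ.isPGroup.to_sup_of_normal_left' hS.isPGroup (hSs.le.trans hn)) le_sup_left
          (sup_le hQ.le hSs.le))
        exact (hSs.eq_of_le hSQ hQ.le hQ.isPGroup).le.trans hS.le
      · right
        obtain ⟨k, hk⟩ := IsPGroup.iff_card.1 hQ.isPGroup
        rw [hk]
        exact Nat.Coprime.pow_left k (hq.coprime_iff_not_dvd.2 hd)
    obtain ⟨n', hn', he⟩ := hall_fusion
      (minSimple_solvable hG fun h => hM.1 (top_le_iff.1 (h ▸ hσM))) (hσM.trans hMQ) hD hDn hcop
      hH hHall hQH hx (s := (s : G)) hs hsx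
    refine ⟨n * n', ⟨mul_mem n.2 (hσM hn'.1), mul_mem hnN hn'.2⟩, ?_⟩
    calc (n : G) * n' * x * ((n : G) * n')⁻¹ = n * (n' * x * n'⁻¹) * (n : G)⁻¹ := by group
      _ = m * x * m⁻¹ := by rw [he, hmns]; group

end CfsgLib.OddOrder.BG15
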