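import Cfsg.Agent.OddOrder.BG14.Assemble
import Cfsg.Agent.OddOrder.BG15.HallCentralizer
import Cfsg.Agent.OddOrder.BG15.HallFusion

/-!
# BG 15.4-15.5 (S1438, S1439) from BG 14.2-14.3 and BG 15.2

The hypotheses are written in the forms of S1430 (first part), S1431 (third part) and S1437.
-/

set_option autoImplicit false
set_option linter.style.haveILetI false
set_option linter.unusedSectionVars false

namespace CfsgLib.OddOrder.BG15

open Cfsg Subgroup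
open CfsgLib.OddOrder
open CfsgLib.ConjFunctor (IsSylowIn)

variable {G : Type*} [Group G] [Finite G]

/-- `KappaTop G` follows from BG 14.2 and BG 14.3. -/
theorem kappaTop_of (hG : Cfsg.IsMinSimpleOddOrder G)
    (hfix : ∀ (M : Subgroup G), IsCoatom M → ∀ K : Subgroup G,
      Cfsg.IsPiHallOf (Cfsg.kappa M) K M → K ≠ ⊥ → ∀ k ∈ K, k ≠ 1 →
        Cfsg.sigmaCore M ⊓ centralizer ({k} : Set G) =
          Cfsg.sigmaCore M ⊓ centralizer (K : Set G))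
    (hsyl : ∀ (M : Subgroup G), IsCoatom M → ∀ K : Subgroup G,
      Cfsg.IsPiHallOf (Cfsg.kappa M) K M → K ≠ ⊥ → ∀ (p : ℕ), p.Prime →
        p ∣ Nat.card ↥(Cfsg.sigmaCore M ⊓ centralizer (K : Set G)) →
          ∀ S : Sylow p ↥(Cfsg.sigmaCore M),
            ¬ (S : Subgroup ↥(Cfsg.sigmaCore M)).map (Cfsg.sigmaCore M).subtype ≤
              Cfsg.sigmaCore M ⊓ centralizer (K : Set G)) :
    KappaTop G := by
  intro M hM p _ hp X hXM hX q _ S hS hS1 hSX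
  have hXp : IsPiSubgroup (Cfsg.kappa M) X := fun r hr hd => by
    rw [hX] at hd
    exact ((Nat.prime_dvd_prime_iff_eq hr Fact.out).1 hd) ▸ hp
  obtain ⟨K, hK, hXK⟩ := exists_isPiHallOf_ge (minSimple_coatom_solvable hG hM) hXM hXp
  obtain ⟨x, hx⟩ := exists_prime_orderOf_dvd_card' (G := X) p (hX ▸ dvd_rfl)
  have hx1 : (x : G) ≠ 1 := fun h => (Fact.out : p.Prime).ne_one <| by
    rw [← hx, ← Subgroup.orderOf_coe, h, orderOf_one]
  have hK1 : K ≠ ⊥ := fun h => hx1 (mem_bot.1 (h ▸ hXK x.2))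
  have hSK : S ≤ Cfsg.sigmaCore M ⊓ centralizer (K : Set G) := by
    rw [← hfix M hM K hK hK1 x (hXK x.2) hx1]
    exact le_inf hS.le (hSX.trans (centralizer_le (Set.singleton_subset_iff.2 x.2)))
  obtain ⟨P, hP⟩ := BG14.exists_sylow_map_subtype hS
  refine hsyl M hM K hK hK1 q Fact.out ?_ P (hP.le.trans hSK)
  obtain ⟨n, hn⟩ := IsPGroup.iff_card.1 hS.isPGroup
  rcases Nat.eq_zero_or_pos n with h0 | h0
  · exact absurd (Subgroup.card_eq_one.1 (by rw [hn, h0, pow_zero])) hS1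
  · exact ((dvd_pow_self q h0.ne').trans (hn ▸ dvd_rfl)).trans (card_dvd_of_le hSK)

/-- `NilpotentCompl G` follows from BG 15.2 and the existence of the standard factorisation. -/
theorem nilpotentCompl_of (hG : Cfsg.IsMinSimpleOddOrder G)
    (hdec : ∀ M : Subgroup G, IsCoatom M → ∃ K U, Cfsg.IsSigmaDecomposition M K U)
    (hstr : ∀ (M : Subgroup G), IsCoatom M → ∀ K U : Subgroup G,
      Cfsg.IsSigmaDecomposition M K U → Cfsg.fittingHallOf M ≠ Cfsg.sigmaCore M →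
        (Nat.card ↥(Cfsg.sigmaCore M ⊓ centralizer (K : Set G))).Prime ∧
        ∃ Q : Subgroup G, Q ≤ Cfsg.fittingHallOf M ∧ M ≤ normalizer (Q : Set G) ∧
          IsPGroup (Nat.card ↥(Cfsg.sigmaCore M ⊓ centralizer (K : Set G))) Q ∧
          ¬ Nat.card ↥(Cfsg.sigmaCore M ⊓ centralizer (K : Set G)) ∣ Q.relIndex (Cfsg.sigmaCore M) ∧
          ∀ D : Subgroup G, Cfsg.IsComplIn Q D (Cfsg.sigmaCore M) → Group.IsNilpotent D) :
    NilpotentCompl G := by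
  intro M hM
  by_cases hne : Cfsg.fittingHallOf M = Cfsg.sigmaCore M
  · exact Or.inl (hne ▸ isNilpotent_fittingHallOf M)
  obtain ⟨K, U, hKU⟩ := hdec M hM
  obtain ⟨hq, Q, hQF, hMQ, hQq, hQd, hD⟩ := hstr M hM K U hKU hne
  set q := Nat.card ↥(Cfsg.sigmaCore M ⊓ centralizer (K : Set G))
  haveI := Fact.mk hq
  have hQσ : Q ≤ Cfsg.sigmaCore M := hQF.trans (fittingHallOf_le_sigmaCore hG hM)
  set L := Cfsg.sigmaCore M
  haveI : (Q.subgroupOf L).Normal :=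
    (normal_subgroupOf_iff_le_normalizer hQσ).2 ((sigmaCore_le M).trans hMQ)
  have hcop : (Nat.card (Q.subgroupOf L)).Coprime (Q.subgroupOf L).index := by
    rw [Nat.card_congr (subgroupOfEquivOfLe hQσ).toEquiv]
    obtain ⟨k, hk⟩ := IsPGroup.iff_card.1 hQq
    rw [hk]
    exact Nat.Coprime.pow_left k (hq.coprime_iff_not_dvd.2 hQd)
  obtain ⟨E, hE⟩ := Subgroup.exists_right_complement'_of_coprime hcop
  refine Or.inr ⟨q, Q, E.map L.subtype, hq, ⟨hQσ, hQq, hQd⟩, hMQ, ?_, hD _ ?_⟩ <;>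
  · refine ⟨hQσ, map_subtype_le _, ?_, fun m hm => ?_⟩
    · rw [← map_subgroupOf_eq_of_le hQσ, ← map_inf _ _ _ L.subtype_injective, hE.disjoint.eq_bot,
        Subgroup.map_bot]
    · obtain ⟨⟨a, b⟩, hab⟩ := hE.2 (⟨m, hm⟩ : L)
      exact ⟨a.1, a.2, b.1, mem_map_of_mem _ b.2, (congrArg Subtype.val hab).symm⟩

/-- BG 15.4 (S1438). -/
theorem hall_subgroup_sigmaCore (hG : Cfsg.IsMinSimpleOddOrder G) (hK : KappaTop G)
    (hN : NilpotentCompl G) {M H : Subgroup G} (hM : IsCoatom M) (hH : H ≤ Cfsg.sigmaCore M)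
    (hH1 : H ≠ ⊥) (hHall : (Nat.card H).Coprime (H.relIndex (Cfsg.sigmaCore M))) :
    (∃ X : Subgroup G, IsCyclic X ∧ (∀ p : ℕ, p.Prime → p ∣ Nat.card X → p ∈ Cfsg.tau2 M) ∧
        M ⊓ centralizer (H : Set G) = (Cfsg.sigmaCore M ⊓ centralizer (H : Set G)) ⊔ X) ∧
      ∀ x ∈ H, ∀ g : G, g * x * g⁻¹ ∈ H →
        ∃ n ∈ M ⊓ normalizer (H : Set G), n * x * n⁻¹ = g * x * g⁻¹ :=
  ⟨centralizer_hall_eq hG (BG14.bg13Facts hG) hK hM hH hH1 hHall,
    fun _ hx _ hy => hall_fusion_sigmaCore (BG14.bg13Facts hG) hG hN hM hH hHall hx hy⟩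

/-- BG 15.5 (S1439). -/
theorem fitting_sigma_prime (hG : Cfsg.IsMinSimpleOddOrder G) (hK : KappaTop G) {M : Subgroup G}
    (hM : IsCoatom M) :
    IsCyclic ↥(Cfsg.piCoreOf {q | q.Prime ∧ q ∉ Cfsg.sigma M} (Cfsg.fittingOf M)) ∧
      (∀ p : ℕ, p.Prime →
        p ∣ Nat.card ↥(Cfsg.piCoreOf {q | q.Prime ∧ q ∉ Cfsg.sigma M} (Cfsg.fittingOf M)) →
          p ∈ Cfsg.tau2 M) ∧
      Cfsg.fittingOf M = Cfsg.fittingOf (Cfsg.sigmaCore M) ⊔
        Cfsg.piCoreOf {q | q.Prime ∧ q ∉ Cfsg.sigma M} (Cfsg.fittingOf M) :=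
  let h := fitting_sigma_prime_part hG (BG14.bg13Facts hG) hK hM
  ⟨h.1, h.2, fittingOf_eq_sup_piCoreOf M⟩

end CfsgLib.OddOrder.BG15
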