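import Cfsg.Agent.OddOrder.BG15.Basic
import Cfsg.Agent.OddOrder.BG15.HallTools
import Cfsg.Agent.OddOrder.BG15.Kappa
import Cfsg.Agent.S1408
import Cfsg.Agent.S1409
import Cfsg.Agent.S1414
import Cfsg.Agent.S1417
import Cfsg.Agent.S1418
import Cfsg.Agent.S1420

/-!
# BG 15: `τ₂`-subgroups are abelian; `O_σ'(F(M))`; centralizers of Hall subgroups of `M_σ`
-/

set_option autoImplicit false
set_option linter.style.haveILetI false

namespace CfsgLib.OddOrder

open Cfsg Subgroup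
open scoped Pointwise

variable {G : Type*} [Group G] [Finite G]

/-- `M` has a complement to `M_σ` containing any given `σ(M)'`-subgroup. -/
theorem exists_sigmaComplement_ge (hG : Cfsg.IsMinSimpleOddOrder G) {M U : Subgroup G}
    (hM : IsCoatom M) (hUM : U ≤ M)
    (hU : ∀ r : ℕ, r.Prime → r ∣ Nat.card U → r ∉ Cfsg.sigma M) :
    ∃ E : Subgroup G, Cfsg.IsComplIn E (Cfsg.sigmaCore M) M ∧
      Cfsg.IsPiHallOf {r | r.Prime ∧ r ∉ Cfsg.sigma M} E M ∧ U ≤ E := by
  obtain ⟨E, hE, hUE⟩ := exists_isPiHallOf_ge (π := {r | r.Prime ∧ r ∉ Cfsg.sigma M})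
    (minSimple_coatom_solvable hG hM) hUM fun r hr hd => ⟨hr, hU r hr hd⟩
  exact ⟨E, isComplIn_of_isPiHallOf (le_normalizer_sigmaCore M) (sigmaCore_isHall hG hM).1 hE
    (fun r hr => ⟨fun h => h.2, fun h => ⟨hr, h⟩⟩), hE, hUE⟩

/-- A `σ(M)`-subgroup of `M` lies in `M_σ`. -/
theorem le_sigmaCore_of_primes (hG : Cfsg.IsMinSimpleOddOrder G) {M X : Subgroup G}
    (hM : IsCoatom M) (hXM : X ≤ M)
    (hX : ∀ r : ℕ, r.Prime → r ∣ Nat.card X → r ∈ Cfsg.sigma M) : X ≤ Cfsg.sigmaCore M := by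
  have h := (sigmaCore_isHall hG hM).1
  refine le_of_normal_hall h.1 (le_normalizer_sigmaCore M) (coprime_relIndex_of_isPiHallOf h) hXM
    fun r hr hd => ?_
  have h1 : r ∣ Nat.card (Cfsg.sigmaCore M) * (Cfsg.sigmaCore M).relIndex M := by
    rw [card_mul_relIndex h.1]; exact hd.trans (card_dvd_of_le hXM)
  exact (hr.dvd_mul.1 h1).resolve_right (h.2.2 r hr (hX r hr hd))

/-- BG 12.10 (a): every `τ₂(M)`-subgroup of `M` is abelian. -/
theorem isMulCommutative_of_tau2_subgroup (hG : Cfsg.IsMinSimpleOddOrder G) {M X : Subgroup G}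
    (hM : IsCoatom M) (hXM : X ≤ M)
    (hX : ∀ r : ℕ, r.Prime → r ∣ Nat.card X → r ∈ Cfsg.tau2 M) : IsMulCommutative X := by
  obtain ⟨E, hE, hEh, hXE⟩ := exists_sigmaComplement_ge hG hM hXM fun r hr hd => (hX r hr hd).2.1
  refine (Cfsg.Agent.S1420.result hG M hM E hE).1 X hXM ?_ fun r hr hd => (hX r hr hd).2.1
  rcases eq_or_ne X ⊥ with rfl | hX1
  · infer_instance
  -- every prime of `X` has its `E_{p²}` in `E`, normal there
  have hplane : ∀ r : ℕ, r.Prime → r ∣ Nat.card X → ∃ A : Subgroup G, A ≤ E ∧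
      Cfsg.IsElementaryAbelian r A ∧ Nat.card A = r ^ 2 ∧ E ≤ normalizer (A : Set G) := by
    intro r hr hd
    haveI := Fact.mk hr
    obtain ⟨A, hAM, hAe, hAc⟩ := exists_elementary_card_sq (H := M) (hX r hr hd).2.2.2
    obtain ⟨m, hm, hmA⟩ := exists_conj_le_isPiHallOf (minSimple_coatom_solvable hG hM) hAM
      (isPiSubgroup_of_isPGroup (π := {s | s.Prime ∧ s ∉ Cfsg.sigma M})
        (isPGroup_of_isElementaryAbelian hAe) ⟨hr, (hX r hr hd).2.1⟩) hEh
    have hAe' : Cfsg.IsElementaryAbelian r (A.map (MulAut.conj m).toMonoidHom) :=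
      isElementaryAbelian_map _ hAe
    have hAc' : Nat.card (A.map (MulAut.conj m).toMonoidHom) = r ^ 2 := by
      rw [card_map_conj]; exact hAc
    exact ⟨_, hmA, hAe', hAc',
      (Cfsg.Agent.S1418.result hG M hM E hE r (hX r hr hd) _ ⟨hmA, hAe', hAc'⟩).1.1⟩
  obtain ⟨p, hp, hpd⟩ := Nat.exists_prime_and_dvd ((one_lt_card_iff_ne_bot X).2 hX1).ne'
  haveI := Fact.mk hp
  obtain ⟨A, hAE, hAe, hAc, hEA⟩ := hplane p hp hpd
  have hA1 : A ≠ ⊥ := fun h => by
    rw [h, Subgroup.card_bot] at hAc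
    exact (Nat.one_lt_pow two_ne_zero hp.one_lt).ne hAc
  have hAtop : A ≠ ⊤ := fun h => hM.1 (top_le_iff.1 (h ▸ hAE.trans hE.1))
  obtain ⟨L, hL, hNL⟩ := minSimple_exists_coatom hG (minSimple_normalizer_ne_top hG hA1 hAtop)
  have hEL : E ≤ L := hEA.trans hNL
  have hAL : A ≤ L := le_normalizer.trans hNL
  -- `p ∈ σ(L)`
  have hpL : p ∈ Cfsg.sigma L := by
    by_contra hps
    obtain ⟨E', hE', -, hAE'⟩ := exists_sigmaComplement_ge hG hL hAL fun r hr hd => by
      rw [hAc] at hd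
      rwa [(Nat.prime_dvd_prime_iff_eq hr hp).1 (hr.dvd_of_dvd_pow hd)]
    exact (Cfsg.Agent.S1418.result hG L hL E' hE' p ⟨hp, hps, pRankLE_two_of_not_mem_sigma hG hL hp hps,
      not_pRankLE_of_le hAL hAe hAc.ge⟩ A ⟨hAE', hAe, hAc⟩).2.1.2.2 hNL
  -- every prime of `X` lies in `σ(L) \ β(L)`
  have hsig : ∀ r : ℕ, r.Prime → r ∣ Nat.card X → r ∈ Cfsg.sigma L ∧ r ∉ Cfsg.beta L := by
    intro r hr hd
    haveI := Fact.mk hr
    obtain ⟨-, hrs, hr2, hr1⟩ := hX r hr hd
    refine ⟨?_, fun hb => (Cfsg.Agent.S1408.result hG M hM r hrs hr2 hr1).1 hb.2⟩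
    rcases eq_or_ne r p with rfl | hne
    · exact hpL
    by_contra hrL
    obtain ⟨B, hBE, hBe, hBc, hEB⟩ := hplane r hr hd
    have hBL : B ≤ L := hBE.trans hEL
    have h12 := (Cfsg.Agent.S1417.result hG L hL r ⟨hr, hrL, pRankLE_two_of_not_mem_sigma hG hL hr hrL,
      not_pRankLE_of_le hBL hBe hBc.ge⟩ B ⟨hBL, hBe, hBc⟩).2.2.2.1
    apply hA1
    rw [eq_bot_iff, ← h12]
    refine le_inf (le_sigmaCore_of_primes hG hL hAL fun s hs hsd => ?_) ?_
    · rw [hAc] at hsd
      rwa [(Nat.prime_dvd_prime_iff_eq hs hp).1 (hs.dvd_of_dvd_pow hsd)]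
    · refine le_centralizer_of_normalize (hAE.trans hEB) (hBE.trans hEA) ?_
      refine inf_eq_bot_of_coprime ?_
      rw [hAc, hBc]
      exact Nat.Coprime.pow _ _ ((Nat.coprime_primes hp hr).2 hne.symm)
  -- so `X` lies in a conjugate of a nilpotent Hall subgroup of `L_σ`
  obtain ⟨H, hH, hHn⟩ := (Cfsg.Agent.S1414.result hG L hL).2.2.2.1
  have hXs : X ≤ Cfsg.sigmaCore L :=
    le_sigmaCore_of_primes hG hL (hXE.trans hEL) fun r hr hd => (hsig r hr hd).1
  obtain ⟨m, -, hm⟩ := exists_conj_le_isPiHallOf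
    (minSimple_solvable hG fun h => hL.1 (top_le_iff.1 (h ▸ sigmaCore_le L))) hXs
    (fun r hr hd => (⟨hr, (hsig r hr hd).2⟩ : r ∈ {s | s.Prime ∧ s ∉ Cfsg.beta L})) hH
  have h1 : Group.IsNilpotent (X.map (MulAut.conj m).toMonoidHom) := isNilpotent_of_le hm hHn
  haveI := h1
  exact Group.nilpotent_of_mulEquiv
    (X.equivMapOfInjective (MulAut.conj m).toMonoidHom (MulAut.conj m).injective).symm

/-- An abelian group all whose Sylow subgroups are cyclic, given as a subgroup without `E_{p²}`. -/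
theorem isCyclic_of_nilpotent_no_plane (hG : Cfsg.IsMinSimpleOddOrder G) {X : Subgroup G}
    (hX : Group.IsNilpotent X)
    (h : ∀ r : ℕ, r.Prime → ∀ A : Subgroup G, A ≤ X → Cfsg.IsElementaryAbelian r A →
      Nat.card A ≠ r ^ 2) : IsCyclic X := by
  haveI := hX
  haveI : IsZGroup X := by
    refine ⟨fun r hr P => ?_⟩
    haveI := Fact.mk hr
    by_contra hnc
    have hnc' : ¬ IsCyclic ((P : Subgroup X).map X.subtype) := fun hc => hnc
      (isCyclic_of_surjective _
        ((P : Subgroup X).equivMapOfInjective _ X.subtype_injective).symm.surjective)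
    have hr2 : r ≠ 2 := by
      refine minSimple_prime_ne_two_subgroup hG (H := (P : Subgroup X).map X.subtype) ?_
      by_contra hd
      apply hnc'
      obtain ⟨n, hn⟩ := IsPGroup.iff_card.1 (P.isPGroup'.map X.subtype)
      rcases Nat.eq_zero_or_pos n with rfl | hn0
      · haveI : Subsingleton ((P : Subgroup X).map X.subtype) :=
          (Nat.card_eq_one_iff_unique.1 (by rw [hn, pow_zero])).1
        infer_instance
      · exact absurd (hn ▸ dvd_pow_self r hn0.ne') hd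
    obtain ⟨A, hAP, hAe, hAc⟩ :=
      exists_elementary_card_sq_of_not_isCyclic (P.isPGroup'.map _) hr2 hnc'
    exact h r hr A (hAP.trans (map_subtype_le _)) hAe hAc
  infer_instance

/-- BG 15.? (a): `O_σ'(F(M))` is a cyclic `τ₂(M)`-group and, with `F(M_σ)`, generates `F(M)`. -/
theorem fittingOf_sigmaPrime_part (hG : Cfsg.IsMinSimpleOddOrder G) {M : Subgroup G}
    (hM : IsCoatom M) :
    IsCyclic ↥(Cfsg.piCoreOf {q | q.Prime ∧ q ∉ Cfsg.sigma M} (Cfsg.fittingOf M)) ∧
      (∀ p : ℕ, p.Prime →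
        p ∣ Nat.card ↥(Cfsg.piCoreOf {q | q.Prime ∧ q ∉ Cfsg.sigma M} (Cfsg.fittingOf M)) →
          p ∈ Cfsg.tau2 M) ∧
      Cfsg.fittingOf M = Cfsg.fittingOf (Cfsg.sigmaCore M) ⊔
        Cfsg.piCoreOf {q | q.Prime ∧ q ∉ Cfsg.sigma M} (Cfsg.fittingOf M) := by
  set Y := Cfsg.piCoreOf {q | q.Prime ∧ q ∉ Cfsg.sigma M} (Cfsg.fittingOf M) with hY
  have hYF : Y ≤ Cfsg.fittingOf M := piCoreOf_le _ _
  have hYM : Y ≤ M := hYF.trans (fittingOf_le M)
  have hYn : Group.IsNilpotent Y := isNilpotent_of_le hYF (isNilpotent_fittingOf M)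
  have hYnorm : M ≤ normalizer (Y : Set G) :=
    (le_normalizer_fittingOf M).trans (normalizer_le_normalizer_piCoreOf _ _)
  have htau : ∀ p : ℕ, p.Prime → p ∣ Nat.card Y → p ∈ Cfsg.tau2 M := by
    intro p hp hd
    haveI := Fact.mk hp
    have hps : p ∉ Cfsg.sigma M := (isPiSubgroup_piCoreOf _ _ p hp hd).2
    refine ⟨hp, hps, pRankLE_two_of_not_mem_sigma hG hM hp hps, fun hr1 => ?_⟩
    set P := Cfsg.piCoreOf ({p} : Set ℕ) Y with hP
    have hPp : IsPGroup p P := isPGroup_of_isPiSubgroup (isPiSubgroup_piCoreOf _ _)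
    have hPY : P ≤ Y := piCoreOf_le _ _
    have hPM : M ≤ normalizer (P : Set G) := hYnorm.trans (normalizer_le_normalizer_piCoreOf _ _)
    obtain ⟨x, hx⟩ := exists_prime_orderOf_dvd_card' p hd
    have hxo : orderOf (x : G) = p := by rw [Subgroup.orderOf_coe, hx]
    have hXc : Nat.card (zpowers (x : G)) = p := by rw [Nat.card_zpowers, hxo]
    have hXP : zpowers (x : G) ≤ P := nilpotent_le_piCoreOf hYn (zpowers_le.2 x.2)
      (isPiSubgroup_of_isPGroup (IsPGroup.of_card (n := 1) (by rw [hXc, pow_one])) rfl)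
    have hPc : IsCyclic P := by
      by_contra hnc
      obtain ⟨A, hAP, hAe, hAc⟩ := exists_elementary_card_sq_of_not_isCyclic hPp
        (minSimple_prime_ne_two_subgroup hG hd) hnc
      exact not_pRankLE_of_le ((hAP.trans hPY).trans hYM) hAe hAc.ge hr1
    have hXn : M ≤ normalizer ((zpowers (x : G) : Subgroup G) : Set G) := by
      intro m hm
      rw [mem_normalizer_iff_map_conj_eq]
      have hle : (zpowers (x : G)).map (MulAut.conj m).toMonoidHom ≤ P :=
        (map_mono hXP).trans (map_conj_eq_self_iff.2 (hPM hm)).le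
      haveI := hPc
      have h := eq_of_card_eq_of_isCyclic
        (H := ((zpowers (x : G)).map (MulAut.conj m).toMonoidHom).subgroupOf P)
        (K := (zpowers (x : G)).subgroupOf P) (by
          rw [Nat.card_congr (subgroupOfEquivOfLe hle).toEquiv,
            Nat.card_congr (subgroupOfEquivOfLe hXP).toEquiv, card_map_conj])
      have h' := congrArg (Subgroup.map P.subtype) h
      rwa [map_subgroupOf_eq_of_le hle, map_subgroupOf_eq_of_le hXP] at h'
    exact (Cfsg.Agent.S1409.result hG M hM p hps (zpowers (x : G)) hXc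
      (normalizer_eq_of_normal_prime_card hG hM hp hXc ((hXP.trans hPY).trans hYM) hXn).le).1.2 hr1
  refine ⟨?_, htau, fittingOf_eq_sup_piCoreOf M⟩
  refine isCyclic_of_nilpotent_no_plane hG hYn fun r hr A hAY hAe hAc => ?_
  haveI := Fact.mk hr
  have hrY : r ∣ Nat.card Y :=
    (hAc ▸ dvd_pow_self r two_ne_zero : r ∣ Nat.card A).trans (card_dvd_of_le hAY)
  have h := Cfsg.Agent.S1417.result hG M hM r (htau r hr hrY) A ⟨hAY.trans hYM, hAe, hAc⟩
  apply minSimple_sigmaCore_ne_bot hG hM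
  rw [eq_bot_iff, ← h.2.2.2.1]
  refine le_inf le_rfl (le_centralizer_iff.1 ?_)
  have hsF : Cfsg.sigmaCore M ≤ Cfsg.piCoreOf (Cfsg.sigma M) (Cfsg.fittingOf M) :=
    nilpotent_le_piCoreOf (isNilpotent_fittingOf M)
      (le_fittingOf (sigmaCore_le M) (le_normalizer_sigmaCore M) h.1) (isPiSubgroup_sigmaCore M)
  exact (hAY.trans (piCoreOf_le_centralizer_piCoreOf (Cfsg.fittingOf M)
    (Set.disjoint_left.2 fun q ha hb => ha.2 hb))).trans (centralizer_le hsF)

/-- BG 15.3, first half: `C_M(H) = C_{M_σ}(H) X` with `X` a cyclic `τ₂(M)`-group. -/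
theorem centralizer_hall_sigmaCore (F : BG15.BG14Facts G) (hG : Cfsg.IsMinSimpleOddOrder G) {M H : Subgroup G}
    (hM : IsCoatom M) (hH : H ≤ Cfsg.sigmaCore M) (hH1 : H ≠ ⊥)
    (hHall : (Nat.card H).Coprime (H.relIndex (Cfsg.sigmaCore M))) :
    ∃ X : Subgroup G, IsCyclic X ∧ (∀ p : ℕ, p.Prime → p ∣ Nat.card X → p ∈ Cfsg.tau2 M) ∧
      M ⊓ centralizer (H : Set G) = (Cfsg.sigmaCore M ⊓ centralizer (H : Set G)) ⊔ X := by
  have hMsol := minSimple_coatom_solvable hG hM
  set C := M ⊓ centralizer (H : Set G) with hC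
  have hCtop : C ≠ ⊤ := fun h => hM.1 (top_le_iff.1 (h ▸ inf_le_left))
  obtain ⟨X, hX⟩ := exists_isPiHallOf {r | r.Prime ∧ r ∉ Cfsg.sigma M}
    (minSimple_solvable hG hCtop)
  have hXM : X ≤ M := hX.1.trans inf_le_left
  have hXH : X ≤ centralizer (H : Set G) := hX.1.trans inf_le_right
  have hσ := (sigmaCore_isHall hG hM).1
  -- no prime of `X` lies in `κ(M)`
  have htau : ∀ p : ℕ, p.Prime → p ∣ Nat.card X → p ∈ Cfsg.tau2 M := by
    intro p hp hd
    haveI := Fact.mk hp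
    obtain ⟨x', hx'⟩ := exists_prime_orderOf_dvd_card' p hd
    have hxo : orderOf (x' : G) = p := by rw [Subgroup.orderOf_coe, hx']
    obtain ⟨h, hh, hh1, hcomm⟩ := exists_commute_of_centralizes hH1 (hXH x'.2)
    have hpx : ∀ r : ℕ, r.Prime → r ∣ orderOf (x' : G) → r = p := fun r hr hrd =>
      (Nat.prime_dvd_prime_iff_eq hr hp).1 (hxo ▸ hrd)
    rcases F.sigmaPrimeCentralizer M hM h (hH hh) hh1 (x' : G)
      ⟨hXM x'.2, mem_centralizer_singleton_iff.2 hcomm⟩
      (fun h1 => hp.ne_one (by rw [← hxo, h1, orderOf_one]))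
      (fun r hr hrd => hpx r hr hrd ▸ (hX.2.1 p hp hd).2) with h1 | h1
    · exfalso
      obtain ⟨K, hK⟩ := exists_isPiHallOf (Cfsg.kappa M) hMsol
      have hpk : p ∈ Cfsg.kappa M := h1.1 p hp (by rw [hxo])
      obtain ⟨m, hm, hmK⟩ := exists_conj_le_isPiHallOf hMsol (zpowers_le.2 (hXM x'.2))
        (π := Cfsg.kappa M) (isPiSubgroup_of_isPGroup (p := p)
          (IsPGroup.of_card (n := 1) (by rw [Nat.card_zpowers, hxo, pow_one])) hpk) hK
      have hk : m * (x' : G) * m⁻¹ ∈ K := hmK ⟨x', mem_zpowers _, rfl⟩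
      have hk1 : m * (x' : G) * m⁻¹ ≠ 1 := fun h2 => hp.ne_one (by
        rw [← hxo, orderOf_eq_one_iff]; simpa using h2)
      have hK1 : K ≠ ⊥ := fun h2 => hk1 (mem_bot.1 (h2 ▸ hk))
      set H' := H.map (MulAut.conj m).toMonoidHom with hH'
      have hH'σ : H' ≤ Cfsg.sigmaCore M :=
        (map_mono hH).trans (map_conj_eq_self_iff.2 (le_normalizer_sigmaCore M hm)).le
      have hH'K : H' ≤ Cfsg.sigmaCore M ⊓ centralizer (K : Set G) := by
        rw [← (F.kappaStructure M hM K hK hK1).1 _ hk hk1]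
        refine le_inf hH'σ fun y hy => mem_centralizer_iff.2 fun z hz => ?_
        rw [Set.mem_singleton_iff.1 hz]
        exact (mem_centralizer_iff.1 (mem_centralizer_conj (g := m) (hXH x'.2)) y hy).symm
      obtain ⟨r, hr, hrd⟩ := Nat.exists_prime_and_dvd ((one_lt_card_iff_ne_bot H).2 hH1).ne'
      haveI := Fact.mk hr
      have hrH' : r ∣ Nat.card H' := by rw [hH', card_map_conj]; exact hrd
      obtain ⟨T⟩ : Nonempty (Sylow r H') := inferInstance
      set T' := (T : Subgroup H').map H'.subtype with hT'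
      have hT'H : T' ≤ H' := map_subtype_le _
      have hndvd : ¬ r ∣ T'.relIndex (Cfsg.sigmaCore M) := by
        rw [← Subgroup.relIndex_mul_relIndex T' H' _ hT'H hH'σ]
        intro h2
        rcases hr.dvd_mul.1 h2 with h3 | h3
        · rw [hT', Subgroup.relIndex, Subgroup.subgroupOf,
            comap_map_eq_self_of_injective H'.subtype_injective] at h3
          exact T.not_dvd_index h3
        · have hmap : Cfsg.sigmaCore M = (Cfsg.sigmaCore M).map (MulAut.conj m).toMonoidHom :=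
            (map_conj_eq_self_iff.2 (le_normalizer_sigmaCore M hm)).symm
          rw [hmap, hH', Subgroup.relIndex_map_map_of_injective _ _ (MulAut.conj m).injective] at h3
          exact hr.not_dvd_one (hHall ▸ Nat.dvd_gcd hrd h3)
      have hS := ((F.kappaUnique M hM K hK hK1).2.2.1 r hr (hrH'.trans (card_dvd_of_le hH'K))
        ((T.isPGroup'.map H'.subtype).comap_subtype.toSylow hndvd)).2.2
      apply hS
      rw [show (((T.isPGroup'.map H'.subtype).comap_subtype.toSylow hndvd :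
          Sylow r (Cfsg.sigmaCore M)) : Subgroup (Cfsg.sigmaCore M)) =
          T'.subgroupOf (Cfsg.sigmaCore M) from rfl, map_subgroupOf_eq_of_le (hT'H.trans hH'σ)]
      exact hT'H.trans hH'K
    · exact h1.1 p hp (by rw [hxo])
  refine ⟨X, ?_, htau, ?_⟩
  · have hab := isMulCommutative_of_tau2_subgroup hG hM hXM htau
    haveI : Group.IsNilpotent X := by
      letI : CommGroup X :=
        { (inferInstance : Group X) with mul_comm := fun a b => hab.is_comm.comm a b }
      infer_instance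
    refine isCyclic_of_nilpotent_no_plane hG inferInstance fun r hr A hAX hAe hAc => hH1 ?_
    haveI := Fact.mk hr
    have hd : r ∣ Nat.card X :=
      (hAc ▸ dvd_pow_self r two_ne_zero : r ∣ Nat.card A).trans (card_dvd_of_le hAX)
    rw [eq_bot_iff, ← (Cfsg.Agent.S1417.result hG M hM r (htau r hr hd) A
      ⟨hAX.trans hXM, hAe, hAc⟩).2.2.2.1]
    exact le_inf hH (le_centralizer_iff.1 (hAX.trans hXH))
  · set Cσ := Cfsg.sigmaCore M ⊓ centralizer (H : Set G) with hCσ
    refine le_antisymm (relIndex_eq_one.1 (Nat.eq_one_iff_not_exists_prime_dvd.2 fun r hr hd => ?_))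
      (sup_le (inf_le_inf_right _ (sigmaCore_le M)) hX.1)
    have h1 : r ∣ Cσ.relIndex C := hd.trans (relIndex_dvd_of_le_left _ le_sup_left)
    have h2 : r ∣ X.relIndex C := hd.trans (relIndex_dvd_of_le_left _ le_sup_right)
    have h3 : Cσ.relIndex C = (Cfsg.sigmaCore M).relIndex C := by
      have : Cσ = Cfsg.sigmaCore M ⊓ C := by
        rw [hCσ, hC, ← inf_assoc, inf_eq_left.2 (sigmaCore_le M)]
      rw [this, Subgroup.inf_relIndex_right]
    have h4 : (Cfsg.sigmaCore M).relIndex C ∣ (Cfsg.sigmaCore M).relIndex M := by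
      haveI : ((Cfsg.sigmaCore M).subgroupOf M).Normal :=
        (normal_subgroupOf_iff_le_normalizer (sigmaCore_le M)).2 (le_normalizer_sigmaCore M)
      have h := Subgroup.relIndex_dvd_index_of_normal ((Cfsg.sigmaCore M).subgroupOf M)
        (C.subgroupOf M)
      rwa [Subgroup.relIndex_subgroupOf inf_le_left] at h
    by_cases hrσ : r ∈ Cfsg.sigma M
    · exact hσ.2.2 r hr hrσ ((h3 ▸ h1).trans h4)
    · exact hX.2.2 r hr ⟨hr, hrσ⟩ h2

end CfsgLib.OddOrder
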