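import Cfsg.Agent.OddOrder.BG15.Basic
import Cfsg.Agent.OddOrder.BG15.HallTools
import Cfsg.Agent.OddOrder.BG15.Kappa
import Cfsg.Agent.S1446

/-!
# BG 15: the factorisation `M = K U M_σ`; `#K` is prime for type P₂ and `#K*` for type P₁
-/

set_option autoImplicit false
set_option linter.style.haveILetI false

namespace CfsgLib.OddOrder

open Cfsg Subgroup

variable {G : Type*} [Group G] [Finite G]

section decomposition

variable {M K U : Subgroup G}

theorem sigmaDecomp_K_le (h : Cfsg.IsSigmaDecomposition M K U) : K ≤ M := h.hall.1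

theorem sigmaDecomp_U_le (h : Cfsg.IsSigmaDecomposition M K U) : U ≤ M := h.compl.1

theorem sigmaDecomp_K_prime (h : Cfsg.IsSigmaDecomposition M K U) {r : ℕ} (hr : r.Prime)
    (hd : r ∣ Nat.card K) : r ∈ Cfsg.kappa M ∧ r ∉ Cfsg.sigma M :=
  ⟨h.hall.2.1 r hr hd, (h.hall.2.1 r hr hd).2.2.1⟩

theorem sigmaDecomp_K_coprime (h : Cfsg.IsSigmaDecomposition M K U) :
    (Nat.card K).Coprime (Nat.card (Cfsg.sigmaCore M)) :=
  Nat.coprime_of_dvd fun r hr h1 h2 =>
    (sigmaDecomp_K_prime h hr h1).2 (isPiSubgroup_sigmaCore M r hr h2)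

/-- `#U · (#K · #M_σ) = #M`. -/
theorem sigmaDecomp_card (h : Cfsg.IsSigmaDecomposition M K U) :
    Nat.card U * (Nat.card K * Nat.card (Cfsg.sigmaCore M)) = Nat.card M := by
  rw [← compl_card h.compl]
  congr 1
  have hKn : K ≤ normalizer ((Cfsg.sigmaCore M : Subgroup G) : Set G) :=
    (sigmaDecomp_K_le h).trans (le_normalizer_sigmaCore M)
  refine compl_card (M := K ⊔ Cfsg.sigmaCore M) ⟨le_sup_left, le_sup_right,
    inf_eq_bot_of_coprime (sigmaDecomp_K_coprime h), fun m hm => ?_⟩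
  rw [← SetLike.mem_coe, Subgroup.coe_mul_of_left_le_normalizer_right _ _ hKn] at hm
  obtain ⟨a, ha, b, hb, rfl⟩ := hm
  exact ⟨a, ha, b, hb, rfl⟩

theorem sigmaDecomp_U_prime (hG : Cfsg.IsMinSimpleOddOrder G) (hM : IsCoatom M)
    (h : Cfsg.IsSigmaDecomposition M K U) {r : ℕ} (hr : r.Prime) (hd : r ∣ Nat.card U) :
    r ∉ Cfsg.sigma M ∧ r ∉ Cfsg.kappa M := by
  have hc := sigmaDecomp_card h
  constructor
  · intro hrσ
    refine (sigmaCore_isHall hG hM).1.2.2 r hr hrσ ?_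
    have h1 : Nat.card (Cfsg.sigmaCore M) * (Cfsg.sigmaCore M).relIndex M =
        Nat.card (Cfsg.sigmaCore M) * (Nat.card U * Nat.card K) := by
      rw [card_mul_relIndex (sigmaCore_le M), ← hc]; ring
    rw [Nat.eq_of_mul_eq_mul_left Nat.card_pos h1]
    exact dvd_mul_of_dvd_left hd _
  · intro hrκ
    refine h.hall.2.2 r hr hrκ ?_
    have h1 : Nat.card K * K.relIndex M =
        Nat.card K * (Nat.card U * Nat.card (Cfsg.sigmaCore M)) := by
      rw [card_mul_relIndex (sigmaDecomp_K_le h), ← hc]; ring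
    rw [Nat.eq_of_mul_eq_mul_left Nat.card_pos h1]
    exact dvd_mul_of_dvd_left hd _

theorem sigmaDecomp_exists_mul (h : Cfsg.IsSigmaDecomposition M K U) {m : G} (hm : m ∈ M) :
    ∃ u ∈ U, ∃ k ∈ K, ∃ s ∈ Cfsg.sigmaCore M, m = u * (k * s) := by
  obtain ⟨u, hu, w, hw, rfl⟩ := h.compl.2.2.2 m hm
  rw [← SetLike.mem_coe, Subgroup.coe_mul_of_left_le_normalizer_right _ _
    ((sigmaDecomp_K_le h).trans (le_normalizer_sigmaCore M))] at hw
  obtain ⟨k, hk, s, hs, rfl⟩ := hw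
  exact ⟨u, hu, k, hk, s, hs, rfl⟩

/-- For `U = 1` the group `K` complements `M_σ`. -/
theorem sigmaDecomp_isComplIn_of_U_eq_bot (h : Cfsg.IsSigmaDecomposition M K U) (hU : U = ⊥) :
    Cfsg.IsComplIn K (Cfsg.sigmaCore M) M := by
  refine ⟨sigmaDecomp_K_le h, sigmaCore_le M, inf_eq_bot_of_coprime (sigmaDecomp_K_coprime h),
    fun m hm => ?_⟩
  obtain ⟨u, hu, k, hk, s, hs, rfl⟩ := sigmaDecomp_exists_mul h hm
  rw [hU, mem_bot] at hu
  exact ⟨k, hk, s, hs, by rw [hu, one_mul]⟩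

/-- A Sylow subgroup of `M` lying in `U`, for each prime dividing `#U`. -/
theorem sigmaDecomp_exists_sylow (hG : Cfsg.IsMinSimpleOddOrder G) (hM : IsCoatom M)
    (h : Cfsg.IsSigmaDecomposition M K U) {p : ℕ} [Fact p.Prime] (hd : p ∣ Nat.card U) :
    ∃ S : Sylow p M, (S : Subgroup M).map M.subtype ≤ U := by
  obtain ⟨P⟩ : Nonempty (Sylow p U) := inferInstance
  set P' := (P : Subgroup U).map U.subtype with hP'
  have hP'U : P' ≤ U := map_subtype_le _
  have hP'M : P' ≤ M := hP'U.trans (sigmaDecomp_U_le h)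
  have hnd : ¬ p ∣ P'.relIndex M := by
    rw [← Subgroup.relIndex_mul_relIndex P' U M hP'U (sigmaDecomp_U_le h)]
    intro h2
    rcases (Fact.out : p.Prime).dvd_mul.1 h2 with h3 | h3
    · rw [hP', Subgroup.relIndex, Subgroup.subgroupOf,
        comap_map_eq_self_of_injective U.subtype_injective] at h3
      exact P.not_dvd_index h3
    · have h4 : Nat.card U * U.relIndex M =
          Nat.card U * (Nat.card K * Nat.card (Cfsg.sigmaCore M)) := by
        rw [card_mul_relIndex (sigmaDecomp_U_le h), sigmaDecomp_card h]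
      rw [Nat.eq_of_mul_eq_mul_left Nat.card_pos h4] at h3
      have hU := sigmaDecomp_U_prime hG hM h Fact.out hd
      rcases (Fact.out : p.Prime).dvd_mul.1 h3 with h5 | h5
      · exact hU.2 (sigmaDecomp_K_prime h Fact.out h5).1
      · exact hU.1 (isPiSubgroup_sigmaCore M p Fact.out h5)
  refine ⟨(P.isPGroup'.map U.subtype).comap_subtype.toSylow hnd, ?_⟩
  rw [show (((P.isPGroup'.map U.subtype).comap_subtype.toSylow hnd : Sylow p M) : Subgroup M) =
    P'.subgroupOf M from rfl, map_subgroupOf_eq_of_le hP'M]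
  exact hP'U

end decomposition

/-- For `U ≠ 1`: `M_σ` is nilpotent and `C_{M_σ}(U) = 1`. -/
theorem sigmaCore_facts_of_U_ne_bot (F : BG15.BG14Facts G) (hG : Cfsg.IsMinSimpleOddOrder G) {M K U : Subgroup G}
    (hM : IsCoatom M) (h : Cfsg.IsSigmaDecomposition M K U) (hU : U ≠ ⊥) :
    Group.IsNilpotent (Cfsg.sigmaCore M) ∧
      Cfsg.sigmaCore M ⊓ centralizer (U : Set G) = ⊥ := by
  obtain ⟨p, hp, hd⟩ := Nat.exists_prime_and_dvd ((one_lt_card_iff_ne_bot U).2 hU).ne'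
  haveI := Fact.mk hp
  obtain ⟨hps, hpk⟩ := sigmaDecomp_U_prime hG hM h hp hd
  obtain ⟨S, hS⟩ := sigmaDecomp_exists_sylow hG hM h hd
  have hpM : p ∣ Nat.card M := hd.trans (card_dvd_of_le (sigmaDecomp_U_le h))
  obtain ⟨-, h2, h3⟩ := F.nonP1 M hM (fun hall => hpk (hall p hp hpM hps)) p hpM
    (by simp [hps, hpk]) S
  refine ⟨h3, le_bot_iff.1 (le_trans (inf_le_inf_left _ (centralizer_le ?_)) h2.le)⟩
  exact (closure_le U).2 fun x hx => hS hx.1

/-- BG 15.8, prime order: for type P₂ the group `K` has prime order. -/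
theorem prime_card_kappa_of_U_ne_bot (F : BG15.BG14Facts G) (hG : Cfsg.IsMinSimpleOddOrder G) {M K U : Subgroup G}
    (hM : IsCoatom M) (h : Cfsg.IsSigmaDecomposition M K U) (hK : K ≠ ⊥) (hU : U ≠ ⊥) :
    (Nat.card K).Prime := by
  obtain ⟨hnil, hCU⟩ := sigmaCore_facts_of_U_ne_bot F hG hM h hU
  have hUK : U ⊓ K = ⊥ := inf_eq_bot_of_coprime (Nat.coprime_of_dvd fun r hr h1 h2 =>
    (sigmaDecomp_U_prime hG hM h hr h1).2 (sigmaDecomp_K_prime h hr h2).1)
  have htop : U ⊔ K ≠ ⊤ := fun h' =>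
    hM.1 (top_le_iff.1 (h' ▸ sup_le (sigmaDecomp_U_le h) (sigmaDecomp_K_le h)))
  have hcop : (Nat.card ↥(U ⊔ K)).Coprime (Nat.card (Cfsg.sigmaCore M)) := by
    have h1 : IsPiSubgroup ({r | r ∉ Cfsg.sigma M} : Set ℕ) (K ⊔ U) :=
      isPiSubgroup_sup h.normal (fun r hr hd => (sigmaDecomp_K_prime h hr hd).2)
        (fun r hr hd => (sigmaDecomp_U_prime hG hM h hr hd).1)
    rw [sup_comm]
    exact Nat.coprime_of_dvd fun r hr hd hd' => h1 r hr hd (isPiSubgroup_sigmaCore M r hr hd')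
  exact (Cfsg.Agent.S1446.result U K (Cfsg.sigmaCore M) hU hK hUK h.normal
    (fun k hk hk1 => BG15.U_inf_centralizer_eq_bot F hM h hk hk1)
    (minSimple_solvable hG htop) (minSimple_odd_subgroup hG _)
    (minSimple_sigmaCore_ne_bot hG hM) hnil
    ((sigmaDecomp_U_le h).trans (le_normalizer_sigmaCore M))
    ((sigmaDecomp_K_le h).trans (le_normalizer_sigmaCore M)) hcop hCU
    ((F.kappaStructure M hM K h.hall hK).1)).1

/-- For type P₁ the group `K* = C_{M_σ}(K)` has prime order. -/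
theorem prime_card_kappaStar_of_U_eq_bot (F : BG15.BG14Facts G) (hG : Cfsg.IsMinSimpleOddOrder G) {M K U : Subgroup G}
    (hM : IsCoatom M) (h : Cfsg.IsSigmaDecomposition M K U) (hK : K ≠ ⊥) (hU : U = ⊥) :
    (Nat.card ↥(Cfsg.sigmaCore M ⊓ centralizer (K : Set G))).Prime := by
  obtain ⟨Ms, ⟨hMs, hKst, hKstH⟩, -⟩ := F.starExists M hM K U h hK
  have hne := BG15.kappaStar_ne_bot F hM h.hall hK
  obtain ⟨Us, hUs⟩ := BG15.exists_sigmaDecomposition_of_hall F hG hMs hKstH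
  exact prime_card_kappa_of_U_ne_bot F hG hMs hUs hne
    (((F.starClasses M hM K U h hK Ms hMs hKst hKstH).1.resolve_left (absurd hU ·)) Us hUs)

end CfsgLib.OddOrder
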